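import Cfsg.Agent.AschbacherUnitary.Basic
import Cfsg.Agent.Aschbacher.ProperSL
import Cfsg.Agent.Aschbacher.AlgebraReduction

/-!
The special unitary group in dimension at least five lies in none of the geometric stabilisers relevant in prime
dimension.
-/

set_option autoImplicit false

namespace CfsgLib.AschbacherUnitary

open Matrix CfsgLib.Aschbacher
open scoped commutatorElement

variable {n q : ℕ} {F : Type*} [Field F] [Fintype F] {σ : F ≃+* F}

theorem commutator_le_self {G : Type*} [Group G] (S : Subgroup G) : ⁅S, S⁆ ≤ S := by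
  rw [Subgroup.commutator_le]
  intro a ha b hb
  rw [commutatorElement_def]
  exact mul_mem (mul_mem (mul_mem ha hb) (inv_mem ha)) (inv_mem hb)

theorem not_le_subspaceStabilizer (hF : Fintype.card F = q ^ 2) (h : IsConj q σ) (hn : 5 ≤ n)
    {W : Submodule F (Fin n → F)} (h0 : W ≠ ⊥) (h1 : W ≠ ⊤) :
    ¬ SUn n F q ≤ Cfsg.Geo.subspaceStabilizer W := fun hle =>
  not_or.2 ⟨h0, h1⟩
    ((actsIrreducibly_iff.1 (commutator_absIrred hF h hn).1) W ((commutator_le_self _).trans hle))

theorem mat_mem_of_conj {g B : GL (Fin n) F} (hB : B ∈ Cfsg.GU n F q) (hg : g ∈ SUn n F q) :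
    B * g * B⁻¹ ∈ SUn n F q := by
  rw [Subgroup.mem_inf] at hg ⊢
  refine ⟨mul_mem (mul_mem hB hg.1) (inv_mem hB), ?_⟩
  have h1 := hg.2
  rw [Cfsg.Geo.specialLinear, MonoidHom.mem_ker] at h1 ⊢
  rw [map_mul, map_mul, h1, mul_one, map_inv, mul_inv_cancel]

/-- Lines spanned by an orthogonal basis. -/
theorem exists_orthonormal (h : IsConj q σ) {D : Fin n → Submodule F (Fin n → F)}
    (hD : Cfsg.Geo.IsNondegenerateMDecomposition (Cfsg.hermForm n F q) 1 D) :
    ∃ B ∈ Cfsg.GU n F q, ∀ i, D i = Submodule.span F {mat B *ᵥ Pi.single i 1} := by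
  classical
  have hs := h.unitary (n := n)
  have hline : ∀ i, ∃ u : Fin n → F, D i = Submodule.span F {u} ∧ Cfsg.hermForm n F q u u = 1 := by
    intro i
    obtain ⟨v, hv, hv0⟩ := (Submodule.ne_bot_iff _).1 (fun e => by
      have := hD.decomp.finrank_eq i
      rw [e, finrank_bot] at this
      exact zero_ne_one this : D i ≠ ⊥)
    have hspan : D i = Submodule.span F {v} := by
      refine (Submodule.eq_of_le_of_finrank_eq (by simpa using hv) ?_).symm
      rw [finrank_span_singleton hv0, hD.decomp.finrank_eq]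
    obtain ⟨⟨x, hx, hxv⟩, -⟩ := hD.nondegenerate i v hv hv0
    rw [hspan] at hx
    obtain ⟨c, rfl⟩ := Submodule.mem_span_singleton.1 hx
    rw [hs.smul_left] at hxv
    have hc := right_ne_zero_of_mul hxv
    have hfix : σ (Cfsg.hermForm n F q v v)⁻¹ = (Cfsg.hermForm n F q v v)⁻¹ := by
      rw [map_inv₀, ← hs.herm v v]
    obtain ⟨s, hsn⟩ := CfsgLib.MaxSub.norm_surjective h.ne_refl h.involutive hfix
    have hs0 : s ≠ 0 := by
      rintro rfl
      rw [zero_mul, eq_comm, inv_eq_zero] at hsn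
      exact hc hsn
    refine ⟨s • v, ?_, ?_⟩
    · rw [hspan]
      exact (Submodule.span_singleton_smul_eq (Ne.isUnit hs0) v).symm
    · rw [hs.smul_left, h.sesq.smul_right, ← mul_assoc, hsn, inv_mul_cancel₀ hc]
  choose u hu hu1 using hline
  let B : Matrix (Fin n) (Fin n) F := Matrix.of fun r i => u i r
  have hcol : ∀ i, B *ᵥ Pi.single i 1 = u i := fun i => by
    funext r; simp [B, Matrix.mulVec_single_one]
  have horth : Bᵀ * B.map σ = 1 := by
    ext a b
    rw [Matrix.mul_apply]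
    simp only [Matrix.transpose_apply, Matrix.map_apply, B, Matrix.of_apply]
    rw [← h.herm_eq]
    rcases eq_or_ne a b with rfl | hab
    · rw [hu1, Matrix.one_apply_eq]
    · rw [Matrix.one_apply_ne hab]
      exact hD.orthogonal a b hab _ (hu a ▸ Submodule.mem_span_singleton_self _) _
        (hu b ▸ Submodule.mem_span_singleton_self _)
  have hBu : IsUnit B := (Matrix.isUnit_transpose B).1
    (IsUnit.of_mul_eq_one _ horth)
  refine ⟨hBu.unit, h.mem_GU_iff.2 horth, fun i => ?_⟩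
  rw [show mat hBu.unit = B from rfl, hcol, ← hu]

theorem not_le_decompositionStabilizer (h : IsConj q σ) (hn : 5 ≤ n)
    {D : Fin n → Submodule F (Fin n → F)}
    (hD : Cfsg.Geo.IsNondegenerateMDecomposition (Cfsg.hermForm n F q) 1 D) :
    ¬ SUn n F q ≤ Cfsg.Geo.decompositionStabilizer D := by
  intro hle
  obtain ⟨B, hB, hBD⟩ := exists_orthonormal h hD
  obtain ⟨g, hg, -, -, -, -, -, -, i, j, k, hjk, hj, hk⟩ := exists_nonmonomial (n := n) h (by omega)
  obtain ⟨π, hπ⟩ := hle (mat_mem_of_conj hB hg)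
  have h1 := map_le_iff.1 (hπ i).le (mat B *ᵥ Pi.single i 1)
    (hBD i ▸ Submodule.mem_span_singleton_self _)
  rw [hBD (π i)] at h1
  obtain ⟨c, hc⟩ := Submodule.mem_span_singleton.1 h1
  have h2 : mat (B * g * B⁻¹) *ᵥ (mat B *ᵥ Pi.single i 1) = mat B *ᵥ (mat g *ᵥ Pi.single i 1) := by
    simp only [Matrix.mulVec_mulVec, mat, ← Units.val_mul]
    rw [inv_mul_cancel_right]
  rw [h2, ← Matrix.mulVec_smul] at hc
  have h3 := mulVec_injective B hc
  rcases eq_or_ne j (π i) with rfl | hji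
  · exact hk (by rw [← h3]; simp [hjk.symm])
  · exact hj (by rw [← h3]; simp [hji])

theorem conj_comm {r : ℕ} {K : Subalgebra F (Matrix (Fin n) (Fin n) F)} (hn : 0 < n)
    (hK : Cfsg.Geo.IsFieldSubalgebra r K) (φ ψ : K ≃ₐ[F] K) (x : K) : φ (ψ x) = ψ (φ x) := by
  classical
  haveI : NeZero n := ⟨hn.ne'⟩
  letI : CommRing K := { (inferInstance : Ring K) with mul_comm := fun a b => Subtype.ext (hK.comm a a.2 b b.2) }
  haveI : Nontrivial K := ⟨⟨0, 1, fun e => zero_ne_one (congrArg Subtype.val e : (0 : Matrix (Fin n) (Fin n) F) = 1)⟩⟩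
  haveI : NoZeroDivisors K := ⟨fun {a b} hab => by
    by_contra hne
    rw [not_or] at hne
    obtain ⟨a', ha', haa⟩ := hK.inv a.1 a.2 fun e => hne.1 (Subtype.ext e)
    apply hne.2
    apply Subtype.ext
    have h1 : a' * (a.1 * b.1) = 0 := by rw [show a.1 * b.1 = 0 from congrArg Subtype.val hab, mul_zero]
    rw [← mul_assoc, hK.comm a' ha' a.1 a.2, haa, one_mul] at h1
    exact h1⟩
  haveI : IsDomain K := NoZeroDivisors.to_isDomain _
  haveI : Finite K := inferInstance
  by_cases hx : x = 0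
  · simp [hx]
  obtain ⟨g, hg⟩ := IsCyclic.exists_monoid_generator (α := Kˣ)
  have hu : IsUnit x := by
    obtain ⟨x', hx', hxx⟩ := hK.inv x.1 x.2 fun e => hx (Subtype.ext e)
    exact IsUnit.of_mul_eq_one ⟨x', hx'⟩ (Subtype.ext hxx)
  obtain ⟨k, hk⟩ : ∃ k : ℕ, (g : K) ^ k = x := by
    obtain ⟨k, hk⟩ := hg hu.unit
    exact ⟨k, by rw [← Units.val_pow_eq_pow_val]; exact congrArg Units.val hk⟩
  obtain ⟨i, hi⟩ : ∃ i : ℕ, (g : K) ^ i = φ (g : K) := by
    obtain ⟨i, hi⟩ := hg (g.isUnit.map φ).unit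
    exact ⟨i, by rw [← Units.val_pow_eq_pow_val]; exact congrArg Units.val hi⟩
  obtain ⟨j, hj⟩ : ∃ j : ℕ, (g : K) ^ j = ψ (g : K) := by
    obtain ⟨j, hj⟩ := hg (g.isUnit.map ψ).unit
    exact ⟨j, by rw [← Units.val_pow_eq_pow_val]; exact congrArg Units.val hj⟩
  rw [← hk, map_pow, map_pow, map_pow, map_pow]
  congr 1
  rw [← hi, ← hj, map_pow, map_pow, ← hi, ← hj, ← pow_mul, ← pow_mul, mul_comm]

theorem not_le_subalgebraNormalizer (hF : Fintype.card F = q ^ 2) (h : IsConj q σ) (hn : 5 ≤ n) {r : ℕ}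
    (hr : 2 ≤ r) {K : Subalgebra F (Matrix (Fin n) (Fin n) F)} (hK : Cfsg.Geo.IsFieldSubalgebra r K) :
    ¬ SUn n F q ≤ Cfsg.Geo.subalgebraNormalizer K := by
  intro hle
  have hcent : ∀ x ∈ ⁅SUn n F q, SUn n F q⁆, ∀ k ∈ K, mat x * k = k * mat x := by
    intro x hx k hk
    let C : Subgroup (GL (Fin n) F) :=
      { carrier := {x | ∀ k ∈ K, mat x * k = k * mat x}
        one_mem' := fun k _ => by simp [mat]
        mul_mem' := fun {a b} ha hb k hk => by
          simp only [mat, Units.val_mul] at *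
          rw [mul_assoc, hb k hk, ← mul_assoc, ha k hk, mul_assoc]
        inv_mem' := fun {a} ha k hk => by
          have h1 : mat a⁻¹ * (mat a * k) * mat a⁻¹ = mat a⁻¹ * (k * mat a) * mat a⁻¹ := by
            rw [ha k hk]
          simpa [mat, mul_assoc] using h1.symm }
    have hC : ⁅SUn n F q, SUn n F q⁆ ≤ C := by
      rw [Subgroup.commutator_le]
      intro a ha b hb k hk
      let φ := conjEquiv (hle ha)
      let ψ := conjEquiv (hle hb)
      have e := congrArg Subtype.val (conj_comm (by omega) hK φ ψ (φ.symm (ψ.symm ⟨k, hk⟩)))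
      simp only [AlgEquiv.apply_symm_apply] at e
      have hsym : (φ.symm (ψ.symm ⟨k, hk⟩)).1 = mat a⁻¹ * (mat b⁻¹ * k * mat b) * mat a := rfl
      have e1 : ∀ z : K, (φ (ψ z)).1 = mat a * (mat b * z.1 * mat b⁻¹) * mat a⁻¹ := fun z => rfl
      rw [e1, hsym] at e
      have e2 : mat a * (mat b * (mat a⁻¹ * (mat b⁻¹ * k * mat b) * mat a) * mat b⁻¹) * mat a⁻¹ =
          mat ⁅a, b⁆ * k * mat ⁅a, b⁆⁻¹ := by
        simp [mat, commutatorElement_def, mul_assoc]
      rw [e2] at e
      calc mat ⁅a, b⁆ * k = mat ⁅a, b⁆ * k * (mat ⁅a, b⁆⁻¹ * mat ⁅a, b⁆) := by rw [mat_inv_mul, mul_one]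
        _ = _ := by rw [← mul_assoc, e]
    exact hC hx k hk
  haveI : NeZero n := ⟨by omega⟩
  have hbot : K ≤ ⊥ := fun k hk => by
    obtain ⟨c, hc⟩ := (commutator_absIrred hF h hn).2 k
      (forall_matrixSet.2 fun x hx => (hcent x hx k hk).symm)
    exact Algebra.mem_bot.2 ⟨c, by rw [hc, Algebra.algebraMap_eq_smul_one]⟩
  have h1 := hK.finrank_eq
  rw [le_bot_iff.1 hbot, Subalgebra.finrank_bot] at h1
  omega

theorem not_normalizes (h : IsConj q σ) (hn : 5 ≤ n) {R : Subgroup (GL (Fin n) F)}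
    (hR : Cfsg.Geo.ActsAbsolutelyIrreducibly (Cfsg.Geo.matrixSet R))
    (hcomm : ⁅R, R⁆ ≤ Cfsg.Geo.scalars (Fin n) F) :
    ¬ Normalizes (SUn n F q) R := by
  classical
  intro hnorm
  haveI : NeZero n := ⟨by omega⟩
  obtain ⟨g, hg, v, φ, h0, rfl, hv, hφ, i, j, k, hjk, hj, hk⟩ := exists_nonmonomial (n := n) h (by omega)
  set g := tv v φ h0 with hgdef
  have hgR : g ∈ Cfsg.Geo.scalars (Fin n) F := by
    refine mem_scalars_of_commute hR fun x hx => ?_
    set z := g * x * g⁻¹ * x⁻¹ with hz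
    have hzR : z ∈ R := mul_mem (hnorm g hg x hx) (inv_mem hx)
    let W : Submodule F (Fin n → F) :=
      LinearMap.ker (Matrix.mulVecLin (Matrix.of ![φ, φ ᵥ* mat x⁻¹]))
    have hW : n ≤ Module.finrank F W + 2 := by
      have h2 := (Matrix.mulVecLin (Matrix.of ![φ, φ ᵥ* mat x⁻¹])).finrank_range_add_finrank_ker
      have h3 := Submodule.finrank_le
        (LinearMap.range (Matrix.mulVecLin (Matrix.of ![φ, φ ᵥ* mat x⁻¹])))
      rw [Module.finrank_fin_fun] at h2 h3
      show n ≤ Module.finrank F (LinearMap.ker _) + 2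
      omega
    have hzW : ∀ y ∈ W, mat z *ᵥ y = y := by
      intro y hy
      rw [LinearMap.mem_ker, Matrix.mulVecLin_apply] at hy
      have hy0 : φ ⬝ᵥ y = 0 := congrFun hy 0
      have hy1 : φ ⬝ᵥ (mat x⁻¹ *ᵥ y) = 0 := by
        rw [Matrix.dotProduct_mulVec]; exact congrFun hy 1
      have hgi : mat g⁻¹ *ᵥ (mat x⁻¹ *ᵥ y) = mat x⁻¹ *ᵥ y := by
        rw [hgdef, mat_tv_inv, Matrix.sub_mulVec, Matrix.one_mulVec, Matrix.vecMulVec_mulVec, hy1]
        simp
      show mat (g * x * g⁻¹ * x⁻¹) *ᵥ y = y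
      simp only [mat, Units.val_mul, ← Matrix.mulVec_mulVec] at hgi ⊢
      rw [hgi, Matrix.mulVec_mulVec (v := y), ← Units.val_mul, mul_inv_cancel, Units.val_one,
        Matrix.one_mulVec]
      show mat g *ᵥ y = y
      rw [hgdef, tv_mulVec, hy0, zero_smul, add_zero]
    have hWne : W ≠ ⊥ := fun e => by rw [e, finrank_bot] at hW; omega
    obtain ⟨w, hw, hw0⟩ := Submodule.exists_mem_ne_zero_of_ne_bot hWne
    have hzs : z ∈ Cfsg.Geo.scalars (Fin n) F := by
      refine mem_scalars_of_commute hR fun y hy => ?_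
      obtain ⟨c, hc⟩ := (Cfsg.Geo.mem_scalars_iff _).1 (hcomm (Subgroup.commutator_mem_commutator hzR hy))
      have hzy : mat z * mat y = (c : F) • (mat y * mat z) := by
        have e : z * y = ⁅z, y⁆ * (y * z) := by rw [commutatorElement_def]; group
        have e' := congrArg mat e
        simp only [mat, Units.val_mul] at e' ⊢
        rw [e', hc, Matrix.smul_mul, one_mul]
      by_cases hc1 : (c : F) = 1
      · exact Units.ext (by rw [Units.val_mul, Units.val_mul]; rw [hc1, one_smul] at hzy; exact hzy)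
      exfalso
      let Wy := W.map (Matrix.toLin' (mat y))
      have hdisj : Disjoint W Wy := by
        rw [Submodule.disjoint_def]
        rintro _ h1 ⟨a, ha, rfl⟩
        rw [Matrix.toLin'_apply] at h1 ⊢
        have e1 := hzW _ h1
        rw [Matrix.mulVec_mulVec, hzy, Matrix.smul_mulVec, ← Matrix.mulVec_mulVec, hzW a ha] at e1
        have e2 : ((c : F) - 1) • (mat y *ᵥ a) = 0 := by rw [sub_smul, e1, one_smul, sub_self]
        exact (smul_eq_zero.1 e2).resolve_left (sub_ne_zero.2 hc1)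
      have h1 := Submodule.finrank_add_finrank_le_of_disjoint hdisj
      rw [finrank_map_gl, Module.finrank_fin_fun] at h1
      omega
    obtain ⟨c, hc⟩ := (Cfsg.Geo.mem_scalars_iff z).1 hzs
    have hc1 : (c : F) = 1 := by
      have e1 := hzW w hw
      rw [show mat z = (c : F) • 1 from hc, Matrix.smul_mulVec, Matrix.one_mulVec] at e1
      have e2 : ((c : F) - 1) • w = 0 := by rw [sub_smul, e1, one_smul, sub_self]
      exact sub_eq_zero.1 ((smul_eq_zero.1 e2).resolve_right hw0)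
    have hz1 : z = 1 := Units.ext (by rw [hc, hc1, one_smul, Units.val_one])
    rw [hz, mul_inv_eq_one, mul_inv_eq_iff_eq_mul] at hz1
    exact hz1
  obtain ⟨c, hc⟩ := (Cfsg.Geo.mem_scalars_iff g).1 hgR
  rw [show mat g = (c : F) • 1 from hc, Matrix.smul_mulVec, Matrix.one_mulVec] at hj hk
  rcases eq_or_ne j i with rfl | hji
  · simp [hjk.symm] at hk
  · simp [hji] at hj

theorem trace_mem_of_le_subfield {F₁ : Subfield F} {P : GL (Fin n) F}
    (hle : SUn n F q ≤ Cfsg.Geo.subfieldSubgroup F₁ P) {x : GL (Fin n) F}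
    (hx : x ∈ ⁅SUn n F q, SUn n F q⁆) : (mat x).trace ∈ F₁ := by
  let A : Subgroup (GL (Fin n) F) := (Matrix.GeneralLinearGroup.map (F₁.subtype : F₁ →+* F)).range
  have h1 : ⁅SUn n F q, SUn n F q⁆ ≤ A.map (MulAut.conj P).toMonoidHom := by
    refine (Subgroup.commutator_mono hle hle).trans ?_
    show ⁅(A ⊔ Cfsg.Geo.scalars (Fin n) F).map _, (A ⊔ Cfsg.Geo.scalars (Fin n) F).map _⁆ ≤ _
    rw [← Subgroup.map_commutator]
    exact Subgroup.map_mono ((commutator_le_of_le_sup le_rfl le_rfl le_rfl).trans (commutator_le_self A))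
  obtain ⟨_, ⟨u, rfl⟩, rfl⟩ := h1 hx
  show (mat (P * _ * P⁻¹)).trace ∈ F₁
  simp only [mat, Units.val_mul]
  rw [Matrix.trace_units_conj]
  exact F₁.sum_mem fun i _ => (mat u i i).2

theorem not_le_subfieldSubgroup (hF : Fintype.card F = q ^ 2) (h : IsConj q σ) (hn : 5 ≤ n)
    {F₁ : Subfield F} {r : ℕ} (hr : r.Prime) (hcard : Fintype.card F = Nat.card F₁ ^ r) (P : GL (Fin n) F) :
    ¬ SUn n F q ≤ Cfsg.Geo.subfieldSubgroup F₁ P := by
  classical
  intro hle
  have hq := h.one_lt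
  obtain ⟨a, haN, hord⟩ := exists_normOne hF h
  haveI : Fintype F₁ := Fintype.ofFinite _
  set q₀ := Nat.card F₁ with hq₀
  have hfix : ∀ x ∈ F₁, x ^ q₀ = x := fun x hx => by
    have := FiniteField.pow_card (⟨x, hx⟩ : F₁)
    rw [hq₀, Nat.card_eq_fintype_card]
    exact congrArg Subtype.val this
  let i : Fin n := ⟨0, by omega⟩
  let j : Fin n := ⟨1, by omega⟩
  let k : Fin n := ⟨2, by omega⟩
  have hij : i ≠ j := by simp [i, j, Fin.ext_iff]
  have hik : i ≠ k := by simp [i, k, Fin.ext_iff]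
  have hjk : j ≠ k := by simp [j, k, Fin.ext_iff]
  have hsa : σ (a : F) = (a : F)⁻¹ := eq_inv_of_mul_eq_one_right haN
  have ha0 : (a : F) ≠ 0 := a.ne_zero
  have hsum : ∀ d : Fin n → F, ∑ x, d x = d i + d j + d k + ∑ x ∈ Finset.univ \ {i, j, k}, d x := by
    intro d
    rw [← Finset.sum_sdiff (Finset.subset_univ ({i, j, k} : Finset (Fin n))), Finset.sum_insert (by simp [hij, hik]),
      Finset.sum_pair hjk]
    ring
  have hrest : ∀ d : Fin n → F, (∀ x, x ≠ i → x ≠ j → x ≠ k → d x = 1) →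
      ∑ x ∈ Finset.univ \ {i, j, k}, d x = ((n - 3 : ℕ) : F) := by
    intro d hd
    rw [Finset.sum_congr rfl (fun x hx => by
      simp only [Finset.mem_sdiff, Finset.mem_insert, Finset.mem_singleton, not_or] at hx
      exact hd x hx.2.1 hx.2.2.1 hx.2.2.2), Finset.sum_const, nsmul_one, Finset.card_sdiff]
    congr 1
    simp [hij, hik, hjk]
  have hnat : ∀ m : ℕ, (m : F) ∈ F₁ := fun m => natCast_mem F₁ m
  rcases hr.eq_two_or_odd' with rfl | hodd
  · have hq₀q : q₀ = q := Nat.pow_left_injective two_ne_zero (hcard.symm.trans hF)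
    have hmem := trace_mem_of_le_subfield hle
      (mul_mem (torus_mem_commutator h hn haN (i := k) (j := i) hik.symm)
        (torus_mem_commutator h hn haN (i := k) (j := j) hjk.symm))
    simp only [mat, Units.val_mul] at hmem
    rw [show (diagGL (torusVec i k a) : Matrix (Fin n) (Fin n) F) = _ from mat_diagGL _,
      show (diagGL (torusVec j k a) : Matrix (Fin n) (Fin n) F) = _ from mat_diagGL _,
      Matrix.diagonal_mul_diagonal, Matrix.trace_diagonal, hsum,
      hrest _ (fun x h1 h2 h3 => by simp [torusVec, h1, h2, h3])] at hmem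
    have h1 := hfix _ (F₁.sub_mem hmem (hnat (n - 3)))
    rw [add_sub_cancel_right, hq₀q, ← h.eq_pow] at h1
    simp [torusVec, hij, hik, hjk, hij.symm, hik.symm, hjk.symm, hsa] at h1
    have hne1 := normOne_ne_one hq hord
    have hne2 := normOne_sq_ne_one hq hord
    field_simp at h1
    have h2 : ((a : F) - 1) ^ 2 * ((a : F) * a - 1) = 0 := by
      first
        | linear_combination h1
        | linear_combination -h1
    rcases mul_eq_zero.1 h2 with h3 | h3
    · exact hne1 (sub_eq_zero.1 (pow_eq_zero_iff two_ne_zero |>.1 h3))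
    · exact hne2 (sub_eq_zero.1 h3)
  · have hr3 : 3 ≤ r := by
      have := hr.two_le
      rcases hodd with ⟨t, rfl⟩
      omega
    have hmem := trace_mem_of_le_subfield hle (torus_mem_commutator h hn haN (i := j) (j := i) hij.symm)
    rw [mat_diagGL, Matrix.trace_diagonal, hsum,
      hrest _ (fun x h1 h2 _ => by simp [torusVec, h1, h2])] at hmem
    have hs : (a : F) + (a : F)⁻¹ ∈ F₁ := by
      have h1 := F₁.sub_mem (F₁.sub_mem hmem (hnat (n - 3))) F₁.one_mem
      simpa [torusVec, hij, hik, hjk, hij.symm, hik.symm, hjk.symm] using h1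
    obtain ⟨p, hchar⟩ := CharP.exists F
    haveI := hchar
    haveI : Fact p.Prime := ⟨CharP.char_is_prime F p⟩
    obtain ⟨m, hm⟩ : ∃ m : ℕ, q₀ = p ^ m := by
      haveI : CharP F₁ p := (F₁.subtype.charP_iff_charP p).2 hchar
      obtain ⟨m, -, hm⟩ := FiniteField.card F₁ p
      exact ⟨m, by rw [hq₀, Nat.card_eq_fintype_card, hm]⟩
    have hfrob : ((a : F) + (a : F)⁻¹) ^ q₀ = (a : F) ^ q₀ + ((a : F) ^ q₀)⁻¹ := by
      rw [hm, add_pow_char_pow, inv_pow]
    have h2 := hfix _ hs
    rw [hfrob] at h2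
    set b := (a : F) ^ q₀ with hb
    have hb0 : b ≠ 0 := pow_ne_zero _ ha0
    have h3 : (b - a) * (b * a - 1) = 0 := by
      field_simp at h2
      first
        | linear_combination h2
        | linear_combination -h2
    have hq1 : 1 < q₀ := Finite.one_lt_card
    have hpow : q₀ ^ 3 ≤ q ^ 2 := by
      rw [← hF, hcard]
      exact Nat.pow_le_pow_right (by omega) hr3
    rcases mul_eq_zero.1 h3 with h4 | h4
    · have h5 : a ^ (q₀ - 1) = 1 := by
        apply Units.ext
        rw [Units.val_pow_eq_pow_val, Units.val_one]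
        refine mul_right_cancel₀ ha0 ?_
        rw [← pow_succ, Nat.sub_add_cancel hq1.le, one_mul]
        exact sub_eq_zero.1 h4
      have h6 := orderOf_dvd_of_pow_eq_one h5
      rw [hord] at h6
      have := Nat.le_of_dvd (by omega) h6
      have h8 : q₀ ^ 2 ≤ q ^ 2 := (Nat.pow_le_pow_right (by omega) (by norm_num)).trans hpow
      have h9 := (Nat.pow_le_pow_iff_left two_ne_zero).1 h8
      omega
    · have h5 : a ^ (q₀ + 1) = 1 := by
        apply Units.ext
        rw [Units.val_pow_eq_pow_val, Units.val_one, pow_succ]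
        exact sub_eq_zero.1 h4
      have h6 := orderOf_dvd_of_pow_eq_one h5
      rw [hord] at h6
      have := Nat.le_of_dvd (by omega) h6
      have h8 : q ^ 2 ≤ q₀ ^ 2 := Nat.pow_le_pow_left (by omega) 2
      have h9 : q₀ ^ 2 < q₀ ^ 3 := Nat.pow_lt_pow_right hq1 (by norm_num)
      omega

end CfsgLib.AschbacherUnitary
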