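import Cfsg.Agent.Aschbacher.Core
import Cfsg.Agent.MaxSub.HermStandard
import Cfsg.Prelude.Def_GeometricClasses

/-!
The special unitary group of the standard Hermitian form as a subgroup of `GL`: matrix criterion, diagonal and
permutation elements, and absolute irreducibility of its derived subgroup.
-/

set_option autoImplicit false

namespace CfsgLib.AschbacherUnitary

open Matrix CfsgLib.Aschbacher
open scoped commutatorElement

variable {n q : ℕ} {F : Type*} [Field F]

/-- The special unitary group inside `GL`. -/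
abbrev SUn (n : ℕ) (F : Type*) [Field F] (q : ℕ) : Subgroup (GL (Fin n) F) :=
  Cfsg.GU n F q ⊓ Cfsg.Geo.specialLinear (Fin n) F

/-- `σ` is the involution `x ↦ x ^ q`. -/
structure IsConj (q : ℕ) (σ : F ≃+* F) : Prop where
  ne_refl : σ ≠ RingEquiv.refl F
  involutive : ∀ a, σ (σ a) = a
  eq_pow : ∀ a, σ a = a ^ q

theorem exists_isConj [Fintype F] (hF : Fintype.card F = q ^ 2) : ∃ σ : F ≃+* F, IsConj q σ := by
  obtain ⟨σ, h1, h2, h3⟩ := CfsgLib.MaxSub.exists_conjEquiv hF
  exact ⟨σ, h1, h2, h3⟩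

variable {σ : F ≃+* F}

theorem IsConj.unitary [Fintype F] (h : IsConj q σ) :
    Cfsg.Geo.IsUnitaryForm σ (Cfsg.hermForm n F q) :=
  CfsgLib.MaxSub.isUnitaryForm_hermForm h.ne_refl h.involutive h.eq_pow

theorem IsConj.sesq [Fintype F] (h : IsConj q σ) : IsSesq σ (Cfsg.hermForm n F q) :=
  isSesq_of_unitary h.unitary

theorem IsConj.herm_eq (h : IsConj q σ) (u v : Fin n → F) :
    Cfsg.hermForm n F q u v = ∑ i, u i * σ (v i) := by
  simp only [Cfsg.hermForm, h.eq_pow]

theorem IsConj.gram_eq_one (h : IsConj q σ) : Cfsg.Geo.gramMatrix (Cfsg.hermForm n F q) = 1 := by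
  ext a b
  show Cfsg.hermForm n F q (Pi.single a 1) (Pi.single b 1) = _
  rw [h.herm_eq, Finset.sum_eq_single a (fun i _ hi => by rw [Pi.single_eq_of_ne hi, zero_mul])
    (fun h' => absurd (Finset.mem_univ a) h'), Pi.single_eq_same, one_mul]
  rcases eq_or_ne a b with rfl | hab
  · simp
  · rw [Pi.single_eq_of_ne hab, map_zero, Matrix.one_apply_ne hab]

theorem IsConj.herm_mulVec (h : IsConj q σ) (M : Matrix (Fin n) (Fin n) F) (u v : Fin n → F) :
    Cfsg.hermForm n F q (M *ᵥ u) (M *ᵥ v) = ∑ a, ∑ b, u a * (Mᵀ * M.map σ) a b * σ (v b) := by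
  rw [h.herm_eq]
  simp only [Matrix.mulVec, dotProduct, map_sum, map_mul, Finset.sum_mul_sum, Matrix.mul_apply,
    Matrix.transpose_apply, Matrix.map_apply, Finset.mul_sum, Finset.sum_mul]
  rw [Finset.sum_comm]
  conv_rhs => rw [Finset.sum_comm]
  refine Finset.sum_congr rfl fun a _ => ?_
  rw [Finset.sum_comm]
  exact Finset.sum_congr rfl fun b _ => Finset.sum_congr rfl fun i _ => by ring

theorem IsConj.mem_GU_iff [Fintype F] (h : IsConj q σ) {g : GL (Fin n) F} :
    g ∈ Cfsg.GU n F q ↔ (mat g)ᵀ * (mat g).map σ = 1 := by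
  constructor
  · intro hg
    have e := h.sesq.gram_of_eq (c := (1 : F)) (g := mat g)
      (fun u v => by rw [one_mul]; exact CfsgLib.MaxSub.mem_GU_iff_forall.1 hg u v)
    rwa [h.gram_eq_one, one_smul, mul_one] at e
  · intro hg
    rw [CfsgLib.MaxSub.mem_GU_iff_forall]
    intro u v
    show Cfsg.hermForm n F q (mat g *ᵥ u) (mat g *ᵥ v) = _
    rw [h.herm_mulVec, hg, h.herm_eq]
    refine Finset.sum_congr rfl fun a _ => ?_
    rw [Finset.sum_eq_single a (fun b _ hb => by rw [Matrix.one_apply_ne hb.symm, mul_zero, zero_mul])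
      (fun h' => absurd (Finset.mem_univ a) h'), Matrix.one_apply_eq, mul_one]

theorem IsConj.one_lt [Fintype F] (h : IsConj q σ) : 1 < q := by
  by_contra hq
  interval_cases q
  · exact zero_ne_one ((map_zero σ).symm.trans (by rw [h.eq_pow, pow_zero]))
  · exact h.ne_refl (RingEquiv.ext fun a => by rw [h.eq_pow, pow_one]; rfl)

/-- A generator of the group of elements of norm one. -/
theorem exists_normOne [Fintype F] (hF : Fintype.card F = q ^ 2) (h : IsConj q σ) :
    ∃ a : Fˣ, (a : F) * σ a = 1 ∧ orderOf a = q + 1 := by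
  classical
  have hq := h.one_lt
  obtain ⟨g, hg⟩ := IsCyclic.exists_generator (α := Fˣ)
  have hord : orderOf g = q ^ 2 - 1 := by
    rw [orderOf_eq_card_of_forall_mem_zpowers hg, Nat.card_eq_fintype_card, Fintype.card_units, hF]
  have e : q ^ 2 - 1 = (q + 1) * (q - 1) := by
    have := Nat.sq_sub_sq q 1
    simpa using this
  have ha : orderOf (g ^ (q - 1)) = q + 1 := by
    rw [orderOf_pow_of_dvd (by omega) (by rw [hord, e]; exact dvd_mul_left _ _), hord, e,
      Nat.mul_div_cancel _ (by omega)]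
  refine ⟨g ^ (q - 1), ?_, ha⟩
  rw [h.eq_pow, ← pow_succ', ← Units.val_pow_eq_pow_val, ← ha, pow_orderOf_eq_one, Units.val_one]

theorem normOne_sq_ne_one {a : Fˣ} (hq : 1 < q) (ha : orderOf a = q + 1) : (a : F) * a ≠ 1 := by
  intro h
  have h1 : a ^ 2 = 1 := by rw [pow_two]; exact Units.ext h
  have := orderOf_dvd_of_pow_eq_one h1
  rw [ha] at this
  have := Nat.le_of_dvd two_pos this
  omega

theorem normOne_ne_one {a : Fˣ} (hq : 1 < q) (ha : orderOf a = q + 1) : (a : F) ≠ 1 := fun h =>
  normOne_sq_ne_one hq ha (by rw [h, mul_one])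

/-! ### Diagonal and permutation elements -/

/-- A diagonal element of `GL`. -/
def diagGL {ι : Type} [Fintype ι] [DecidableEq ι] (d : ι → Fˣ) : GL ι F where
  val := Matrix.diagonal fun i => (d i : F)
  inv := Matrix.diagonal fun i => ((d i)⁻¹ : Fˣ)
  val_inv := by rw [Matrix.diagonal_mul_diagonal, ← Matrix.diagonal_one]; congr; funext i; simp
  inv_val := by rw [Matrix.diagonal_mul_diagonal, ← Matrix.diagonal_one]; congr; funext i; simp

theorem mat_diagGL {ι : Type} [Fintype ι] [DecidableEq ι] (d : ι → Fˣ) :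
    mat (diagGL d) = Matrix.diagonal fun i => (d i : F) := rfl

theorem diagGL_mem [Fintype F] (h : IsConj q σ) {d : Fin n → Fˣ} (hd : ∀ i, (d i : F) * σ (d i) = 1)
    (hdet : ∏ i, (d i : F) = 1) : diagGL d ∈ SUn n F q := by
  refine ⟨h.mem_GU_iff.2 ?_, mem_specialLinear_iff.2 ?_⟩
  · rw [mat_diagGL, Matrix.diagonal_transpose, Matrix.diagonal_map (map_zero σ),
      Matrix.diagonal_mul_diagonal, ← Matrix.diagonal_one]
    congr
    funext i
    exact hd i
  · rw [mat_diagGL, Matrix.det_diagonal, hdet]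

/-- The permutation elements of `GL`. -/
def permGL (n : ℕ) (F : Type*) [Field F] : Equiv.Perm (Fin n) →* GL (Fin n) F where
  toFun π :=
    { val := monomialMat π⁻¹ fun _ => 1
      inv := monomialMat π fun _ => 1
      val_inv := by
        rw [monomialMat_mul, show (π⁻¹).trans π = 1 from Equiv.ext fun i => by simp]
        simpa using monomialMat_one
      inv_val := by
        rw [monomialMat_mul, show π.trans π⁻¹ = 1 from Equiv.ext fun i => by simp]
        simpa using monomialMat_one }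
  map_one' := Units.ext (by simpa using monomialMat_one)
  map_mul' π τ := Units.ext (by
    show monomialMat (π * τ)⁻¹ _ = monomialMat π⁻¹ _ * monomialMat τ⁻¹ _
    rw [monomialMat_mul, show (π⁻¹).trans τ⁻¹ = (π * τ)⁻¹ from Equiv.ext fun i => by simp]
    simp)

theorem permGL_mulVec (π : Equiv.Perm (Fin n)) (v : Fin n → F) :
    mat (permGL n F π) *ᵥ v = fun i => v (π⁻¹ i) := by
  funext i
  show ((monomialMat π⁻¹ fun _ => (1 : F)) *ᵥ v) i = _
  simp [monomialMat, Matrix.mulVec, dotProduct]

theorem permGL_mem [Fintype F] (h : IsConj q σ) {π : Equiv.Perm (Fin n)}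
    (hπ : π ∈ alternatingGroup (Fin n)) : permGL n F π ∈ SUn n F q := by
  have hmat : mat (permGL n F π) = (π⁻¹).permMatrix F := by
    ext i j
    show (monomialMat π⁻¹ fun _ => (1 : F)) i j = _
    simp [monomialMat, Equiv.Perm.permMatrix, PEquiv.toMatrix_apply, Equiv.toPEquiv, eq_comm]
  refine ⟨CfsgLib.MaxSub.mem_GU_iff_forall.2 fun u v => ?_, mem_specialLinear_iff.2 ?_⟩
  · show Cfsg.hermForm n F q (mat (permGL n F π) *ᵥ u) (mat (permGL n F π) *ᵥ v) = _
    rw [permGL_mulVec, permGL_mulVec, h.herm_eq, h.herm_eq]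
    exact Equiv.sum_comp π⁻¹ fun i => u i * σ (v i)
  · rw [hmat, Matrix.det_permutation, Equiv.Perm.sign_inv, Equiv.Perm.mem_alternatingGroup.1 hπ]
    simp

theorem swap_swap_mem_alternating {i j k : Fin n} (hij : i ≠ j) (hjk : j ≠ k) :
    Equiv.swap i j * Equiv.swap j k ∈ alternatingGroup (Fin n) := by
  rw [Equiv.Perm.mem_alternatingGroup, map_mul, Equiv.Perm.sign_swap hij, Equiv.Perm.sign_swap hjk]
  decide

theorem exists_others (hn : 5 ≤ n) (s : Finset (Fin n)) (hs : s.card ≤ 4) : ∃ l, l ∉ s := by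
  by_contra hall
  simp only [not_exists, not_not] at hall
  have h1 := Finset.card_le_card (show (Finset.univ : Finset (Fin n)) ⊆ s from fun x _ => hall x)
  rw [Finset.card_univ, Fintype.card_fin] at h1
  omega

/-- The derived subgroup contains the even permutations. -/
theorem permGL_mem_commutator [Fintype F] (h : IsConj q σ) (hn : 5 ≤ n) {π : Equiv.Perm (Fin n)}
    (hπ : π ∈ alternatingGroup (Fin n)) : permGL n F π ∈ ⁅SUn n F q, SUn n F q⁆ := by
  have hle : ⁅alternatingGroup (Fin n), alternatingGroup (Fin n)⁆ ≤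
      ⁅SUn n F q, SUn n F q⁆.comap (permGL n F) := by
    rw [Subgroup.commutator_le]
    intro a ha b hb
    rw [Subgroup.mem_comap, map_commutatorElement]
    exact Subgroup.commutator_mem_commutator (permGL_mem h ha) (permGL_mem h hb)
  rw [commutator_alternatingGroup_eq_self (by simpa using hn)] at hle
  exact hle hπ

/-- The diagonal element with entries `b` and `b⁻¹` at two places. -/
def torusVec (i j : Fin n) (b : Fˣ) : Fin n → Fˣ := fun k => if k = i then b else if k = j then b⁻¹ else 1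

theorem prod_torusVec {i j : Fin n} (hij : i ≠ j) (b : Fˣ) : ∏ k, (torusVec i j b k : F) = 1 := by
  rw [← Units.coe_prod]
  have : ∏ k, torusVec i j b k = 1 := by
    rw [Finset.prod_eq_mul i j hij (fun k _ hk => by simp [torusVec, hk.1, hk.2])
      (fun h' => absurd (Finset.mem_univ _) h') (fun h' => absurd (Finset.mem_univ _) h')]
    simp [torusVec, hij.symm]
  rw [this, Units.val_one]

theorem torus_mem_SU [Fintype F] (h : IsConj q σ) {b : Fˣ} (hb : (b : F) * σ b = 1) {i j : Fin n}
    (hij : i ≠ j) : diagGL (torusVec i j b) ∈ SUn n F q := by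
  refine diagGL_mem h (fun k => ?_) (prod_torusVec hij b)
  simp only [torusVec]
  split_ifs
  · exact hb
  · rw [Units.val_inv_eq_inv_val, map_inv₀, ← mul_inv, hb, inv_one]
  · simp

/-- The derived subgroup contains the rank one tori. -/
theorem torus_mem_commutator [Fintype F] (h : IsConj q σ) (hn : 5 ≤ n) {b : Fˣ} (hb : (b : F) * σ b = 1)
    {i j : Fin n} (hij : i ≠ j) : diagGL (torusVec j i b) ∈ ⁅SUn n F q, SUn n F q⁆ := by
  obtain ⟨k, hk⟩ := exists_others hn {i, j} (le_trans Finset.card_le_two (by norm_num))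
  obtain ⟨l, hl⟩ := exists_others hn {i, j, k} (le_trans Finset.card_le_three (by norm_num))
  simp only [Finset.mem_insert, Finset.mem_singleton, not_or] at hk hl
  -- the three-cycle `j ↦ k ↦ i ↦ j`
  let π : Equiv.Perm (Fin n) := Equiv.swap i j * Equiv.swap j k
  have hπ : π ∈ alternatingGroup (Fin n) := swap_swap_mem_alternating hij (Ne.symm hk.2)
  have hπi : π⁻¹ j = i := by
    rw [Equiv.Perm.inv_def, Equiv.symm_apply_eq]
    show j = Equiv.swap i j (Equiv.swap j k i)
    rw [Equiv.swap_apply_of_ne_of_ne hij (Ne.symm hk.1), Equiv.swap_apply_left]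
  have hπl : π⁻¹ l = l := by
    rw [Equiv.Perm.inv_def, Equiv.symm_apply_eq]
    show l = Equiv.swap i j (Equiv.swap j k l)
    rw [Equiv.swap_apply_of_ne_of_ne hl.2.1 hl.2.2, Equiv.swap_apply_of_ne_of_ne hl.1 hl.2.1]
  have hperm : ∀ d : Fin n → Fˣ, permGL n F π * diagGL d * (permGL n F π)⁻¹ =
      diagGL fun x => d (π⁻¹ x) := fun d => by
    rw [← map_inv]
    refine Units.ext ?_
    apply Matrix.toLin'.injective
    apply LinearMap.ext
    intro v
    funext x
    simp only [Units.val_mul, Matrix.toLin'_mul, LinearMap.comp_apply, Matrix.toLin'_apply,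
      permGL_mulVec, mat_diagGL, Matrix.mulVec_diagonal]
    simp
  have key : ⁅permGL n F π, diagGL (torusVec i l b)⁆ = diagGL (torusVec j i b) := by
    rw [commutatorElement_def, hperm]
    refine Units.ext ?_
    simp only [Units.val_mul]
    show Matrix.diagonal _ * Matrix.diagonal _ = Matrix.diagonal _
    rw [Matrix.diagonal_mul_diagonal]
    congr 1
    funext x
    rw [← Units.val_mul]
    congr 1
    simp only [torusVec]
    have h1 : π⁻¹ x = i ↔ x = j := by rw [← hπi, (π⁻¹).injective.eq_iff]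
    have h2 : π⁻¹ x = l ↔ x = l := by
      conv_lhs => rw [← hπl, (π⁻¹).injective.eq_iff]
    simp only [h1, h2]
    rcases eq_or_ne x j with rfl | hxj
    · simp [Ne.symm hij, Ne.symm hl.2.1]
    rcases eq_or_ne x i with rfl | hxi
    · simp [hxj, Ne.symm hl.1]
    rcases eq_or_ne x l with rfl | hxl
    · simp [hxj, hxi]
    · simp [hxj, hxi, hxl]
  rw [← key]
  exact Subgroup.commutator_mem_commutator (permGL_mem h hπ) (torus_mem_SU h hb (Ne.symm hl.1))

/-- The derived subgroup of the special unitary group is absolutely irreducible. -/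
theorem commutator_absIrred [Fintype F] (hF : Fintype.card F = q ^ 2) (h : IsConj q σ) (hn : 5 ≤ n) :
    Cfsg.Geo.ActsAbsolutelyIrreducibly (Cfsg.Geo.matrixSet ⁅SUn n F q, SUn n F q⁆) := by
  classical
  obtain ⟨a, haN, haord⟩ := exists_normOne hF h
  have hq := h.one_lt
  have hsep : ∀ i j : Fin n, i ≠ j → ∃ d : Fin n → Fˣ, (d i : F) ≠ d j ∧
      diagGL d ∈ ⁅SUn n F q, SUn n F q⁆ := by
    intro i j hij
    obtain ⟨k, hk⟩ := exists_others hn {i, j} (le_trans Finset.card_le_two (by norm_num))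
    simp only [Finset.mem_insert, Finset.mem_singleton, not_or] at hk
    refine ⟨torusVec i k a, ?_, torus_mem_commutator h hn haN hk.1⟩
    simp [torusVec, hij.symm, Ne.symm hk.2, normOne_ne_one hq haord]
  have hmove : ∀ i j : Fin n, ∃ π ∈ alternatingGroup (Fin n), π i = j := by
    intro i j
    rcases eq_or_ne i j with rfl | hij
    · exact ⟨1, one_mem _, rfl⟩
    obtain ⟨k, hk⟩ := exists_others hn {i, j} (le_trans Finset.card_le_two (by norm_num))
    simp only [Finset.mem_insert, Finset.mem_singleton, not_or] at hk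
    refine ⟨Equiv.swap i j * Equiv.swap j k, swap_swap_mem_alternating hij (Ne.symm hk.2), ?_⟩
    rw [Equiv.Perm.mul_apply, Equiv.swap_apply_of_ne_of_ne hij (Ne.symm hk.1), Equiv.swap_apply_left]
  constructor
  · rw [actsIrreducibly_iff]
    intro W hW
    by_cases h0 : W = ⊥
    · exact Or.inl h0
    refine Or.inr ?_
    -- a vector of minimal support
    obtain ⟨v, ⟨hvW, hv0⟩, hmin⟩ := Set.exists_min_image {v : Fin n → F | v ∈ W ∧ v ≠ 0}
      (fun v => (Finset.univ.filter fun i => v i ≠ 0).card) (Set.toFinite _)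
      (Submodule.exists_mem_ne_zero_of_ne_bot h0)
    obtain ⟨i, hi⟩ : ∃ i, v i ≠ 0 := Function.ne_iff.1 hv0
    have hsingle : ∀ j, j ≠ i → v j = 0 := by
      intro j hj
      by_contra hvj
      obtain ⟨d, hd, hmem⟩ := hsep i j (Ne.symm hj)
      have h1 : Matrix.diagonal (fun k => (d k : F)) *ᵥ v ∈ W :=
        mat_diagGL d ▸ mem_subspaceStabilizer_iff.1 (hW hmem) v hvW
      let w := Matrix.diagonal (fun k => (d k : F)) *ᵥ v - (d j : F) • v
      have hwW : w ∈ W := W.sub_mem h1 (W.smul_mem _ hvW)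
      have hwk : ∀ k, w k = ((d k : F) - d j) * v k := fun k => by
        simp [w, Matrix.mulVec_diagonal, sub_mul]
      have hw0 : w ≠ 0 := fun e => by
        have := congrFun e i
        rw [hwk] at this
        exact mul_ne_zero (sub_ne_zero.2 hd) hi this
      refine (hmin w ⟨hwW, hw0⟩).not_gt (Finset.card_lt_card ?_)
      rw [Finset.ssubset_iff_of_subset (fun k hk => ?_)]
      · exact ⟨j, by simpa using hvj, by simp [hwk]⟩
      · simp only [Finset.mem_filter, Finset.mem_univ, true_and, hwk] at hk ⊢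
        exact right_ne_zero_of_mul hk
    have hei : Pi.single i (1 : F) ∈ W := by
      have : Pi.single i (1 : F) = (v i)⁻¹ • v := by
        funext k
        rcases eq_or_ne k i with rfl | hk
        · simp [hi]
        · simp [hk, hsingle k hk]
      rw [this]
      exact W.smul_mem _ hvW
    have hall : ∀ j, Pi.single j (1 : F) ∈ W := by
      intro j
      obtain ⟨π, hπ, hπi⟩ := hmove i j
      have h1 := mem_subspaceStabilizer_iff.1 (hW (permGL_mem_commutator h hn hπ)) _ hei
      rw [permGL_mulVec] at h1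
      convert h1 using 1
      funext k
      rcases eq_or_ne k j with rfl | hk
      · rw [← hπi]; simp
      · rw [Pi.single_eq_of_ne hk, Pi.single_eq_of_ne]
        intro e
        apply hk
        rw [← hπi, ← e]; simp
    rw [eq_top_iff]
    intro x _
    rw [pi_eq_sum_univ' x]
    exact Submodule.sum_mem _ fun j _ => W.smul_mem _ (hall j)
  · intro M hM
    have hoff : ∀ i j, i ≠ j → M i j = 0 := by
      intro i j hij
      obtain ⟨d, hd, hmem⟩ := hsep i j hij
      have h1 := congrFun (congrFun (hM _ (mem_matrixSet hmem)) i) j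
      rw [mat_diagGL, Matrix.mul_diagonal, Matrix.diagonal_mul] at h1
      have h2 : ((d j : F) - d i) * M i j = 0 := by rw [sub_mul]; linear_combination h1
      exact (mul_eq_zero.1 h2).resolve_left (sub_ne_zero.2 (Ne.symm hd))
    let o : Fin n := ⟨0, by omega⟩
    refine ⟨M o o, ?_⟩
    ext i j
    rcases eq_or_ne i j with rfl | hij
    · simp only [Matrix.smul_apply, Matrix.one_apply_eq, smul_eq_mul, mul_one]
      obtain ⟨π, hπ, hπo⟩ := hmove o i
      have h1 := congrArg (fun A => (A *ᵥ Pi.single o 1) i)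
        (hM _ (mem_matrixSet (permGL_mem_commutator h hn hπ)))
      simp only [← Matrix.mulVec_mulVec, permGL_mulVec] at h1
      rw [show (fun k => (Pi.single o (1 : F) : Fin n → F) (π⁻¹ k)) = Pi.single i 1 from ?_,
        Matrix.mulVec_single_one, Matrix.mulVec_single_one] at h1
      · have hπo' : π⁻¹ i = o := by rw [← hπo]; simp
        simpa [hπo'] using h1
      · funext k
        rcases eq_or_ne k i with rfl | hk
        · rw [← hπo]; simp
        · rw [Pi.single_eq_of_ne hk, Pi.single_eq_of_ne]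
          intro e
          apply hk
          rw [← hπo, ← e]; simp
    · simp [hoff i j hij, hij]

/-- A unitary transvection moving a coordinate line out of all coordinate lines. -/
theorem exists_nonmonomial [Fintype F] (h : IsConj q σ) (hn : 4 ≤ n) :
    ∃ g ∈ SUn n F q, ∃ (v : Fin n → F) (φ : Fin n → F) (h0 : φ ⬝ᵥ v = 0), g = tv v φ h0 ∧
      v ≠ 0 ∧ φ ≠ 0 ∧
      ∃ i j k : Fin n, j ≠ k ∧ (mat g *ᵥ Pi.single i 1) j ≠ 0 ∧ (mat g *ᵥ Pi.single i 1) k ≠ 0 := by
  obtain ⟨a, ha⟩ := CfsgLib.MaxSub.norm_surjective h.ne_refl h.involutive (a := -1) (by simp)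
  obtain ⟨c, hc0, hc⟩ := CfsgLib.MaxSub.exists_traceZero h.ne_refl h.involutive
  have ha0 : a ≠ 0 := by rintro rfl; simp at ha
  let i₀ : Fin n := ⟨0, by omega⟩
  let i₁ : Fin n := ⟨1, by omega⟩
  let i₂ : Fin n := ⟨2, by omega⟩
  let i₃ : Fin n := ⟨3, by omega⟩
  let w : Fin n → F := Pi.single i₀ 1 + Pi.single i₁ a + Pi.single i₂ 1 + Pi.single i₃ a
  have hs : ∀ (i : Fin n) (x : F) (y : Fin n → F),
      Cfsg.hermForm n F q (Pi.single i x) y = x * σ (y i) := fun i x y => by
    rw [h.herm_eq, Fintype.sum_eq_single i (fun j hj => by rw [Pi.single_eq_of_ne hj, zero_mul]),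
      Pi.single_eq_same]
  have hw0 : w i₀ = 1 := by simp [w, i₀, i₁, i₂, i₃, Pi.single_apply, Fin.ext_iff]
  have hw1 : w i₁ = a := by simp [w, i₀, i₁, i₂, i₃, Pi.single_apply, Fin.ext_iff]
  have hw2 : w i₂ = 1 := by simp [w, i₀, i₁, i₂, i₃, Pi.single_apply, Fin.ext_iff]
  have hw3 : w i₃ = a := by simp [w, i₀, i₁, i₂, i₃, Pi.single_apply, Fin.ext_iff]
  have hw : Cfsg.hermForm n F q w w = 0 := by
    have hh := h.unitary (n := n)
    conv_lhs => arg 4; simp only [w]
    rw [hh.add_left, hh.add_left, hh.add_left, hs, hs, hs, hs, hw0, hw1, hw2, hw3, map_one, ha]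
    ring
  have hsesq := CfsgLib.MaxSub.sesqForm_of_unitary (h.unitary (n := n))
  let φ := CfsgLib.MaxSub.leftVec (Cfsg.hermForm n F q) w
  have h0 : φ ⬝ᵥ (c • w) = 0 := by
    rw [dotProduct_smul, hsesq.dot_leftVec, hw, smul_zero]
  have hmem := CfsgLib.MaxSub.hermTv_mem h.unitary hw hc
  refine ⟨tv (c • w) φ h0, ?_, c • w, φ, h0, rfl, ?_, ?_, i₀, i₁, i₂, by simp [i₁, i₂, Fin.ext_iff], ?_, ?_⟩
  · convert hmem using 1
    refine Units.ext ?_
    exact (CfsgLib.MaxSub.tv_coe h0).symm
  · intro e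
    have := congrFun e i₀
    simp [w, hc0, i₀, i₁, i₂, i₃, Fin.ext_iff] at this
  · refine hsesq.leftVec_ne_zero fun e => ?_
    have := congrFun e i₀
    simp [w, i₀, i₁, i₂, i₃, Fin.ext_iff] at this
  all_goals
    rw [tv_mulVec, hsesq.dot_leftVec, hs, hw0, map_one, one_mul, one_smul, Pi.add_apply,
      Pi.smul_apply, smul_eq_mul]
  · rw [Pi.single_eq_of_ne (by simp [i₀, i₁, Fin.ext_iff]), hw1, zero_add]
    exact mul_ne_zero hc0 ha0
  · rw [Pi.single_eq_of_ne (by simp [i₀, i₂, Fin.ext_iff]), hw2, zero_add, mul_one]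
    exact hc0

end CfsgLib.AschbacherUnitary
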