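import Cfsg.Agent.AschbacherUnitary.Basic
import Cfsg.Agent.Aschbacher.Forms
import Cfsg.Agent.Aschbacher.Subfield

/-!
Descent of unitary groups to subfields: an absolutely irreducible group of isometries realisable over a subfield
lies in a subfield group carrying the form, and a group also fixing a quadratic form is realisable over the fixed
field.
-/

set_option autoImplicit false

namespace CfsgLib.AschbacherUnitary

open Matrix CfsgLib.Aschbacher

variable {n q : ℕ} {F : Type*} [Field F] [Fintype F] {σ : F ≃+* F}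

/-- An absolutely irreducible group fixing a quadratic and a unitary form in odd dimension is realisable over the
fixed field of the involution. -/
theorem realisable_of_intertwiner {m : ℕ} (hodd : n = 2 * m + 1) {R : Subgroup (GL (Fin n) F)}
    (hR : Cfsg.Geo.ActsAbsolutelyIrreducibly (Cfsg.Geo.matrixSet R))
    (hc' : IsConj q σ) {A : Matrix (Fin n) (Fin n) F} (hAu : IsUnit A)
    (hAx : ∀ x ∈ R, A * mat x = (mat x).map σ * A) :
    ∃ F₀ : Subfield F, F₀ ≠ ⊤ ∧ Cfsg.Geo.RealisableOver F₀ (Cfsg.Geo.matrixSet R) := by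
  classical
  obtain ⟨a, ha⟩ : ∃ a, σ a ≠ a := by
    by_contra hall
    simp only [not_exists, not_not] at hall
    exact hc'.ne_refl (RingEquiv.ext hall)
  have hmapmap : ∀ M : Matrix (Fin n) (Fin n) F, (M.map σ).map σ = M := fun M => by
    ext i j; exact hc'.involutive _
  haveI : NeZero n := ⟨by omega⟩
  obtain ⟨c, hc⟩ := commute_of_absIrred hR (M := A.map σ * A) fun x hx => by
    have h := congrArg (fun M : Matrix (Fin n) (Fin n) F => M.map σ) (hAx x hx)
    simp only [map_mat_mul, hmapmap] at h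
    rw [mul_assoc, hAx x hx, ← mul_assoc, h, mul_assoc]
  have hdA : A.det ≠ 0 := ((Matrix.isUnit_iff_isUnit_det A).1 hAu).ne_zero
  have hdet : σ A.det * A.det = c ^ (2 * m + 1) := by
    have h := congrArg Matrix.det hc
    rw [Matrix.det_mul, Matrix.det_smul, Matrix.det_one, mul_one, Fintype.card_fin] at h
    rw [show c ^ (2 * m + 1) = c ^ n by rw [hodd], ← h]
    congr 1
    exact RingHom.map_det σ.toRingHom A
  have hc0 : c ≠ 0 := by
    rintro rfl
    rw [zero_pow (by omega)] at hdet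
    exact mul_ne_zero ((map_ne_zero σ).2 hdA) hdA hdet
  have hσc : σ c = c := by
    have h := congrArg (fun M : Matrix (Fin n) (Fin n) F => M.map σ) hc
    simp only [map_mat_mul, hmapmap] at h
    have hsc : (c • (1 : Matrix (Fin n) (Fin n) F)).map σ = σ c • 1 := by
      ext i j
      by_cases hij : i = j <;> simp [hij]
    rw [hsc] at h
    have h' : A * (A.map σ * A) = A * A.map σ * A := (mul_assoc _ _ _).symm
    rw [hc, h, Matrix.mul_smul, Matrix.smul_mul, mul_one, one_mul] at h'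
    obtain ⟨i, j, hne⟩ : ∃ i j, A i j ≠ 0 := by
      by_contra hall
      simp only [not_exists, not_not] at hall
      exact hAu.ne_zero (Matrix.ext hall)
    have h'' := congrFun (congrFun h' i) j
    simp only [Matrix.smul_apply, smul_eq_mul] at h''
    exact (mul_right_cancel₀ hne h'').symm
  set μ := c ^ m / A.det with hμ
  have hμμ : σ μ * μ * c = 1 := by
    rw [hμ, map_div₀, map_pow, hσc]
    have hσd : σ A.det ≠ 0 := (map_ne_zero σ).2 hdA
    field_simp
    rw [hdet]; ring
  set A' := μ • A with hA'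
  have hA'1 : A'.map σ * A' = 1 := by
    have hsm : A'.map σ = σ μ • A.map σ := by ext i j; simp [hA']
    rw [hsm, hA', Matrix.smul_mul, Matrix.mul_smul, hc, smul_smul, smul_smul, hμμ, one_smul]
  have hA'x : ∀ x ∈ R, A' * mat x = (mat x).map σ * A' := fun x hx => by
    rw [hA', Matrix.smul_mul, hAx x hx, Matrix.mul_smul]
  let τ : (Fin n → F) → (Fin n → F) := fun v => A'.map σ *ᵥ fun i => σ (v i)
  have hmv : ∀ (M : Matrix (Fin n) (Fin n) F) (v : (Fin n → F)),
      (fun i => σ ((M *ᵥ v) i)) = M.map σ *ᵥ fun i => σ (v i) := fun M v => by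
    funext i
    simp [Matrix.mulVec, dotProduct, map_sum, map_mul]
  have hτadd : ∀ u v, τ (u + v) = τ u + τ v := fun u v => by
    simp only [τ, Pi.add_apply, map_add]
    exact Matrix.mulVec_add _ _ _
  have hτsmul : ∀ (b : F) v, τ (b • v) = σ b • τ v := fun b v => by
    simp only [τ, Pi.smul_apply, smul_eq_mul, map_mul]
    exact Matrix.mulVec_smul _ (σ b) _
  have hττ : ∀ v, τ (τ v) = v := fun v => by
    show A'.map σ *ᵥ (fun i => σ ((A'.map σ *ᵥ fun k => σ (v k)) i)) = v
    rw [hmv, hmapmap, Matrix.mulVec_mulVec, hA'1]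
    simp [hc'.involutive]
  have hτx : ∀ x ∈ R, ∀ v, τ (mat x *ᵥ v) = mat x *ᵥ τ v := fun x hx v => by
    show A'.map σ *ᵥ (fun i => σ ((mat x *ᵥ v) i)) = _
    rw [hmv, Matrix.mulVec_mulVec]
    show _ = mat x *ᵥ (A'.map σ *ᵥ _)
    rw [Matrix.mulVec_mulVec]
    congr 1
    have h := congrArg (fun M : Matrix (Fin n) (Fin n) F => M.map σ) (hA'x x hx)
    simp only [map_mat_mul, hmapmap] at h
    exact h
  let S : Set (Fin n → F) := {v | τ v = v}
  have hspanS : Submodule.span F S = ⊤ := by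
    rw [eq_top_iff]
    rintro v -
    have h1 : v + τ v ∈ Submodule.span F S :=
      Submodule.subset_span (show τ (v + τ v) = v + τ v by rw [hτadd, hττ, add_comm])
    have h3 : a • v + σ a • τ v ∈ Submodule.span F S :=
      Submodule.subset_span (show τ (a • v + σ a • τ v) = a • v + σ a • τ v by
        rw [hτadd, hτsmul, hτsmul, hττ, hc'.involutive, add_comm])
    have h4 : (a - σ a) • v ∈ Submodule.span F S := by
      have : (a - σ a) • v = (a • v + σ a • τ v) - σ a • (v + τ v) := by module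
      rw [this]
      exact Submodule.sub_mem _ h3 (Submodule.smul_mem _ _ h1)
    exact ((Submodule.span F S).smul_mem_iff (sub_ne_zero.2 (Ne.symm ha))).1 h4
  obtain ⟨b, hbS, hbspan, hbli⟩ := exists_linearIndependent F S
  rw [hspanS] at hbspan
  let bas : Module.Basis b F (Fin n → F) := Module.Basis.mk hbli (by simp [hbspan])
  haveI : Finite b := Module.Finite.finite_basis bas
  haveI : Fintype b := Fintype.ofFinite b
  let bI : Module.Basis (Fin n) F (Fin n → F) := bas.reindex (Fintype.equivOfCardEq (by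
    rw [← Module.finrank_eq_card_basis bas, Module.finrank_fintype_fun_eq_card]))
  have hfixb : ∀ i, τ (bI i) = bI i := fun i => by
    simp only [bI, Module.Basis.reindex_apply, bas, Module.Basis.mk_apply]
    exact hbS (Subtype.mem _)
  let Bm : Matrix (Fin n) (Fin n) F := Matrix.of fun k i => bI i k
  have hBu : IsUnit Bm := Matrix.linearIndependent_cols_iff_isUnit.1 bI.linearIndependent
  have hBmv : ∀ y, Bm *ᵥ y = ∑ i, y i • bI i := fun y => by
    funext k
    simp [Bm, Matrix.mulVec, dotProduct, Finset.sum_apply, mul_comm]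
  let F₀ : Subfield F := σ.toRingHom.eqLocusField (RingHom.id F)
  refine ⟨F₀, fun htop => ha ?_, (hBu.unit)⁻¹, forall_matrixSet.2 fun x hx i j => ?_⟩
  · have : a ∈ F₀ := htop ▸ trivial
    exact this
  show σ _ = _
  rw [inv_inv]
  set y : Fin n → F := (mat hBu.unit⁻¹ * mat x * Bm) *ᵥ Pi.single j 1 with hy
  have hBj : Bm *ᵥ Pi.single j 1 = bI j := by
    funext k
    simp [Bm]
  have hBy : Bm *ᵥ y = mat x *ᵥ bI j := by
    rw [hy, Matrix.mulVec_mulVec, ← mul_assoc, ← mul_assoc]
    rw [show Bm * mat hBu.unit⁻¹ = 1 from mat_mul_inv hBu.unit, one_mul, ← Matrix.mulVec_mulVec, hBj]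
  have hτsum : ∀ z : Fin n → F, τ (Bm *ᵥ z) = Bm *ᵥ fun i => σ (z i) := fun z => by
    rw [hBmv, hBmv]
    let T : (Fin n → F) →+ (Fin n → F) := AddMonoidHom.mk' τ hτadd
    show T _ = _
    rw [map_sum]
    exact Finset.sum_congr rfl fun i _ => by
      show τ _ = _
      rw [hτsmul, hfixb]
  have hfix' : Bm *ᵥ (fun i => σ (y i)) = Bm *ᵥ y := by
    rw [← hτsum, hBy, hτx x hx, hfixb]
  have h := congrFun (Matrix.mulVec_injective_iff_isUnit.2 hBu hfix') i
  have hyi : y i = (mat hBu.unit⁻¹ * mat x * Bm) i j := by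
    rw [hy, Matrix.mulVec_single_one]
    rfl
  rw [hyi] at h
  exact h

/-- An absolutely irreducible group of isometries also fixing a quadratic form is realisable over a proper
subfield. -/
theorem realisable_of_quadratic (hodd : Odd n) (h : IsConj q σ) {R : Subgroup (GL (Fin n) F)}
    (hR : Cfsg.Geo.ActsAbsolutelyIrreducibly (Cfsg.Geo.matrixSet R)) (hRU : R ≤ Cfsg.GU n F q)
    {Q : (Fin n → F) → F} (hQ : Cfsg.Geo.IsNondegenerateQuadraticForm Q)
    (hfix : Cfsg.Geo.FixesQuadForm (Cfsg.Geo.matrixSet R) Q) :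
    ∃ F₀ : Subfield F, F₀ ≠ ⊤ ∧ Cfsg.Geo.RealisableOver F₀ (Cfsg.Geo.matrixSet R) := by
  obtain ⟨m, hm⟩ := hodd
  have hsq := isSesq_of_bilinear hQ.polar_bilinear
  set S := Cfsg.Geo.gramMatrix (QuadraticMap.polar Q) with hS
  refine realisable_of_intertwiner hm hR h (A := S) (gram_isUnit hsq hQ.nondegenerate) fun x hx => ?_
  have e := hsq.gram_of_eq (c := (1 : F)) (g := mat x) fun u v => by
    rw [one_mul]
    simp only [QuadraticMap.polar, ← Matrix.mulVec_add, hfix _ (mem_matrixSet hx)]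
  have hmap : (mat x).map ⇑(RingEquiv.refl F) = mat x := by ext i j; rfl
  rw [hmap, one_smul, ← hS] at e
  have h1 := h.mem_GU_iff.1 (hRU hx)
  have h2 : (mat x).map σ * (mat x)ᵀ = 1 := mul_eq_one_comm.1 h1
  calc S * mat x = (mat x).map σ * (mat x)ᵀ * (S * mat x) := by rw [h2, one_mul]
    _ = (mat x).map σ * ((mat x)ᵀ * S * mat x) := by simp only [mul_assoc]
    _ = _ := by rw [e]

theorem exists_moved_of_odd (hF : Fintype.card F = q ^ 2) (h : IsConj q σ) {F₁ : Subfield F} {r : ℕ}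
    (hr : Odd r) (hcard : Fintype.card F = Nat.card F₁ ^ r) : ∃ w ∈ F₁, σ w ≠ w := by
  classical
  by_contra hall
  simp only [not_exists, not_and, not_not] at hall
  haveI : Fintype F₁ := Fintype.ofFinite _
  obtain ⟨p, hchar⟩ := CharP.exists F
  haveI := hchar
  haveI : CharP F₁ p := (F₁.subtype.charP_iff_charP p).2 hchar
  obtain ⟨k, hp, hk⟩ := FiniteField.card F p
  obtain ⟨m, -, hm⟩ := FiniteField.card F₁ p
  have hcard1 : Nat.card F₁ = p ^ (m : ℕ) := by rw [Nat.card_eq_fintype_card, hm]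
  obtain ⟨j, -, hj⟩ := (Nat.dvd_prime_pow hp).1 (show q ∣ p ^ (k : ℕ) by rw [← hk, hF]; exact dvd_pow_self q two_ne_zero)
  obtain ⟨g, hg⟩ := IsCyclic.exists_generator (α := F₁ˣ)
  have hordg : orderOf g = p ^ (m : ℕ) - 1 := by
    rw [orderOf_eq_card_of_forall_mem_zpowers hg, Nat.card_eq_fintype_card, Fintype.card_units, hm]
  have hq := h.one_lt
  have hdvd : p ^ (m : ℕ) - 1 ∣ p ^ j - 1 := by
    rw [← hordg, ← hj]
    refine orderOf_dvd_of_pow_eq_one (Units.ext (Subtype.ext ?_))
    simp only [Units.val_pow_eq_pow_val, SubmonoidClass.coe_pow, Units.val_one, OneMemClass.coe_one]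
    have hne : ((g : F₁) : F) ≠ 0 := fun e => g.ne_zero (Subtype.ext e)
    refine mul_right_cancel₀ hne ?_
    rw [← pow_succ, Nat.sub_add_cancel hq.le, one_mul, ← h.eq_pow]
    exact hall _ (g : F₁).2
  have hgcd := Nat.gcd_eq_left hdvd
  rw [Nat.pow_sub_one_gcd_pow_sub_one] at hgcd
  have h1 : p ^ Nat.gcd m j = p ^ (m : ℕ) := by
    have := Nat.one_le_pow (Nat.gcd m j) p hp.pos
    have := Nat.one_le_pow (m : ℕ) p hp.pos
    omega
  have h2 := Nat.pow_right_injective hp.two_le h1
  obtain ⟨c, hc⟩ := h2 ▸ Nat.gcd_dvd_right (m : ℕ) j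
  rw [hF, hcard1, hj, ← pow_mul, ← pow_mul] at hcard
  have h3 := Nat.pow_right_injective hp.two_le hcard
  rw [hc, mul_assoc] at h3
  have h4 : c * 2 = r := Nat.eq_of_mul_eq_mul_left m.pos h3
  exact Nat.not_even_iff_odd.2 hr ⟨c, by omega⟩

/-- A group normalising an absolutely irreducible group of isometries realisable over a proper subfield lies in a
subfield group carrying the form. -/
theorem exists_unitary_subfield (hF : Fintype.card F = q ^ 2) (h : IsConj q σ) (hodd : Odd n) (hn : 2 ≤ n)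
    {F₀ : Subfield F} (h0 : F₀ ≠ ⊤) {H R : Subgroup (GL (Fin n) F)} (hnorm : Normalizes H R)
    (hRU : R ≤ Cfsg.GU n F q) (hR : Cfsg.Geo.ActsAbsolutelyIrreducibly (Cfsg.Geo.matrixSet R))
    (hreal : Cfsg.Geo.RealisableOver F₀ (Cfsg.Geo.matrixSet R)) :
    (∃ (F₁ : Subfield F) (r : ℕ) (P : GL (Fin n) F), r.Prime ∧ Odd r ∧
      Fintype.card F = Nat.card F₁ ^ r ∧
      Cfsg.Geo.IsFormRationalStructure (Cfsg.hermForm n F q) F₁ 1 P ∧
      H ≤ Cfsg.Geo.subfieldSubgroup F₁ P) ∨
    (Odd q ∧ ∃ (F₁ : Subfield F) (P : GL (Fin n) F), Fintype.card F = Nat.card F₁ ^ 2 ∧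
      Cfsg.Geo.IsFormRationalStructure (Cfsg.hermForm n F q) F₁ 1 P ∧
      H ≤ Cfsg.Geo.subfieldSubgroup F₁ P) := by
  classical
  haveI : NeZero n := ⟨by omega⟩
  obtain ⟨F₁, r, hr, hle, hcard⟩ := exists_prime_index_subfield h0
  obtain ⟨B, hB⟩ := hreal
  have hB₁ : ∀ x ∈ R, ∀ i j, (mat B * mat x * mat B⁻¹) i j ∈ F₁ := fun x hx i j =>
    hle (hB _ (mem_matrixSet hx) i j)
  have hσF : ∀ c ∈ F₁, σ c ∈ F₁ := fun c hc => by rw [h.eq_pow]; exact F₁.pow_mem hc q
  set G' := (mat B⁻¹)ᵀ * (mat B⁻¹).map σ with hG'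
  have hBσ : IsUnit ((mat B⁻¹).map σ) := (B⁻¹).isUnit.map σ.toRingHom.mapMatrix
  have hGu' : IsUnit G' := ((Matrix.isUnit_transpose (mat B⁻¹)).2 (B⁻¹).isUnit).mul hBσ
  obtain ⟨i₀, j₀, hij⟩ : ∃ i j, G' i j ≠ 0 := by
    by_contra hall
    simp only [not_exists, not_not] at hall
    exact hGu'.ne_zero (Matrix.ext hall)
  obtain ⟨f, hf, -⟩ := Submodule.exists_dual_map_eq_bot_of_notMem
    (R := F₁) (p := (⊥ : Submodule F₁ F)) (x := G' i₀ j₀) (by simpa using hij) inferInstance
  let X : Matrix (Fin n) (Fin n) F := fun i j => (f (G' i j) : F)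
  have hXF : ∀ i j, X i j ∈ F₁ := fun i j => (f (G' i j)).2
  have e1 : ∀ a : F, a ∈ F₁ → ∀ b : F, (f (a * b) : F) = a * (f b : F) := fun a ha b => by
    have : f ((⟨a, ha⟩ : F₁) • b) = (⟨a, ha⟩ : F₁) * f b := f.map_smul _ b
    exact congrArg Subtype.val this
  have hinv : ∀ x ∈ R, (mat (B * x * B⁻¹))ᵀ * G' * (mat (B * x * B⁻¹)).map σ = G' := by
    intro x hx
    have e := h.mem_GU_iff.1 (hRU hx)
    have hb : mat B⁻¹ * mat (B * x * B⁻¹) = mat x * mat B⁻¹ := by
      rw [mat_conj, ← mul_assoc, ← mul_assoc, mat_inv_mul, one_mul]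
    calc (mat (B * x * B⁻¹))ᵀ * G' * (mat (B * x * B⁻¹)).map σ
        = (mat B⁻¹ * mat (B * x * B⁻¹))ᵀ * (mat B⁻¹ * mat (B * x * B⁻¹)).map σ := by
          rw [hG', Matrix.transpose_mul, map_mat_mul]; simp only [mul_assoc]
      _ = (mat B⁻¹)ᵀ * ((mat x)ᵀ * (mat x).map σ) * (mat B⁻¹).map σ := by
          rw [hb, Matrix.transpose_mul, map_mat_mul]; simp only [mul_assoc]
      _ = G' := by rw [e, mul_one, hG']
  have hX : ∀ x ∈ R, (mat (B * x * B⁻¹))ᵀ * X * (mat (B * x * B⁻¹)).map σ = X := by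
    intro x hx
    set A := mat (B * x * B⁻¹) with hA
    have hAF : ∀ i j, A i j ∈ F₁ := fun i j => by rw [hA, mat_conj]; exact hB₁ x hx i j
    ext i j
    have e := congrArg (fun M : Matrix (Fin n) (Fin n) F => (f (M i j) : F)) (hinv x hx)
    simp only [Matrix.mul_apply, Matrix.transpose_apply, Matrix.map_apply, Finset.sum_mul, map_sum,
      AddSubmonoidClass.coe_finsetSum, ← hA] at e ⊢
    refine (Finset.sum_congr rfl fun k _ => Finset.sum_congr rfl fun l _ => ?_).trans e
    rw [show A l i * G' l k * σ (A k j) = (A l i * σ (A k j)) * G' l k by ring,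
      e1 _ (F₁.mul_mem (hAF l i) (hσF _ (hAF k j)))]
    show A l i * X l k * σ (A k j) = _
    simp only [X]
    ring
  obtain ⟨Gi, hGi, hiG⟩ : ∃ Gi : Matrix (Fin n) (Fin n) F, G' * Gi = 1 ∧ Gi * G' = 1 :=
    ⟨↑hGu'.unit⁻¹, IsUnit.mul_val_inv hGu', IsUnit.val_inv_mul hGu'⟩
  have hmapmap : ∀ M : Matrix (Fin n) (Fin n) F, (M.map σ).map σ = M := fun M => by
    ext i j; exact h.involutive _
  have h1map : (1 : Matrix (Fin n) (Fin n) F).map σ = 1 := Matrix.map_one σ (map_zero σ) (map_one σ)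
  have hBB : (mat B).map σ * (mat B⁻¹).map σ = 1 := by rw [← map_mat_mul, mat_mul_inv, h1map]
  have hBB' : (mat B⁻¹).map σ * (mat B).map σ = 1 := by rw [← map_mat_mul, mat_inv_mul, h1map]
  obtain ⟨c, hc⟩ := commute_of_absIrred hR
    (M := mat B⁻¹ * (Gi * X).map σ * mat B) fun x hx => by
    set A := mat (B * x * B⁻¹) with hA
    set Ai := mat (B * x * B⁻¹)⁻¹ with hAi
    have h1 : X * A.map σ = Aiᵀ * X := by
      calc X * A.map σ = (A * Ai)ᵀ * (X * A.map σ) := by
            rw [hA, hAi, mat_mul_inv, Matrix.transpose_one, one_mul]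
        _ = Aiᵀ * (Aᵀ * X * A.map σ) := by rw [Matrix.transpose_mul]; simp only [mul_assoc]
        _ = _ := by rw [hA, hX x hx]
    have h2 : G' * A.map σ = Aiᵀ * G' := by
      calc G' * A.map σ = (A * Ai)ᵀ * (G' * A.map σ) := by
            rw [hA, hAi, mat_mul_inv, Matrix.transpose_one, one_mul]
        _ = Aiᵀ * (Aᵀ * G' * A.map σ) := by rw [Matrix.transpose_mul]; simp only [mul_assoc]
        _ = _ := by rw [hA, hinv x hx]
    have h3 : Gi * X * A.map σ = A.map σ * (Gi * X) := by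
      calc Gi * X * A.map σ = Gi * (Aiᵀ * (G' * Gi)) * X := by
            rw [mul_assoc, h1, hGi, mul_one]; simp only [mul_assoc]
        _ = Gi * (G' * A.map σ) * Gi * X := by rw [h2]; simp only [mul_assoc]
        _ = A.map σ * (Gi * X) := by rw [← mul_assoc Gi, hiG, one_mul, mul_assoc]
    have h4 := congrArg (fun M : Matrix (Fin n) (Fin n) F => M.map σ) h3
    simp only [map_mat_mul, hmapmap] at h4
    have hxA : mat x = mat B⁻¹ * A * mat B := by
      rw [hA, mat_conj]
      simp only [mul_assoc, mat_inv_mul, mul_one]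
      rw [← mul_assoc, mat_inv_mul, one_mul]
    rw [hxA]
    calc mat B⁻¹ * (Gi * X).map σ * mat B * (mat B⁻¹ * A * mat B)
        = mat B⁻¹ * ((Gi * X).map σ * (mat B * mat B⁻¹) * A) * mat B := by simp only [mul_assoc]
      _ = mat B⁻¹ * (A * (mat B * mat B⁻¹) * (Gi * X).map σ) * mat B := by
          rw [mat_mul_inv, mul_one, mul_one, map_mat_mul, h4]
      _ = _ := by simp only [mul_assoc]
  have hGX : X = σ c • G' := by
    have e := congrArg (fun M => G' * ((mat B * M * mat B⁻¹).map σ)) hc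
    have e2 : mat B * (mat B⁻¹ * (Gi * X).map σ * mat B) * mat B⁻¹ = (Gi * X).map σ := by
      calc mat B * (mat B⁻¹ * (Gi * X).map σ * mat B) * mat B⁻¹
          = (mat B * mat B⁻¹) * (Gi * X).map σ * (mat B * mat B⁻¹) := by simp only [mul_assoc]
        _ = _ := by rw [mat_mul_inv, one_mul, mul_one]
    simp only [e2, hmapmap] at e
    rw [← mul_assoc, hGi, one_mul, Matrix.mul_smul, Matrix.smul_mul, mul_one, mat_mul_inv] at e
    rw [e]
    ext i j
    simp [Matrix.mul_apply, Matrix.one_apply, apply_ite σ, mul_comm]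
  have hc0 : σ c ≠ 0 := by
    intro e
    apply hf
    have e' := congrFun (congrFun hGX i₀) j₀
    rw [e] at e'
    simp only [zero_smul, Matrix.zero_apply, X] at e'
    exact Subtype.ext e'
  set d := (σ c)⁻¹ with hd
  have hd0 : d ≠ 0 := inv_ne_zero hc0
  have hGd : ∀ i j, G' i j = d * X i j := fun i j => by
    rw [hd, hGX, Matrix.smul_apply, smul_eq_mul, inv_mul_cancel_left₀ hc0]
  have hherm : ∀ i j, G' j i = σ (G' i j) := fun i j => by
    simp only [hG', Matrix.mul_apply, Matrix.transpose_apply, Matrix.map_apply, map_sum, map_mul,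
      h.involutive]
    exact Finset.sum_congr rfl fun k _ => mul_comm _ _
  have hX0 : X i₀ j₀ ≠ 0 := fun e => hij (by rw [hGd, e, mul_zero])
  obtain ⟨lam, hlamF, hlam⟩ : ∃ lam ∈ F₁, σ d = lam * d := by
    refine ⟨X j₀ i₀ / σ (X i₀ j₀), F₁.div_mem (hXF _ _) (hσF _ (hXF _ _)), ?_⟩
    have e := hherm i₀ j₀
    rw [hGd, hGd, map_mul] at e
    rw [div_mul_eq_mul_div, eq_div_iff ((map_ne_zero σ).2 hX0)]
    linear_combination -e
  have hlam1 : lam * σ lam = 1 := by
    have e := congrArg σ hlam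
    rw [h.involutive, map_mul, hlam] at e
    refine mul_right_cancel₀ hd0 ?_
    linear_combination -e
  -- a multiplier `c₁` in the subfield with `d / c₁` fixed
  have finish : ∀ c₁ ∈ F₁, c₁ ≠ 0 → σ c₁ = lam * c₁ →
      ∃ P : GL (Fin n) F, Cfsg.Geo.IsFormRationalStructure (Cfsg.hermForm n F q) F₁ 1 P ∧
        H ≤ Cfsg.Geo.subfieldSubgroup F₁ P := by
    intro c₁ hc₁ hc₁0 hσc
    have hlam0 : lam ≠ 0 := left_ne_zero_of_mul_eq_one hlam1
    have hu : σ (c₁ / d) = c₁ / d := by rw [map_div₀, hσc, hlam, mul_div_mul_left _ _ hlam0]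
    obtain ⟨s, hs⟩ := CfsgLib.MaxSub.norm_surjective h.ne_refl h.involutive hu
    have hs0 : s ≠ 0 := by
      rintro rfl
      rw [zero_mul, eq_comm, div_eq_zero_iff] at hs
      exact hs.elim hc₁0 hd0
    refine ⟨B⁻¹ * scalarGL (Units.mk0 s hs0), fun u v hu hv => ?_, fun g hg => ?_⟩
    · rw [one_mul]
      show Cfsg.hermForm n F q (mat (B⁻¹ * scalarGL _) *ᵥ u) (mat (B⁻¹ * scalarGL _) *ᵥ v) ∈ F₁
      have hM : mat (B⁻¹ * scalarGL (Units.mk0 s hs0)) = s • mat B⁻¹ := by
        simp only [mat, Units.val_mul]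
        rw [show ((scalarGL (Units.mk0 s hs0) : GL (Fin n) F) : Matrix (Fin n) (Fin n) F) = _ from mat_scalarGL _,
          Matrix.mul_smul, mul_one]
        rfl
      rw [hM, h.herm_mulVec]
      refine F₁.sum_mem fun a _ => F₁.sum_mem fun b _ => F₁.mul_mem (F₁.mul_mem (hu a) ?_) (hσF _ (hv b))
      have hval : ((s • mat B⁻¹)ᵀ * (s • mat B⁻¹).map σ) a b = c₁ * X a b := by
        rw [Matrix.transpose_smul, show (s • mat B⁻¹).map σ = σ s • (mat B⁻¹).map σ from by ext; simp,
          Matrix.smul_mul, Matrix.mul_smul, smul_smul, ← hG', Matrix.smul_apply, hs, smul_eq_mul, hGd]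
        field_simp
      rw [hval]
      exact F₁.mul_mem hc₁ (hXF a b)
    · obtain ⟨k, hk, hkg⟩ := exists_smul_of_mem_subfieldSubgroup (normalizer_le_subfield hR hB₁ hnorm hg)
      refine mem_subfieldSubgroup_of hk ?_
      have e : (B⁻¹ * scalarGL (Units.mk0 s hs0))⁻¹ * g * (B⁻¹ * scalarGL (Units.mk0 s hs0)) =
          B⁻¹⁻¹ * g * B⁻¹ := by
        set z : GL (Fin n) F := scalarGL (Units.mk0 s hs0) with hz
        calc (B⁻¹ * z)⁻¹ * g * (B⁻¹ * z) = z⁻¹ * (B⁻¹⁻¹ * g * B⁻¹ * z) := by group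
          _ = z⁻¹ * (z * (B⁻¹⁻¹ * g * B⁻¹)) := by
            rw [scalars_comm (scalarGL_mem _) (g := B⁻¹⁻¹ * g * B⁻¹)]
          _ = _ := inv_mul_cancel_left _ _
      have e' := congrArg mat e
      simp only [mat, Units.val_mul] at e' ⊢
      rw [e']
      exact hkg
  rcases hr.eq_two_or_odd' with rfl | hro
  · right
    haveI : Fintype F₁ := Fintype.ofFinite _
    have hq₀ : Nat.card F₁ = q := Nat.pow_left_injective two_ne_zero (hcard.symm.trans hF)
    have hfixF : ∀ x ∈ F₁, σ x = x := fun x hx => by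
      rw [h.eq_pow, ← hq₀, Nat.card_eq_fintype_card]
      exact congrArg Subtype.val (FiniteField.pow_card (⟨x, hx⟩ : F₁))
    have hXu : IsUnit X := by
      rw [hGX, Matrix.isUnit_iff_isUnit_det, Matrix.det_smul]
      exact ((Ne.isUnit hc0).pow _).mul ((Matrix.isUnit_iff_isUnit_det _).1 hGu')
    have hXt : ∀ i j, X j i = lam * X i j := fun i j => by
      have e := hherm i j
      rw [hGd, hGd, map_mul, hlam, hfixF _ (hXF i j)] at e
      exact mul_left_cancel₀ hd0 (by linear_combination e)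
    have hl1 : lam = 1 := by
      have hsq : lam * lam = 1 := by
        have e := hlam1
        rwa [hfixF _ hlamF] at e
      have e : Xᵀ = lam • X := by ext i j; exact hXt i j
      have e' := congrArg Matrix.det e
      rw [Matrix.det_transpose, Matrix.det_smul, Fintype.card_fin] at e'
      obtain ⟨m, hm⟩ := hodd
      rw [show lam ^ n = lam by rw [hm, pow_succ, pow_mul, pow_two, hsq, one_pow, one_mul]] at e'
      exact (mul_eq_right₀ ((Matrix.isUnit_iff_isUnit_det _).1 hXu).ne_zero).1 e'.symm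
    have hqodd : Odd q := by
      by_contra hqe
      have hceven : Fintype.card F % 2 = 0 := by
        rw [hF, Nat.pow_mod, Nat.even_iff.1 (Nat.not_odd_iff_even.1 hqe)]
      haveI : CharP F 2 := ringChar.of_eq (FiniteField.even_card_iff_char_two.2 hceven)
      have h2 : (2 : F) = 0 := CharTwo.two_eq_zero
      have hsym : ∀ i j, X j i = X i j := fun i j => by rw [hXt, hl1, one_mul]
      have hXT : Xᵀ = X := by ext i j; exact hsym i j
      let q2 : (Fin n → F) → F := fun v => v ⬝ᵥ (X *ᵥ v)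
      have hcomm : ∀ u v : Fin n → F, u ⬝ᵥ (X *ᵥ v) = v ⬝ᵥ (X *ᵥ u) := fun u v => by
        rw [Matrix.dotProduct_mulVec, ← Matrix.mulVec_transpose, hXT, dotProduct_comm]
      have hadd : ∀ u v, q2 (u + v) = q2 u + q2 v := fun u v => by
        simp only [q2, Matrix.mulVec_add, dotProduct_add, add_dotProduct]
        rw [hcomm v u]
        linear_combination (u ⬝ᵥ (X *ᵥ v)) * h2
      have hsmul : ∀ (a : F) v, q2 (a • v) = a ^ 2 * q2 v := fun a v => by
        simp only [q2, Matrix.mulVec_smul, dotProduct_smul, smul_dotProduct, smul_eq_mul]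
        ring
      let W : Submodule F (Fin n → F) :=
        { carrier := {v | q2 (mat B *ᵥ v) = 0}
          add_mem' := fun {u v} hu hv => by
            show q2 (mat B *ᵥ (u + v)) = 0
            rw [Matrix.mulVec_add, hadd, show q2 (mat B *ᵥ u) = 0 from hu,
              show q2 (mat B *ᵥ v) = 0 from hv, add_zero]
          zero_mem' := by
            show q2 (mat B *ᵥ 0) = 0
            simp [q2]
          smul_mem' := fun a v hv => by
            show q2 (mat B *ᵥ (a • v)) = 0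
            rw [Matrix.mulVec_smul, hsmul, show q2 (mat B *ᵥ v) = 0 from hv, mul_zero] }
      have hWinv : R ≤ Cfsg.Geo.subspaceStabilizer W := by
        intro x hx
        rw [mem_subspaceStabilizer_iff]
        intro v hv
        show q2 (mat B *ᵥ (mat x *ᵥ v)) = 0
        set y := mat (B * x * B⁻¹) with hy
        have hyfix : y.map σ = y := by
          ext i j
          exact hfixF _ (by rw [hy, mat_conj]; exact hB₁ x hx i j)
        have e : mat B *ᵥ (mat x *ᵥ v) = y *ᵥ (mat B *ᵥ v) := by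
          rw [Matrix.mulVec_mulVec, Matrix.mulVec_mulVec, hy, mat_conj, mul_assoc _ (mat B⁻¹),
            mat_inv_mul, mul_one]
        have eX := hX x hx
        rw [← hy, hyfix] at eX
        rw [e]
        show (y *ᵥ (mat B *ᵥ v)) ⬝ᵥ (X *ᵥ (y *ᵥ (mat B *ᵥ v))) = 0
        rw [dotProduct_comm, Matrix.dotProduct_mulVec, ← Matrix.mulVec_transpose, Matrix.mulVec_mulVec,
          Matrix.mulVec_mulVec, eX, dotProduct_comm]
        exact hv
      have hWne : W ≠ ⊥ := by
        let a : Fin n := ⟨0, by omega⟩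
        let b : Fin n := ⟨1, by omega⟩
        have hab : a ≠ b := by simp [a, b, Fin.ext_iff]
        haveI : Fact (Nat.Prime 2) := ⟨Nat.prime_two⟩
        obtain ⟨wa, hwa⟩ := (Finite.injective_iff_surjective.1 (frobenius_inj F 2)) (X a a)
        obtain ⟨wb, hwb⟩ := (Finite.injective_iff_surjective.1 (frobenius_inj F 2)) (X b b)
        rw [frobenius_def] at hwa hwb
        have hone : ∀ (i : Fin n) (c : F), q2 (Pi.single i c) = c ^ 2 * X i i := fun i c => by
          simp [q2, Matrix.mulVec_single, pow_two, mul_comm]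
          ring
        obtain ⟨u, hu0, hu⟩ : ∃ u : Fin n → F, u ≠ 0 ∧ q2 u = 0 := by
          by_cases hza : wa = 0
          · refine ⟨Pi.single a 1, fun e => by simpa using congrFun e a, ?_⟩
            rw [hone, ← hwa, hza]
            ring
          · refine ⟨Pi.single a wb + Pi.single b wa, fun e => hza ?_, ?_⟩
            · simpa [hab] using congrFun e b
            · rw [hadd, hone, hone, ← hwa, ← hwb]
              linear_combination (wa ^ 2 * wb ^ 2) * h2
        rw [Submodule.ne_bot_iff]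
        refine ⟨mat B⁻¹ *ᵥ u, ?_, fun e => hu0 ?_⟩
        · show q2 (mat B *ᵥ (mat B⁻¹ *ᵥ u)) = 0
          rwa [mulVec_inv_mulVec]
        · have := congrArg (fun z => mat B *ᵥ z) e
          simpa [mulVec_inv_mulVec] using this
      have hWtop := ((actsIrreducibly_iff.1 hR.1) W hWinv).resolve_left hWne
      have hall : ∀ v, q2 v = 0 := fun v => by
        have h1 : mat B⁻¹ *ᵥ v ∈ W := hWtop ▸ Submodule.mem_top
        have h1' : q2 (mat B *ᵥ (mat B⁻¹ *ᵥ v)) = 0 := h1
        rwa [mulVec_inv_mulVec] at h1'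
      refine no_symplectic_of_odd (f := fun u v : Fin n → F => u ⬝ᵥ (X *ᵥ v))
        ⟨⟨fun x y v => add_dotProduct _ _ _, fun a x v => by simp, fun v x y => by
            simp [Matrix.mulVec_add], fun a v x => by simp [Matrix.mulVec_smul]⟩,
          fun v u => by rw [CharTwo.neg_eq, hcomm], hall, fun v hv => ?_⟩ (by rwa [Fintype.card_fin])
      have hne : X *ᵥ v ≠ 0 := fun e =>
        hv ((Matrix.mulVec_injective_iff_isUnit.2 hXu) (by rw [e, Matrix.mulVec_zero]))
      obtain ⟨i, hi⟩ := Function.ne_iff.1 hne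
      exact ⟨⟨Pi.single i 1, by simpa using hi⟩, ⟨Pi.single i 1, by rw [hcomm]; simpa using hi⟩⟩
    obtain ⟨P, hP, hPle⟩ := finish 1 F₁.one_mem one_ne_zero (by rw [map_one, hl1, one_mul])
    exact ⟨hqodd, F₁, P, hcard, hP, hPle⟩
  · left
    obtain ⟨w, hwF, hw⟩ := exists_moved_of_odd hF h hro hcard
    obtain ⟨w₀, hw₀F, hw₀⟩ : ∃ w₀ ∈ F₁, w₀ + σ w₀ * σ lam ≠ 0 := by
      by_cases h1 : 1 + σ lam = 0
      · refine ⟨w, hwF, fun e => hw ?_⟩
        linear_combination σ w * h1 - e
      · exact ⟨1, F₁.one_mem, by rwa [map_one, one_mul]⟩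
    obtain ⟨P, hP, hPle⟩ := finish (w₀ + σ w₀ * σ lam)
      (F₁.add_mem hw₀F (F₁.mul_mem (hσF _ hw₀F) (hσF _ hlamF))) hw₀
      (by rw [map_add, map_mul, h.involutive, h.involutive]; linear_combination -(σ w₀) * hlam1)
    exact ⟨F₁, r, P, hr, hro, hcard, hP, hPle⟩

end CfsgLib.AschbacherUnitary
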