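import Cfsg.Agent.AschbacherTwelve.Unitary
import Cfsg.Agent.AschbacherUnitary.Descent
import Cfsg.Agent.MaxSub.QuadraticBasic

/-!
Pieces of the maximal subgroup lists of special unitary groups in composite dimension: reducible groups, almost
simple cores and subfield groups, and tensor decompositions with small factors.
-/

set_option autoImplicit false
set_option linter.unusedSectionVars false

namespace CfsgLib.AschbacherUnitary.Composite

open Matrix CfsgLib.Aschbacher CfsgLib.AschbacherForms CfsgLib.AschbacherUnitary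
open scoped Kronecker
attribute [-simp] RingEquiv.coe_refl

variable {n q : ℕ} {F : Type*} [Field F] [Fintype F] {σ : F ≃+* F}

theorem isometry_of_le {H : Subgroup (GL (Fin n) F)} (hH : H ≤ SUn n F q) :
    ∀ g ∈ H, ∀ u v, Cfsg.hermForm n F q (mat g *ᵥ u) (mat g *ᵥ v) = Cfsg.hermForm n F q u v :=
  fun _ hg => CfsgLib.MaxSub.mem_GU_iff_forall.1 (Subgroup.mem_inf.1 (hH hg)).1

/-- Reducible maximal subgroups. -/
theorem reducible_maximal (hF : Fintype.card F = q ^ 2) (h : IsConj q σ) (h5 : 5 ≤ n)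
    {H : Subgroup (GL (Fin n) F)} (hH : Cfsg.Geo.IsMaximalIn (SUn n F q) H)
    (hirr : ¬ Cfsg.Geo.ActsIrreducibly (Cfsg.Geo.matrixSet H)) :
    (∃ W : Submodule F (Fin n → F), W ≠ ⊥ ∧ Cfsg.Geo.IsTotallySingularFor (Cfsg.hermForm n F q) W ∧
      H = Cfsg.Geo.subspaceStabilizer W ⊓ SUn n F q) ∨
    (∃ W : Submodule F (Fin n → F), W ≠ ⊥ ∧ Cfsg.Geo.IsNondegenerateOn (Cfsg.hermForm n F q) W ∧
      2 * Module.finrank F W < n ∧ H = Cfsg.Geo.subspaceStabilizer W ⊓ SUn n F q) ∨
    (∃ (m : ℕ) (D : Fin 2 → Submodule F (Fin n → F)), 2 * m = n ∧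
      Cfsg.Geo.IsNondegenerateMDecomposition (Cfsg.hermForm n F q) m D ∧
      H = Cfsg.Geo.decompositionStabilizer D ⊓ SUn n F q) := by
  classical
  have hf := isReflexive_unitary (h.unitary (n := n))
  have hiso := isometry_of_le hH.1.le
  have heq : ∀ {X : Subgroup (GL (Fin n) F)}, H ≤ X → ¬ SUn n F q ≤ X → H = X ⊓ SUn n F q :=
    fun hle hne => eq_inf_of_maximal hH hle hne
  rw [actsIrreducibly_iff] at hirr
  push Not at hirr
  obtain ⟨W, hW, hW0, hW1⟩ := hirr
  have hWp : H ≤ Cfsg.Geo.subspaceStabilizer (hf.perp W) := fun g hg =>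
    hf.stabilizer_perp (hiso g hg) (hW hg)
  by_cases hrad : W ⊓ hf.perp W = ⊥
  swap
  · refine Or.inl ⟨W ⊓ hf.perp W, hrad, fun u hu v hv => hu.2 v hv.1,
      heq ?_ (not_le_subspaceStabilizer hF h h5 hrad ?_)⟩
    · intro g hg
      exact mem_subspaceStabilizer_iff.2 fun w hw =>
        ⟨mem_subspaceStabilizer_iff.1 (hW hg) w hw.1, mem_subspaceStabilizer_iff.1 (hWp hg) w hw.2⟩
    · exact fun h' => hW1 (eq_top_iff.2 (h' ▸ inf_le_left))
  have hnd := hf.isNondegenerateOn_iff.2 hrad
  have hdim := hf.finrank_perp W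
  rw [Fintype.card_fin] at hdim
  rcases lt_trichotomy (2 * Module.finrank F W) n with hlt | heq6 | hgt
  · exact Or.inr (Or.inl ⟨W, hW0, hnd, hlt, heq hW (not_le_subspaceStabilizer hF h h5 hW0 hW1)⟩)
  · have hc : IsCompl W (hf.perp W) := IsCompl.of_eq hrad (hf.sup_perp hnd)
    have hm : 2 ≤ Module.finrank F W := by omega
    have hD := decomposition_pair (m := Module.finrank F W) (by omega) hc rfl (by omega)
    have hD' : Cfsg.Geo.IsNondegenerateMDecomposition (Cfsg.hermForm n F q) (Module.finrank F W)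
        ![W, hf.perp W] := by
      refine ⟨hD, ?_, ?_⟩
      · intro i
        fin_cases i
        · exact hnd
        · exact hf.isNondegenerateOn_perp hnd
      · intro i j hij u hu v hv
        fin_cases i <;> fin_cases j
        · exact absurd rfl hij
        · exact hf.orth_comm (hv u hu)
        · exact hu v hv
        · exact absurd rfl hij
    refine Or.inr (Or.inr ⟨_, _, heq6, hD',
      heq (fun g hg => ?_) (CfsgLib.AschbacherTwelve.not_le_orthDecomposition h hm hD')⟩)
    refine mem_decompositionStabilizer_of hD fun i => ⟨i, ?_⟩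
    fin_cases i
    · exact mem_subspaceStabilizer_iff.1 (hW hg)
    · exact mem_subspaceStabilizer_iff.1 (hWp hg)
  · have hP0 : hf.perp W ≠ ⊥ := fun h' => hW1 (by
      rw [← hf.perp_perp W, h']
      exact eq_top_iff.2 fun x _ w hw => by rw [(Submodule.mem_bot F).1 hw, hf.zero_right])
    refine Or.inr (Or.inl ⟨hf.perp W, hP0, hf.isNondegenerateOn_perp hnd, by omega,
      heq hWp (not_le_subspaceStabilizer hF h h5 hP0 fun h' => ?_)⟩)
    rw [h', inf_top_eq] at hrad
    exact hW0 hrad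

/-- An almost simple core gives a subfield group or the residual class. -/
theorem core_cases (hF : Fintype.card F = q ^ 2) (h : IsConj q σ) (h5 : 5 ≤ n)
    {H : Subgroup (GL (Fin n) F)} (hH : Cfsg.Geo.IsMaximalIn (SUn n F q) H)
    (hirr : Cfsg.Geo.ActsIrreducibly (Cfsg.Geo.matrixSet H)) {P : Subgroup (GL (Fin n) F)}
    (hP : IsSimpleCore H P) :
    (∃ (F₀ : Subfield F) (r : ℕ) (P : GL (Fin n) F), r.Prime ∧ Odd r ∧ Fintype.card F = Nat.card F₀ ^ r ∧
      Cfsg.Geo.IsFormRationalStructure (Cfsg.hermForm n F q) F₀ 1 P ∧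
      H = Cfsg.Geo.subfieldSubgroup F₀ P ⊓ SUn n F q) ∨
    (∃ (F₀ : Subfield F) (P : GL (Fin n) F) (ζ : F), Fintype.card F = Nat.card F₀ ^ 2 ∧ ζ ≠ 0 ∧
      ζ + ζ ^ q = 0 ∧ Cfsg.Geo.IsFormRationalStructure (Cfsg.hermForm n F q) F₀ ζ P ∧
      (∀ u : Fin n → F, (∀ i, u i ∈ F₀) → Cfsg.hermForm n F q (mat P *ᵥ u) (mat P *ᵥ u) = 0) ∧
      H = Cfsg.Geo.subfieldSubgroup F₀ P ⊓ SUn n F q) ∨
    (Odd q ∧ ∃ (F₀ : Subfield F) (P : GL (Fin n) F), Fintype.card F = Nat.card F₀ ^ 2 ∧
      Cfsg.Geo.IsFormRationalStructure (Cfsg.hermForm n F q) F₀ 1 P ∧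
      H = Cfsg.Geo.subfieldSubgroup F₀ P ⊓ SUn n F q) ∨
    Cfsg.Geo.InUnitaryResidualClass H := by
  classical
  have : Nonempty (Fin n) := ⟨⟨0, by omega⟩⟩
  have hu := h.unitary (n := n)
  have hf := isReflexive_unitary hu
  have hiso := isometry_of_le hH.1.le
  have hfix : Cfsg.Geo.FixesForm (Cfsg.Geo.matrixSet H) (Cfsg.hermForm n F q) := fixesForm_iff.2 hiso
  have heq : ∀ {X : Subgroup (GL (Fin n) F)}, H ≤ X → ¬ SUn n F q ≤ X → H = X ⊓ SUn n F q :=
    fun hle hne => eq_inf_of_maximal hH hle hne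
  have hq1 := h.one_lt
  have h2odd : Odd q → (2 : F) ≠ 0 := fun ho =>
    CfsgLib.MaxSub.two_ne_zero_of_odd (by rw [hF]; exact ho.pow)
  have h2even : ¬ Odd q → (2 : F) = 0 := by
    intro ho
    by_contra h2
    refine ho ?_
    have h1 : Odd (Fintype.card F) := Nat.odd_iff.2 (FiniteField.odd_card_of_char_ne_two fun hc => h2 (by
      have := ringChar.of_eq hc
      exact CharTwo.two_eq_zero))
    rw [hF] at h1
    exact (Nat.odd_pow_iff two_ne_zero).1 h1
  have hPfix : Cfsg.Geo.FixesForm (Cfsg.Geo.matrixSet P) (Cfsg.hermForm n F q) :=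
    fun s hs => hfix s (Set.image_mono hP.le hs)
  by_cases hreal : ∃ F₀ : Subfield F, F₀ ≠ ⊤ ∧ Cfsg.Geo.RealisableOver F₀ (Cfsg.Geo.matrixSet P)
  swap
  · refine Or.inr (Or.inr (Or.inr ⟨P, hP.toResidualCore fun F₀ h0 hr => hreal ⟨F₀, h0, hr⟩, ?_, ?_⟩))
    · rintro ⟨Q, hQ, hQP⟩
      have hpolfix : Cfsg.Geo.FixesForm (Cfsg.Geo.matrixSet P) (QuadraticMap.polar Q) := fun s hs u v => by
        simp only [QuadraticMap.polar, ← Matrix.mulVec_add, hQP s hs]
      exact hreal (realisable_of_two_forms (isReflexive_polar hQ) hu hP.absIrred hpolfix hPfix)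
    · rintro ⟨f, hf', hfP⟩
      exact hreal (realisable_of_two_forms (isReflexive_symplectic hf') hu hP.absIrred hfP hPfix)
  obtain ⟨F₀, h0, hreal⟩ := hreal
  obtain ⟨F₁, r, B, ζ, hr, hcard, hζ, hrat, hle⟩ :=
    exists_form_subfield hf h0 hP.normal hP.absIrred hPfix hreal
  have hne := CfsgLib.AschbacherUnitary.not_le_subfieldSubgroup hF h h5 hr hcard
  rcases hr.eq_two_or_odd' with rfl | hodd
  · have hq1' : Nat.card F₁ = q := Nat.pow_left_injective two_ne_zero (hcard.symm.trans hF)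
    have hσ : ∀ x ∈ F₁, σ x = x := fun x hx => by
      have : Fintype F₁ := Fintype.ofFinite _
      rw [h.eq_pow, ← hq1', Nat.card_eq_fintype_card]
      exact congrArg Subtype.val (FiniteField.pow_card (⟨x, hx⟩ : F₁))
    have hlt : Fintype.card F < Nat.card F₁ ^ Fintype.card (Fin n) := by
      rw [hcard, Fintype.card_fin, hq1']
      exact Nat.pow_lt_pow_right hq1 (by omega)
    rcases rational_multiplier hu hζ hrat with ⟨B', hrat', hB'⟩ | ⟨-, hneg⟩
    · rw [← hB'] at hle
      by_cases hodd : Odd q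
      · exact Or.inr (Or.inr (Or.inl ⟨hodd, F₁, B', hcard, hrat', heq hle (hne B')⟩))
      · have h2 := h2even hodd
        exact Or.inr (Or.inl ⟨F₁, B', 1, hcard, one_ne_zero, by rw [one_pow]; linear_combination h2, hrat',
          fun u hu' => diag_zero_of_two hu h2 one_ne_zero hσ (map_one σ) hlt hrat' hfix hirr hle hu',
          heq hle (hne B')⟩)
    · refine Or.inr (Or.inl ⟨F₁, B, ζ, hcard, hζ, by rw [← h.eq_pow, hneg, add_neg_cancel], hrat,
        fun u hu' => ?_, heq hle (hne B)⟩)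
      by_cases hodd : Odd q
      · exact diag_zero_of_neg hu (h2odd hodd) hζ hσ hneg hrat hu'
      · have h2 := h2even hodd
        exact diag_zero_of_two hu h2 hζ hσ (by rw [hneg]; linear_combination -ζ * h2) hlt hrat hfix hirr hle hu'
  · rcases rational_multiplier hu hζ hrat with ⟨B', hrat', hB'⟩ | ⟨hall, -⟩
    · rw [← hB'] at hle
      exact Or.inl ⟨F₁, r, B', hr, hodd, hcard, hrat', heq hle (hne B')⟩
    · obtain ⟨w, hw, hwσ⟩ := exists_moved_of_odd hF h hodd hcard
      exact absurd (hall w hw) hwσ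

/-- Tensor decompositions of the unitary form are moved, also for small factors. -/
theorem not_le_tensor (h : IsConj q σ) {k d : ℕ} (hk : 2 ≤ k) (hd : 2 ≤ d) {e : Fin n ≃ Fin k × Fin d}
    {P : GL (Fin n) F} {S : Matrix (Fin k) (Fin k) F} {T : Matrix (Fin d) (Fin d) F} {c : F}
    (hT : IsUnit T) (hTs : Tᵀ.map σ = T) (hform : ∀ x y : Fin k × Fin d → F,
      Cfsg.hermForm n F q (mat P *ᵥ (x ∘ e)) (mat P *ᵥ (y ∘ e)) = c * Cfsg.Geo.formOfGram σ (S ⊗ₖ T) x y) :
    ¬ SUn n F q ≤ Cfsg.Geo.tensorProductSubgroup k d e P := by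
  classical
  intro hle
  have hTu := CfsgLib.AschbacherTwelve.isUnitaryForm_formOf h hT hTs
  obtain ⟨w, -, hw0, hww⟩ := MaxSub.exists_iso_mem hTu ⊤ (by rw [finrank_top, Module.finrank_fin_fun]; omega)
  let i₀ : Fin k := ⟨0, by omega⟩
  let i₁ : Fin k := ⟨1, by omega⟩
  have hi : i₀ ≠ i₁ := by simp [i₀, i₁]
  let a : Fin k → F := Pi.single i₀ 1
  let v := coords e P (pure a w)
  have hvv : Cfsg.hermForm n F q v v = 0 := by
    show Cfsg.hermForm n F q (coords e P _) (coords e P _) = 0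
    rw [coords_apply, hform]
    rw [show Cfsg.Geo.formOfGram σ (S ⊗ₖ T) (pure a w) (pure a w) = formOf σ S a a * formOf σ T w w from
      formOfGram_pure (σ : F →+* F).toMonoidHom a a w w, hww, mul_zero, mul_zero]
  have hv0 : v ≠ 0 := by
    intro h0
    have h1 : pure a w = 0 := (coords e P).map_eq_zero_iff.1 h0
    refine hw0 (funext fun j => ?_)
    simpa [a, AschbacherForms.pure] using congrFun h1 (i₀, j)
  obtain ⟨g, φ, hg, hφ, hgx⟩ := CfsgLib.AschbacherTwelve.exists_hermTransvection h hvv hv0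
  obtain ⟨A, B, hab⟩ := exists_of_mem_tensorProductSubgroup (hle hg)
  have himg : ∀ u z, pure (mat A *ᵥ u) (mat B *ᵥ z) = pure u z + φ (coords e P (pure u z)) • pure a w := by
    intro u z
    apply (coords e P).injective
    rw [map_add, map_smul, ← kronecker_mulVec_pure, ← tensorEquiv_mulVec, ← hab, hgx]
  have hout : ∀ u z, (∀ x : F, u ≠ x • a) → (∀ x : F, z ≠ x • w) → φ (coords e P (pure u z)) = 0 := by
    intro u z hu hz
    by_contra hl
    have hli : LinearIndependent F ![z, w] := by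
      rw [LinearIndependent.pair_iff]
      intro x y hxy
      have hx : x = 0 := by
        by_contra hne
        refine hz (-(x⁻¹ * y)) ?_
        have h3 := congrArg (fun t => x⁻¹ • t) hxy
        simp only [smul_add, smul_smul, inv_mul_cancel₀ hne, one_smul, smul_zero] at h3
        rw [neg_smul]
        linear_combination (norm := module) h3
      rw [hx, zero_smul, zero_add] at hxy
      exact ⟨hx, (smul_eq_zero.1 hxy).resolve_right hw0⟩
    let C := Module.Basis.span hli
    have hdual : ∀ j : Fin 2, ∃ θ : Module.Dual F (Fin d → F), ∀ l : Fin 2,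
        θ (![z, w] l) = if l = j then 1 else 0 := by
      intro j
      obtain ⟨θ, hθ⟩ := LinearMap.exists_extend (C.coord j)
      refine ⟨θ, fun l => ?_⟩
      have h3 := LinearMap.congr_fun hθ (C l)
      rw [LinearMap.comp_apply, Submodule.subtype_apply, Module.Basis.coord_apply,
        Module.Basis.repr_self, Finsupp.single_apply] at h3
      simp only [C, Module.Basis.span_apply] at h3
      exact h3
    have hcontr : ∀ θ : Module.Dual F (Fin d → F), θ (mat B *ᵥ z) • (mat A *ᵥ u) =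
        θ z • u + (φ (coords e P (pure u z)) * θ w) • a := by
      intro θ
      funext i
      have h3 : θ (fun j => pure (mat A *ᵥ u) (mat B *ᵥ z) (i, j)) =
          θ (fun j => (pure u z + φ (coords e P (pure u z)) • pure a w) (i, j)) := by rw [himg]
      rw [show (fun j => pure (mat A *ᵥ u) (mat B *ᵥ z) (i, j)) = (mat A *ᵥ u) i • (mat B *ᵥ z) from rfl,
        show (fun j => (pure u z + φ (coords e P (pure u z)) • pure a w) (i, j)) =
          u i • z + φ (coords e P (pure u z)) • (a i • w) from funext fun j => rfl] at h3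
      simp only [map_add, map_smul, smul_eq_mul] at h3
      simp only [Pi.add_apply, Pi.smul_apply, smul_eq_mul]
      linear_combination h3
    obtain ⟨θ₁, hθ₁⟩ := hdual 0
    obtain ⟨θ₂, hθ₂⟩ := hdual 1
    have e1 := hcontr θ₁
    have e2 := hcontr θ₂
    have a1 := hθ₁ 0
    have a2 := hθ₁ 1
    have b1 := hθ₂ 0
    have b2 := hθ₂ 1
    simp at a1 a2 b1 b2
    rw [a1, a2, mul_zero, zero_smul, add_zero, one_smul] at e1
    rw [b1, b2, zero_smul, zero_add, mul_one] at e2
    have hs : θ₂ (mat B *ᵥ z) ≠ 0 := by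
      intro h0
      rw [h0, zero_smul] at e2
      exact hl (by simpa [a] using (congrFun e2 i₀).symm)
    refine hu (θ₁ (mat B *ᵥ z) * ((θ₂ (mat B *ᵥ z))⁻¹ * φ (coords e P (pure u z)))) ?_
    calc u = θ₁ (mat B *ᵥ z) • (mat A *ᵥ u) := e1.symm
      _ = θ₁ (mat B *ᵥ z) • ((θ₂ (mat B *ᵥ z))⁻¹ • (θ₂ (mat B *ᵥ z) • (mat A *ᵥ u))) := by rw [inv_smul_smul₀ hs]
      _ = _ := by rw [e2, smul_smul, smul_smul, mul_assoc]
  let b : Fin k → F := Pi.single i₁ 1
  have hb : ∀ x : F, b ≠ x • a := fun x e' => by simpa [a, b, hi, hi.symm] using congrFun e' i₁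
  obtain ⟨z₁, hz₁⟩ : ∃ z₁ : Fin d → F, ∀ x : F, z₁ ≠ x • w := by
    by_contra hall
    push Not at hall
    have htop : (⊤ : Submodule F (Fin d → F)) ≤ Submodule.span F {w} := fun z _ => by
      obtain ⟨x, rfl⟩ := hall z
      exact Submodule.smul_mem _ _ (Submodule.mem_span_singleton_self _)
    have h1 := Submodule.finrank_mono htop
    rw [finrank_top, Module.finrank_fin_fun, finrank_span_singleton hw0] at h1
    omega
  have hall : ∀ u z, φ (coords e P (pure u z)) = 0 := by
    have h1 : ∀ u, (∀ x : F, u ≠ x • a) → ∀ z, φ (coords e P (pure u z)) = 0 := by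
      intro u hu z
      by_cases hz : ∀ x : F, z ≠ x • w
      · exact hout u z hu hz
      push Not at hz
      obtain ⟨x, rfl⟩ := hz
      have h2 := hout u (x • w + z₁) hu fun y e' => hz₁ (y - x) (by linear_combination (norm := module) e')
      rw [show pure u (x • w + z₁) = pure u (x • w) + pure u z₁ from funext fun j => mul_add _ _ _,
        map_add, map_add, hout u z₁ hu hz₁, add_zero] at h2
      exact h2
    intro u z
    by_cases hu : ∀ x : F, u ≠ x • a
    · exact h1 u hu z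
    push Not at hu
    obtain ⟨x, rfl⟩ := hu
    have h2 := h1 (x • a + b) (fun y e' => hb (y - x) (by linear_combination (norm := module) e')) z
    rw [show pure (x • a + b) z = pure (x • a) z + pure b z from funext fun j => add_mul _ _ _,
      map_add, map_add, h1 b hb z, add_zero] at h2
    exact h2
  refine hφ (LinearMap.ext fun x => ?_)
  obtain ⟨x, rfl⟩ := (coords e P).surjective x
  rw [LinearMap.zero_apply, pi_eq_sum_univ' x, map_sum, map_sum]
  refine Finset.sum_eq_zero fun i _ => ?_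
  rw [map_smul, map_smul, show (Pi.single i (1 : F) : Fin k × Fin d → F) =
    pure (Pi.single i.1 1) (Pi.single i.2 1) from funext fun j => by
      obtain ⟨i₁', i₂'⟩ := i
      obtain ⟨j₁, j₂⟩ := j
      by_cases h1 : j₁ = i₁' <;> by_cases h2 : j₂ = i₂' <;> simp [AschbacherForms.pure, h1, h2], hall,
    smul_zero]

end CfsgLib.AschbacherUnitary.Composite
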