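import Cfsg.Agent.AschbacherTwelve.Unitary
import Cfsg.Agent.MaxSub.CentralProduct

/-!
The special unitary group lies in no stabiliser of a tensor power of a unitary form.
-/

set_option autoImplicit false
set_option maxHeartbeats 1000000
set_option linter.unusedSectionVars false

namespace CfsgLib.AschbacherUnitary

open Matrix CfsgLib.Aschbacher CfsgLib.AschbacherForms CfsgLib.TensorNonmax Cfsg.Geo
attribute [-simp] RingEquiv.coe_refl

variable {n q : ℕ} {F : Type*} [Field F] [Fintype F] {σ : F ≃+* F}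

/-- The values of a tensor power form on pure tensors. -/
theorem power_form_ptmul (h : IsConj q σ) {d t : ℕ} {e : Fin n ≃ (Fin t → Fin d)} {P : GL (Fin n) F}
    {B : (Fin d → F) → (Fin d → F) → F} (hB : IsUnitaryFormPow q B)
    (hstr : IsTensorPowerFormStructure (fun x : F => x ^ q) (Cfsg.hermForm n F q) B e P) :
    ∃ c : F, c ≠ 0 ∧ ∀ xs ys, Cfsg.hermForm n F q (ptmul e P xs) (ptmul e P ys) = c * ∏ i, B (xs i) (ys i) := by
  classical
  obtain ⟨c, hc, hform⟩ := hstr
  have hu : IsUnitaryForm σ B := ⟨h.ne_refl, h.involutive, hB.add_left, hB.smul_left,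
    fun v w => by rw [h.eq_pow]; exact hB.herm v w, hB.nondegenerate⟩
  have hs := (isReflexive_unitary hu).sesq
  have hgram : ∀ x y, B x y = ∑ a, ∑ b, x a * gramMatrix B a b * σ (y b) := by
    intro x y
    have hxe : ∀ x : Fin d → F, x = ∑ a, x a • Pi.single a (1 : F) := fun x => by
      rw [← (Pi.basisFun F (Fin d)).sum_repr x]; simp [Pi.basisFun_apply, Pi.single_apply]
    conv_lhs => rw [hxe x, hs.sum_left]
    refine Finset.sum_congr rfl fun a _ => ?_
    rw [hs.smul_left]
    conv_lhs => rw [hxe y, hs.sum_right]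
    rw [Finset.mul_sum]
    refine Finset.sum_congr rfl fun b _ => ?_
    rw [hs.smul_right]
    simp only [gramMatrix]
    ring
  refine ⟨c, hc, fun xs ys => ?_⟩
  rw [ptmul, ptmul, cvec_apply, cvec_apply, hform]
  congr 1
  simp only [hgram, Fintype.prod_sum, ← h.eq_pow, map_prod]
  refine Finset.sum_congr rfl fun a _ => Finset.sum_congr rfl fun b _ => ?_
  simp only [Finset.prod_mul_distrib]

/-- A transvection moves a pure tensor off the pure tensors. -/
theorem not_le_wreath (h : IsConj q σ) {d t : ℕ} (hd : 2 ≤ d) (ht : 2 ≤ t) {e : Fin n ≃ (Fin t → Fin d)}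
    {P : GL (Fin n) F} {B : (Fin d → F) → (Fin d → F) → F} (hB : IsUnitaryFormPow q B)
    (hstr : IsTensorPowerFormStructure (fun x : F => x ^ q) (Cfsg.hermForm n F q) B e P) :
    ¬ SUn n F q ≤ tensorWreathSubgroup d t e P := by
  classical
  intro hle
  obtain ⟨c, hc, hform⟩ := power_form_ptmul h hB hstr
  have hu : IsUnitaryForm σ B := ⟨h.ne_refl, h.involutive, hB.add_left, hB.smul_left,
    fun v w => by rw [h.eq_pow]; exact hB.herm v w, hB.nondegenerate⟩
  have hs := (isReflexive_unitary hu).sesq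
  obtain ⟨w, -, hw0, hww⟩ := MaxSub.exists_iso_mem hu ⊤ (by rw [finrank_top, Module.finrank_fin_fun]; omega)
  obtain ⟨z, hzw⟩ : ∃ z, B z w = 1 := by
    obtain ⟨⟨z, hz⟩, -⟩ := hu.nondegenerate w hw0
    exact ⟨(B z w)⁻¹ • z, by rw [hs.smul_left, inv_mul_cancel₀ hz]⟩
  have hwz : B w z = 1 := by rw [hu.herm, hzw, map_one]
  let u' : Fin d → F := z + (-(B z z)) • w
  have hzu' : B z u' = 0 := by
    simp only [u', hs.add_right, hs.smul_right, map_neg, hzw, ← hu.herm]
    ring
  have hwu' : B w u' = 1 := by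
    simp only [u', hs.add_right, hs.smul_right, hww, hwz]
    ring
  set v := ptmul e P fun _ : Fin t => w with hv
  have i₀ : Fin t := ⟨0, by omega⟩
  have hvv : Cfsg.hermForm n F q v v = 0 := by
    rw [hv, hform, Finset.prod_eq_zero (Finset.mem_univ i₀) hww, mul_zero]
  obtain ⟨l, hl0, hl⟩ := MaxSub.exists_traceZero h.ne_refl h.involutive
  have hsq := MaxSub.sesqForm_of_unitary (h.unitary (n := n))
  have h0 : MaxSub.leftVec (Cfsg.hermForm n F q) v ⬝ᵥ (l • v) = 0 := by
    rw [dotProduct_smul, hsq.dot_leftVec, hvv, smul_zero]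
  let g := MaxSub.tv (l • v) (MaxSub.leftVec (Cfsg.hermForm n F q) v)
  have hg : g ∈ SUn n F q := MaxSub.hermTv_mem h.unitary hvv hl
  have hgx : ∀ x, mat g *ᵥ x = x + (Cfsg.hermForm n F q x v * l) • v := fun x => by
    rw [show mat g *ᵥ x = _ from MaxSub.tv_mulVec h0 x, hsq.dot_leftVec, smul_smul]
  obtain ⟨π, as, has⟩ := mem_tensorWreathSubgroup e P (hle hg)
  let a : Fin t → Fin d → F := fun j => mat (as j) *ᵥ z
  have himg : ∀ us : Fin t → Fin d → F, c * ∏ j, B (a j) (us j) =
      c * ∏ j, B z (us j) + c * l * (c * ∏ j, B w (us j)) := by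
    intro us
    have h1 := congrArg (fun x => Cfsg.hermForm n F q x (ptmul e P us)) ((has fun _ => z).symm.trans (hgx _))
    simp only [hsq.add_left, hsq.smul_left, hform, hv] at h1
    rw [h1]
    simp only [hzw, Finset.prod_const_one, mul_one]
  have h1 : ∏ j, B (a j) w ≠ 0 := fun e0 => by
    have h2 := himg fun _ => w
    rw [e0, mul_zero] at h2
    simp only [hzw, hww, Finset.prod_const_one, mul_one] at h2
    rw [Finset.prod_eq_zero (Finset.mem_univ i₀) rfl, mul_zero, mul_zero, add_zero] at h2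
    exact hc h2.symm
  have h3 : B (a i₀) u' = 0 := by
    have h2 := himg (Function.update (fun _ => w) i₀ u')
    have hz0 : ∏ j, B z (Function.update (fun _ => w) i₀ u' j) = 0 :=
      Finset.prod_eq_zero (Finset.mem_univ i₀) (by rw [Function.update_self]; exact hzu')
    obtain ⟨i₁, hi⟩ : ∃ i₁, i₁ ≠ i₀ :=
      Fintype.exists_ne_of_one_lt_card (by rw [Fintype.card_fin]; omega) i₀
    have hw1 : ∏ j, B w (Function.update (fun _ => w) i₀ u' j) = 0 :=
      Finset.prod_eq_zero (Finset.mem_univ i₁) (by rw [Function.update_of_ne hi]; exact hww)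
    rw [hz0, hw1] at h2; simp only [mul_zero, add_zero] at h2
    obtain ⟨j, -, hj⟩ := Finset.prod_eq_zero_iff.1 ((mul_eq_zero.1 h2).resolve_left hc)
    rcases eq_or_ne j i₀ with rfl | hne
    · rwa [Function.update_self] at hj
    · rw [Function.update_of_ne hne] at hj
      exact absurd (Finset.prod_eq_zero (Finset.mem_univ j) hj) h1
  have h2 := himg fun _ => u'
  rw [Finset.prod_eq_zero (Finset.mem_univ i₀) h3, Finset.prod_eq_zero (Finset.mem_univ i₀) hzu', mul_zero,
    zero_add] at h2
  simp only [hwu', Finset.prod_const_one, mul_one] at h2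
  exact mul_ne_zero (mul_ne_zero hc hl0) hc h2.symm

end CfsgLib.AschbacherUnitary
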