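import Cfsg.Agent.MaxSub.UnitaryStructure
import Cfsg.Agent.AschbacherUnitary.Composite
import Cfsg.Agent.AschbacherUnitary.NotLeWreath

/-!
# Maximal subgroups of the special unitary groups

Each is the full stabiliser in one of the geometric classes, with the degrees recorded, or is in the residual class.
-/

set_option autoImplicit false
set_option linter.unusedSectionVars false
set_option linter.style.haveILetI false
set_option maxHeartbeats 1000000

namespace CfsgLib.AschbacherUnitary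

attribute [-simp] RingEquiv.coe_refl

open Matrix Cfsg.Geo CfsgLib.TensorNonmax CfsgLib.Aschbacher CfsgLib.AschbacherForms CfsgLib.MaxSub
open scoped Kronecker commutatorElement

variable {n q : ℕ} {F : Type*} [Field F] [Fintype F] {σ : F ≃+* F}

/-- The possible forms of a maximal subgroup. -/
def MaximalCases (n q : ℕ) (F : Type*) [Field F] [Fintype F] (H : Subgroup (GL (Fin n) F)) : Prop :=
  (∃ W : Submodule F (Fin n → F), W ≠ ⊥ ∧ IsTotallySingularFor (Cfsg.hermForm n F q) W ∧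
    H = subspaceStabilizer W ⊓ SUn n F q) ∨
  (∃ W : Submodule F (Fin n → F), W ≠ ⊥ ∧ IsNondegenerateOn (Cfsg.hermForm n F q) W ∧
    2 * Module.finrank F W < n ∧ H = subspaceStabilizer W ⊓ SUn n F q) ∨
  (∃ (t k : ℕ) (D : Fin t → Submodule F (Fin n → F)),
    IsNondegenerateMDecomposition (Cfsg.hermForm n F q) k D ∧ t * k = n ∧
    H = decompositionStabilizer D ⊓ SUn n F q) ∨
  (∃ (k : ℕ) (D : Fin 2 → Submodule F (Fin n → F)), 2 * k = n ∧ IsMDecomposition k D ∧
    (∀ i, IsTotallySingularFor (Cfsg.hermForm n F q) (D i)) ∧ H = decompositionStabilizer D ⊓ SUn n F q) ∨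
  (∃ (F₀ : Subfield F) (r : ℕ) (P : GL (Fin n) F), r.Prime ∧ Odd r ∧ Fintype.card F = Nat.card F₀ ^ r ∧
    IsFormRationalStructure (Cfsg.hermForm n F q) F₀ 1 P ∧ H = subfieldSubgroup F₀ P ⊓ SUn n F q) ∨
  (Odd q ∧ ∃ (F₀ : Subfield F) (P : GL (Fin n) F), Fintype.card F = Nat.card F₀ ^ 2 ∧
    IsFormRationalStructure (Cfsg.hermForm n F q) F₀ 1 P ∧ H = subfieldSubgroup F₀ P ⊓ SUn n F q) ∨
  (∃ (F₀ : Subfield F) (P : GL (Fin n) F) (ζ : F), Fintype.card F = Nat.card F₀ ^ 2 ∧ ζ ≠ 0 ∧ ζ + ζ ^ q = 0 ∧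
    IsFormRationalStructure (Cfsg.hermForm n F q) F₀ ζ P ∧
    (∀ u : Fin n → F, (∀ i, u i ∈ F₀) → Cfsg.hermForm n F q (mat P *ᵥ u) (mat P *ᵥ u) = 0) ∧
    H = subfieldSubgroup F₀ P ⊓ SUn n F q) ∨
  (∃ (r : ℕ) (R : Subgroup (GL (Fin n) F)) (p e k : ℕ), IsSymplecticTypeGroup r R ∧
    ActsAbsolutelyIrreducibly (matrixSet R) ∧ R ≤ similarityGroup (Cfsg.hermForm n F q) ∧ r ≠ p ∧
    IsMinimalFieldFor (Nat.card (Subgroup.center R)) p e F ∧
    ((Odd r ∧ Nat.card (Subgroup.center R) = r ∧ 1 ≤ k ∧ Nat.card R = r ^ (1 + 2 * k)) ∨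
     (r = 2 ∧ e = 2 ∧ Nat.card (Subgroup.center R) = 4 ∧ Nat.card R = 2 ^ (2 + 2 * k))) ∧
    n = r ^ k ∧ H = subgroupNormalizer R ⊓ SUn n F q) ∨
  (∃ (r : ℕ) (K : Subalgebra F (Matrix (Fin n) (Fin n) F)), r.Prime ∧ Odd r ∧ r ∣ n ∧ IsFieldSubalgebra r K ∧
    IsAdjointClosedFor (Cfsg.hermForm n F q) K ∧ H = subalgebraNormalizer K ⊓ SUn n F q) ∨
  (∃ (n₁ n₂ : ℕ) (e : Fin n ≃ Fin n₁ × Fin n₂) (P : GL (Fin n) F) (f₁ : (Fin n₁ → F) → (Fin n₁ → F) → F)
    (f₂ : (Fin n₂ → F) → (Fin n₂ → F) → F), 2 ≤ n₁ ∧ n₁ < n₂ ∧ n₁ * n₂ = n ∧ IsUnitaryFormPow q f₁ ∧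
    IsUnitaryFormPow q f₂ ∧ IsTensorFormStructure (fun x : F => x ^ q) (Cfsg.hermForm n F q) f₁ f₂ e P ∧
    H = tensorProductSubgroup n₁ n₂ e P ⊓ SUn n F q) ∨
  (∃ (d t : ℕ) (e : Fin n ≃ (Fin t → Fin d)) (P : GL (Fin n) F) (f₁ : (Fin d → F) → (Fin d → F) → F),
    3 ≤ d ∧ 2 ≤ t ∧ ¬ (q = 2 ∧ d = 3) ∧ d ^ t = n ∧ IsUnitaryFormPow q f₁ ∧
    IsTensorPowerFormStructure (fun x : F => x ^ q) (Cfsg.hermForm n F q) f₁ e P ∧
    H = tensorWreathSubgroup d t e P ⊓ SUn n F q) ∨
  InUnitaryResidualClass H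

/-- Maximal subgroups of a special unitary group of degree at least five. -/
theorem maximal_cases (hF : Fintype.card F = q ^ 2) (h5 : 5 ≤ n) {H : Subgroup (GL (Fin n) F)}
    (hmax : IsMaximalIn (SUn n F q) H) : MaximalCases n q F H := by
  have hn : 3 ≤ n := by omega
  have hH : H ≤ Cfsg.GU n F q := hmax.1.le.trans inf_le_left
  classical
  haveI : Nonempty (Fin n) := ⟨⟨0, by omega⟩⟩
  obtain ⟨σ, h⟩ := AschbacherUnitary.exists_isConj (F := F) hF
  have hu := h.unitary (n := n)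
  have hf := isReflexive_unitary hu
  have hfix : FixesForm (matrixSet H) (Cfsg.hermForm n F q) :=
    fixesForm_iff.2 fun g hg => MaxSub.mem_GU_iff_forall.1 (hH hg)
  have hσq : (⇑σ : F → F) = fun x => x ^ q := funext h.eq_pow
  have hq1 := h.one_lt
  have h2odd : Odd q → (2 : F) ≠ 0 := fun ho =>
    CfsgLib.MaxSub.two_ne_zero_of_odd (by rw [hF]; exact ho.pow)
  have h2even : ¬ Odd q → (2 : F) = 0 := by
    intro ho
    by_contra h2
    refine ho ?_
    have h1 : Odd (Fintype.card F) := Nat.odd_iff.2 (FiniteField.odd_card_of_char_ne_two fun hc => h2 (by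
      have := ringChar.of_eq hc
      exact CharTwo.two_eq_zero))
    rw [hF] at h1
    exact (Nat.odd_pow_iff two_ne_zero).1 h1
  -- members
  have heq : ∀ {X : Subgroup (GL (Fin n) F)}, H ≤ X → ¬ SUn n F q ≤ X → H = X ⊓ SUn n F q :=
    fun hle hne => eq_inf_of_maximal hmax hle hne
  have hcardD : ∀ {t k : ℕ} (D : Fin t → Submodule F (Fin n → F)), IsMDecomposition k D → t * k = n := by
    intro t k D hD
    have hint := DirectSum.isInternal_submodule_of_iSupIndep_of_iSup_eq_top hD.indep hD.iSup_eq_top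
    have h1 := (LinearEquiv.ofBijective (DirectSum.coeLinearMap D) hint).finrank_eq
    rw [Module.finrank_directSum, Module.finrank_fintype_fun_eq_card] at h1
    simpa [hD.finrank_eq] using h1
  have hDec : ∀ {t k : ℕ} (D : Fin t → Submodule F (Fin n → F)),
      IsNondegenerateMDecomposition (Cfsg.hermForm n F q) k D → H ≤ decompositionStabilizer D →
      MaximalCases n q F H := fun {t k} D hD hle => by
    have htk := hcardD D hD.decomp
    refine Or.inr (Or.inr (Or.inl (⟨t, k, D, hD, htk, heq hle ?_⟩)))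
    rcases (show k = 1 ∨ 2 ≤ k by have := hD.decomp.pos; omega) with rfl | hk
    · obtain rfl : t = n := by omega
      exact not_le_decompositionStabilizer h h5 hD
    · exact CfsgLib.AschbacherTwelve.not_le_orthDecomposition h hk hD
  by_cases hirr : ActsIrreducibly (matrixSet H)
  swap
  · rcases reducible_subspace hf hfix hirr with ⟨W, h0, hts, hle⟩ | ⟨W, h0, h1, hnd, hle, hlep⟩
    · refine Or.inl (⟨W, h0, hts, heq hle (not_le_subspaceStabilizer hF h h5 h0 fun e => ?_)⟩)
      subst e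
      obtain ⟨⟨x, hx⟩, -⟩ := hf.nondegenerate (Pi.single ⟨0, by omega⟩ 1) (by simp)
      exact hx (hts x trivial _ trivial)
    have hdim := hf.finrank_perp W
    rw [Fintype.card_fin] at hdim
    rcases lt_trichotomy (2 * Module.finrank F W) n with hlt | heq | hgt
    · refine Or.inr (Or.inl (⟨W, h0, hnd, hlt, heq hle (not_le_subspaceStabilizer hF h h5 h0 fun e => ?_)⟩))
      subst e
      rw [finrank_top, Module.finrank_fin_fun] at hlt
      omega
    · obtain ⟨D, hD, hle'⟩ := exists_halves hf h0 hnd (by rw [Fintype.card_fin]; exact heq) hle hlep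
      exact hDec D hD hle'
    · have hp0 : hf.perp W ≠ ⊥ := fun hb => h1 (by
        rw [← hf.perp_perp W, hb]
        exact eq_top_iff.2 fun x _ w hw => by rw [(Submodule.mem_bot F).1 hw, hf.zero_right])
      refine Or.inr (Or.inl (⟨hf.perp W, hp0, hf.isNondegenerateOn_perp hnd, by omega, heq hlep (not_le_subspaceStabilizer hF h h5 hp0 fun hb => ?_)⟩))
      rw [hb, finrank_top, Module.finrank_fin_fun] at hdim
      omega
  -- subfield groups
  have hfixedF : ∀ {F₁ : Subfield F}, Fintype.card F = Nat.card F₁ ^ 2 → ∀ x ∈ F₁, σ x = x := by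
    intro F₁ hcard x hx
    have hq1' : Nat.card F₁ = q := Nat.pow_left_injective two_ne_zero (hcard.symm.trans hF)
    have : Fintype F₁ := Fintype.ofFinite _
    rw [h.eq_pow, ← hq1', Nat.card_eq_fintype_card]
    exact congrArg Subtype.val (FiniteField.pow_card (⟨x, hx⟩ : F₁))
  have hAlt : ∀ {F₁ : Subfield F} {P : GL (Fin n) F} {ζ : F}, Fintype.card F = Nat.card F₁ ^ 2 →
      ζ ≠ 0 → ζ + ζ ^ q = 0 → IsFormRationalStructure (Cfsg.hermForm n F q) F₁ ζ P →
      (∀ u : Fin n → F, (∀ i, u i ∈ F₁) → Cfsg.hermForm n F q (mat P *ᵥ u) (mat P *ᵥ u) = 0) →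
      H ≤ subfieldSubgroup F₁ P → MaximalCases n q F H := by
    intro F₁ P ζ hcard hζ hζq hrat hd hle
    have hev : Even n := by simpa using even_of_diag_zero hf hd
    exact Or.inr (Or.inr (Or.inr (Or.inr (Or.inr (Or.inr (Or.inl (⟨F₁, P, ζ, hcard, hζ, hζq, hrat, hd, heq hle (not_le_subfieldSubgroup hF h h5 Nat.prime_two hcard P)⟩)))))))
  have hSub : ∀ {F₁ : Subfield F} {r : ℕ} {P : GL (Fin n) F} {ζ : F}, r.Prime →
      Fintype.card F = Nat.card F₁ ^ r → ζ ≠ 0 →
      IsFormRationalStructure (Cfsg.hermForm n F q) F₁ ζ P → H ≤ subfieldSubgroup F₁ P →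
      MaximalCases n q F H := by
    intro F₁ r B ζ hr hcard hζ hrat hle
    rcases hr.eq_two_or_odd' with rfl | hodd
    · have hσ := hfixedF hcard
      have hq1' : Nat.card F₁ = q := Nat.pow_left_injective two_ne_zero (hcard.symm.trans hF)
      have hlt : Fintype.card F < Nat.card F₁ ^ Fintype.card (Fin n) := by
        rw [hcard, Fintype.card_fin, hq1']
        exact Nat.pow_lt_pow_right hq1 (by omega)
      rcases rational_multiplier hu hζ hrat with ⟨B', hrat', hB'⟩ | ⟨-, hneg⟩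
      · rw [← hB'] at hle
        by_cases hodd : Odd q
        · exact Or.inr (Or.inr (Or.inr (Or.inr (Or.inr (Or.inl (⟨hodd, F₁, B', hcard, hrat', heq hle (not_le_subfieldSubgroup hF h h5 Nat.prime_two hcard B')⟩))))))
        · have h2 := h2even hodd
          exact hAlt hcard one_ne_zero (by rw [one_pow]; linear_combination h2) hrat'
            (fun u hu' => diag_zero_of_two hu h2 one_ne_zero hσ (map_one σ) hlt hrat' hfix hirr hle hu') hle
      · refine hAlt hcard hζ (by rw [← h.eq_pow, hneg, add_neg_cancel]) hrat (fun u hu' => ?_) hle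
        by_cases hodd : Odd q
        · exact diag_zero_of_neg hu (h2odd hodd) hζ hσ hneg hrat hu'
        · have h2 := h2even hodd
          exact diag_zero_of_two hu h2 hζ hσ (by rw [hneg]; linear_combination -ζ * h2) hlt hrat hfix hirr hle hu'
    · rcases rational_multiplier hu hζ hrat with ⟨B', hrat', hB'⟩ | ⟨hall, -⟩
      · rw [← hB'] at hle
        exact Or.inr (Or.inr (Or.inr (Or.inr (Or.inl (⟨F₁, r, B', hr, hodd, hcard, hrat', heq hle (not_le_subfieldSubgroup hF h h5 hr hcard B')⟩)))))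
      · obtain ⟨w, hw, hwσ⟩ := exists_moved_of_odd hF h hodd hcard
        exact absurd (hall w hw) hwσ
  -- a bilinear form fixed up to scalars
  have hIndex : ∀ {b : (Fin n → F) → (Fin n → F) → F} {J : (Fin n → F) → (Fin n → F)} {δ l : F},
      IsBilinearForm b → IsNondegenerateForm b → (∀ u v, b v u = δ * b u v) → (δ = 1 ∨ δ = -1) →
      ((2 : F) = 0 → ∀ v, b v v = 0) → H ≤ similarityGroup b → IsCompare σ (Cfsg.hermForm n F q) b J →
      (∀ v, J (J v) = l • v) → MaximalCases n q F H := by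
    intro b J δ l hb hbn hδ hδ1 h2b hsim hJ hJJ
    obtain ⟨F₀, P, -, hcard, hmem, hle, hval, halt, -⟩ :=
      exists_index_two hf h.ne_refl hb hbn hδ hfix hsim hJ hJJ
    by_cases hd : δ = 1
    · have hrat : IsFormRationalStructure (Cfsg.hermForm n F q) F₀ 1 P := fun u v hu hv => by
        rw [one_mul, hmem]
        exact (hval u v hu hv).trans (by rw [hd, one_mul])
      by_cases hodd : Odd q
      · exact Or.inr (Or.inr (Or.inr (Or.inr (Or.inr (Or.inl (⟨hodd, F₀, P, hcard, hrat, heq hle (not_le_subfieldSubgroup hF h h5 Nat.prime_two hcard P)⟩))))))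
      · exact hAlt hcard one_ne_zero (by rw [one_pow]; linear_combination h2even hodd) hrat
          (halt (h2b (h2even hodd))) hle
    · obtain rfl := hδ1.resolve_left hd
      have h2 : (2 : F) ≠ 0 := fun h2 => hd (by linear_combination -h2)
      obtain ⟨z, hz0, hz⟩ := exists_traceZero h.ne_refl h.involutive
      have hzσ : σ z = -z := by linear_combination hz
      refine hAlt hcard hz0 (by rw [← h.eq_pow, hzσ, add_neg_cancel]) (fun u v hu hv => ?_)
        (halt fun v => (mul_eq_zero.1 (by linear_combination hδ v v :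
          (2 : F) * b v v = 0)).resolve_left h2) hle
      rw [hmem, map_mul, hzσ, hval u v hu hv]
      ring
  rcases star_reduction_spanned (by rw [Fintype.card_fin]; omega) hf hfix hirr with
    ⟨t, k, D, hD, -, hle⟩ | ⟨k, D, hD, hk, hts, hle, -⟩ | ⟨r, K, hr, hrd, hK, hle, hadj⟩ |
    ⟨k, d, e, P, S, T, hk, hd, hkd, hS, hT, hle, hform⟩ | hab | hsp | ⟨P, hP⟩
  · exact hDec D hD hle
  · rw [Fintype.card_fin] at hk
    exact Or.inr (Or.inr (Or.inr (Or.inl (⟨k, D, hk, hD, hts, heq hle (CfsgLib.AschbacherTwelve.not_le_singularPair h (by omega) hD hts)⟩))))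
  · have hodd := (closedField_involution hf hK hadj).2 h.ne_refl
    rw [Fintype.card_fin] at hrd
    exact Or.inr (Or.inr (Or.inr (Or.inr (Or.inr (Or.inr (Or.inr (Or.inr (Or.inl (⟨r, K, hr, hodd, hrd, hK, fun x hx => ⟨_, hadj x hx, fun u v => hf.adj_spec x u v⟩,
      heq hle (not_le_subalgebraNormalizer hF h h5 hr.two_le hK)⟩)))))))))
  · -- tensor decompositions
    obtain ⟨S', T', c, hS', hT', hc, hSh, hTh, -, hform'⟩ :=
      CfsgLib.AschbacherTwelve.exists_hermitian_factors h (by omega) hS hT hform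
    have hmember : ∀ {n₁ n₂ : ℕ} {e : Fin n ≃ Fin n₁ × Fin n₂} {S : Matrix (Fin n₁) (Fin n₁) F}
        {T : Matrix (Fin n₂) (Fin n₂) F}, 2 ≤ n₁ → n₁ < n₂ → IsUnit S → IsUnit T → Sᵀ.map σ = S →
        Tᵀ.map σ = T → H ≤ tensorProductSubgroup n₁ n₂ e P →
        (∀ x y : Fin n₁ × Fin n₂ → F, Cfsg.hermForm n F q (mat P *ᵥ (x ∘ e)) (mat P *ᵥ (y ∘ e)) =
          c * formOfGram σ (S ⊗ₖ T) x y) → MaximalCases n q F H := by
      intro n₁ n₂ e S T h1 h12 hS hT hSh hTh hle hform
      have hstr : IsTensorFormStructure (fun x : F => x ^ q) (Cfsg.hermForm n F q) (formOf σ S)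
          (formOf σ T) e P := ⟨c, hc, fun x y => by
        rw [gramMatrix_formOf, gramMatrix_formOf, ← hσq]
        exact hform x y⟩
      have hnn : n₁ * n₂ = n := by
        simpa [Fintype.card_prod] using (Fintype.card_congr e).symm
      exact Or.inr (Or.inr (Or.inr (Or.inr (Or.inr (Or.inr (Or.inr (Or.inr (Or.inr (Or.inl (⟨n₁, n₂, e, P, _, _, h1, h12, hnn,
        CfsgLib.AschbacherTwelve.isUnitaryFormPow_formOf h hS hSh,
        CfsgLib.AschbacherTwelve.isUnitaryFormPow_formOf h hT hTh, hstr,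
        heq hle (Composite.not_le_tensor h h1 (by omega) hT hTh hform)⟩))))))))))
    rcases lt_trichotomy k d with hlt | heq | hgt
    · exact hmember hk hlt hS' hT' hSh hTh hle hform'
    · subst heq
      obtain ⟨P', hle', hstd⟩ :=
        exists_standard_factors h.ne_refl h.involutive hS' hT' hSh hTh hle hform'
      rcases (show k = 2 ∨ 3 ≤ k by omega) with rfl | h3
      · obtain ⟨b, J, hb, hbn, hbs, h2b, hsim, hJ, hJJ⟩ := exists_bilinear_two_two hf hc hle' hstd
        exact hIndex (δ := 1) hb hbn (fun u v => by rw [one_mul]; exact hbs u v) (Or.inl rfl) h2b hsim hJ hJJ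
      by_cases hex : q = 2 ∧ k = 3
      · obtain ⟨rfl, rfl⟩ := hex
        obtain rfl : n = 9 := by rw [Fintype.card_fin] at hkd; omega
        have hsim : H ≤ similarityGroup (Cfsg.hermForm 9 F 2) := fun g hg =>
          ⟨1, fun u v => by rw [Units.val_one, one_mul]; exact hfix _ (mem_matrixSet hg) u v⟩
        obtain ⟨R, h1, h2, h3', h4, h5', h6, hcomm, h7⟩ :=
          exists_nine_socle (by rw [hF]; norm_num) h.eq_pow hc hstd hle' hsim
        have hne := not_normalizes h h5 h2 hcomm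
        exact Or.inr (Or.inr (Or.inr (Or.inr (Or.inr (Or.inr (Or.inr (Or.inl (⟨3, R, 2, 2, 2, h1, h2, h3', by norm_num, h4,
          Or.inl ⟨by decide, h5', by norm_num, h6⟩, by norm_num,
          heq h7 fun hsu => hne fun g hg x hx => (hsu hg x).1 hx⟩))))))))
      obtain ⟨e', P'', hstr, hle''⟩ := exists_square_standard hf hc hle' hstd
      rw [hσq] at hstr
      have hpow := CfsgLib.AschbacherTwelve.isUnitaryFormPow_formOf h (isUnit_one (M := Matrix (Fin k) (Fin k) F))
        (by rw [Matrix.transpose_one, Matrix.map_one σ (map_zero σ) (map_one σ)])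
      rw [hσq] at hpow
      exact Or.inr (Or.inr (Or.inr (Or.inr (Or.inr (Or.inr (Or.inr (Or.inr (Or.inr (Or.inr (Or.inl (⟨k, 2, e', P'', _, h3, le_rfl, hex, by rw [pow_two, ← Fintype.card_fin n]; exact hkd, hpow, hstr,
        heq hle'' (not_le_wreath h (by omega) le_rfl hpow hstr)⟩)))))))))))
    · refine hmember hd hgt hT' hS' hTh hSh (hle.trans (tensorProductSubgroup_swap e P)) fun x y => ?_
      have e1 := formTensor_swap (σ := σ) (f := fun u v => c⁻¹ * Cfsg.hermForm n F q u v)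
        (fun x y => by rw [hform', inv_mul_cancel_left₀ hc]) x y
      rw [inv_mul_eq_iff_eq_mul₀ hc] at e1
      exact e1
  · -- socles abelian modulo scalars
    rcases unitary_socle (by rw [Fintype.card_fin]; omega) hF h.eq_pow hf hfix hab with
      ⟨F₁, s, P, c, hs, hc, hc0, hP, hle⟩ | ⟨r, R, p, e, k, h1, h2, h3, h4, h5', h6, h7, h8, hle⟩
    · exact hSub hs hc hc0 hP hle
    · exact Or.inr (Or.inr (Or.inr (Or.inr (Or.inr (Or.inr (Or.inr (Or.inl (⟨r, R, p, e, k, h1, h2, h3, h4, h5', h6, (Fintype.card_fin n).symm.trans h7,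
        heq hle fun hsu => not_normalizes h h5 h2 h8 fun g hg x hx => (hsu hg x).1 hx⟩))))))))
  · -- tensor powers
    obtain ⟨d, t, e, P, B₀, hd, ht, hdt, hB₀⟩ := exists_slotPower hf hfix hsp
    obtain ⟨B, hB, hBu⟩ := exists_hermitian_slot h.ne_refl h.involutive hB₀
    rcases (show d = 2 ∨ 3 ≤ d by omega) with rfl | h3
    · obtain ⟨b, J, hb, hbn, hbs, h2b, hsim, hJ, hJJ⟩ :=
        exists_bilinear_power h.ne_refl h.involutive ht hf hB hBu
      exact hIndex hb hbn hbs (neg_one_pow_eq_or F t) h2b hsim hJ hJJ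
    · have hex : ¬ (q = 2 ∧ d = 3) := by
        rintro ⟨rfl, rfl⟩
        obtain ⟨G, hG, hG0, hiso⟩ := hB.perfect
        exact hG0 (perfect_unitary_three_two h (by rw [hF]; norm_num) hBu hG hiso)
      have hpow : IsUnitaryFormPow q B :=
        ⟨hBu.add_left, hBu.smul_left, fun v w => by rw [← h.eq_pow]; exact hBu.herm v w, hBu.nondegenerate⟩
      have hstr := hB.structure' hf
      rw [hσq] at hstr
      exact Or.inr (Or.inr (Or.inr (Or.inr (Or.inr (Or.inr (Or.inr (Or.inr (Or.inr (Or.inr (Or.inl (⟨d, t, e, P, B, h3, ht, hex, hdt.symm.trans (Fintype.card_fin n), hpow, hstr,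
        heq hB.le_wreath (not_le_wreath h (by omega) ht hpow hstr)⟩)))))))))))
  · -- almost simple groups
    have hPfix : FixesForm (matrixSet P) (Cfsg.hermForm n F q) :=
      fun s hs => hfix s (Set.image_mono hP.le hs)
    by_cases hreal : ∃ F₀ : Subfield F, F₀ ≠ ⊤ ∧ RealisableOver F₀ (matrixSet P)
    · obtain ⟨F₀, h0, hreal⟩ := hreal
      obtain ⟨F₁, r, B, ζ, hr, hc, hζ, hrat, hle⟩ :=
        AschbacherForms.exists_form_subfield hf h0 hP.normal hP.absIrred hPfix hreal
      exact hSub hr hc hζ hrat hle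
    refine Or.inr (Or.inr (Or.inr (Or.inr (Or.inr (Or.inr (Or.inr (Or.inr (Or.inr (Or.inr (Or.inr (⟨P, hP.toResidualCore fun F₀ h0 hr => hreal ⟨F₀, h0, hr⟩, ?_, ?_⟩)))))))))))
    · rintro ⟨Q, hQ, hQP⟩
      have hpolfix : FixesForm (matrixSet P) (QuadraticMap.polar Q) := fun s hs u v => by
        simp only [QuadraticMap.polar, ← Matrix.mulVec_add, hQP s hs]
      exact hreal (AschbacherForms.realisable_of_two_forms (isReflexive_polar hQ) hu hP.absIrred hpolfix hPfix)
    · rintro ⟨f, hf', hfP⟩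
      exact hreal (AschbacherForms.realisable_of_two_forms (isReflexive_symplectic hf') hu hP.absIrred hfP hPfix)

end CfsgLib.AschbacherUnitary
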