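import Cfsg.Agent.AschbacherUnitary.FiveTwoData
import Cfsg.Agent.Forms.UnitaryOrder

/-!
In the special unitary group of degree five over four elements the normaliser of a degree five field subalgebra
is not maximal.
-/

set_option autoImplicit false

namespace CfsgLib.AschbacherUnitary.FiveTwo

open Matrix CfsgLib.Aschbacher CfsgLib.Linear
open scoped Pointwise

theorem exists_conj4 : ∃ σ : GF4 ≃+* GF4, IsConj 2 σ := exists_isConj (by rw [card_gf4]; norm_num)

theorem mem_GU_of_star {g : GL (Fin 5) GF4} (h : star4 (mat g) * mat g = 1) : g ∈ Cfsg.GU 5 GF4 2 := by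
  obtain ⟨σ, hσ⟩ := exists_conj4
  rw [hσ.mem_GU_iff]
  have e := congrArg Matrix.transpose h
  rw [Matrix.transpose_mul, Matrix.transpose_one] at e
  rw [show (mat g).map σ = (star4 (mat g))ᵀ from ?_]
  · exact e
  refine Matrix.ext fun i j => ?_
  simp [star4, hσ.eq_pow, pow_two]

/-- An explicit matrix as an element of the general linear group. -/
def toGL (M : Matrix (Fin 5) (Fin 5) GF4) (h : M * star4 M = 1 ∧ star4 M * M = 1) : GL (Fin 5) GF4 :=
  ⟨M, star4 M, h.1, h.2⟩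

theorem mem_SU_of_pow {g : GL (Fin 5) GF4} (h : star4 (mat g) * mat g = 1) {k : ℕ} (hk : mat g ^ k = 1)
    (hroot : ∀ c : GF4, c ^ k = 1 → c = 1) : g ∈ SUn 5 GF4 2 :=
  ⟨mem_GU_of_star h, mem_specialLinear_iff.2 (hroot _ (by rw [← Matrix.det_pow, hk, Matrix.det_one]))⟩

def gX : GL (Fin 5) GF4 := toGL X ⟨X_facts.1, X_facts.2.1⟩

def gY : GL (Fin 5) GF4 := toGL Y ⟨Y_facts.1, Y_facts.2.1⟩

def gZ : GL (Fin 5) GF4 := toGL Z ⟨Z_facts.1, Z_facts.2.1⟩

def gT : GL (Fin 5) GF4 := toGL T ⟨T_facts.1, T_facts.2.1⟩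

theorem gX_mem : gX ∈ SUn 5 GF4 2 := mem_SU_of_pow X_facts.2.1 X_facts.2.2.1 eleventh_root

theorem gY_mem : gY ∈ SUn 5 GF4 2 := mem_SU_of_pow Y_facts.2.1 Y_facts.2.2 fifth_root

theorem gZ_mem : gZ ∈ SUn 5 GF4 2 := mem_SU_of_pow Z_facts.2.1 Z_facts.2.2 square_root

theorem gT_mem : gT ∈ SUn 5 GF4 2 := mem_SU_of_pow T_facts.2.1 T_facts.2.2 square_root

/-- The invariant set of vectors. -/
def vecs : Set (Fin 5 → GF4) := {v | enc v ∈ codes}

/-- The subgroup of the special unitary group stabilising the invariant set. -/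
def overgroup : Subgroup (GL (Fin 5) GF4) where
  carrier := {g | g ∈ SUn 5 GF4 2 ∧ ∀ v, mat g *ᵥ v ∈ vecs ↔ v ∈ vecs}
  one_mem' := ⟨one_mem _, fun v => by simp [mat]⟩
  mul_mem' {a b} ha hb := ⟨mul_mem ha.1 hb.1, fun v => by
    rw [show mat (a * b) = mat a * mat b from Units.val_mul a b, ← Matrix.mulVec_mulVec, ha.2, hb.2]⟩
  inv_mem' {a} ha := ⟨inv_mem ha.1, fun v => by
    have := ha.2 (mat a⁻¹ *ᵥ v)
    rwa [mulVec_inv_mulVec, Iff.comm] at this⟩

theorem mem_overgroup {g : GL (Fin 5) GF4} (hg : g ∈ SUn 5 GF4 2)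
    (h : ∀ c ∈ codes, enc (mat g *ᵥ vec c) ∈ codes) : g ∈ overgroup := by
  refine ⟨hg, fun v => ⟨fun hv => ?_, fun hv => ?_⟩⟩
  · have hinj : Set.MapsTo (fun w => mat g *ᵥ w) vecs vecs := fun w hw => by
      have := h _ hw; rwa [vec_enc'] at this
    have hbij := (Set.toFinite vecs).injOn_iff_bijOn_of_mapsTo hinj |>.1 (mulVec_injective g).injOn
    obtain ⟨w, hw, hwv⟩ := hbij.surjOn hv
    exact mulVec_injective g hwv ▸ hw
  · have := h _ hv; rwa [vec_enc'] at this

theorem gX_mem' : gX ∈ overgroup := mem_overgroup gX_mem fun c hc => (XYZ_codes c hc).1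

theorem gY_mem' : gY ∈ overgroup := mem_overgroup gY_mem fun c hc => (XYZ_codes c hc).2.1

theorem gZ_mem' : gZ ∈ overgroup := mem_overgroup gZ_mem fun c hc => (XYZ_codes c hc).2.2

theorem overgroup_lt : overgroup < SUn 5 GF4 2 := by
  refine lt_of_le_of_ne (fun g hg => hg.1) fun e => ?_
  have hT : gT ∈ overgroup := e ▸ gT_mem
  obtain ⟨c, hc, hcT⟩ := T_codes
  exact hcT ((hT.2 (vec c)).2 (show enc (vec c) ∈ codes by rw [codes_enc c hc]; exact hc))

theorem mat_gX_pow (k : ℕ) : mat (gX ^ k) = X ^ k := Units.val_pow_eq_pow_val gX k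

theorem orderOf_gX : orderOf gX = 11 := by
  haveI : Fact (Nat.Prime 11) := ⟨by norm_num⟩
  exact orderOf_eq_prime (Units.ext ((mat_gX_pow 11).trans X_facts.2.2.1))
    fun e => X_facts.2.2.2 (congrArg mat e)

theorem pair_eq_herm (u v : Fin 5 → GF4) : pair u v = Cfsg.hermForm 5 GF4 2 u v := by
  simp only [pair, Cfsg.hermForm, pow_two]

theorem centraliser_gX {g : GL (Fin 5) GF4} (hg : g ∈ SUn 5 GF4 2) (hc : g * gX = gX * g) :
    g ∈ Subgroup.zpowers gX := by
  have hgU := CfsgLib.MaxSub.mem_GU_iff_forall.1 hg.1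
  have hcomm : ∀ i : ℕ, Commute (mat g) (X ^ i) := fun i =>
    (show Commute (mat g) X from congrArg mat hc).pow_right i
  let v := mat g *ᵥ Pi.single 0 1
  have hv : ∀ i : ℕ, (X ^ i) *ᵥ v = mat g *ᵥ ((X ^ i) *ᵥ Pi.single 0 1) := fun i => by
    simp only [v, Matrix.mulVec_mulVec, (hcomm i).eq]
  have hherm : ∀ i : ℕ, pair v ((X ^ i) *ᵥ v) = (X ^ i) 0 0 * (X ^ i) 0 0 := fun i => by
    rw [hv, pair_eq_herm, hgU, ← pair_eq_herm]
    simp [pair, Pi.single_apply]
  have hsame : sameInvariants v = true := by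
    have h1 := hherm 1
    rw [pow_one] at h1
    simp only [sameInvariants, Bool.and_eq_true, decide_eq_true_eq]
    refine ⟨⟨⟨⟨?_, h1⟩, hherm 2⟩, hherm 3⟩, hherm 4⟩
    simpa using hherm 0
  obtain ⟨c, hcv⟩ : ∃ c : Fin 1024, vec c.1 = v := by
    refine ⟨⟨enc v, ?_⟩, vec_enc' v⟩
    have hb : ∀ a : GF4, a.re.val + 2 * a.im.val ≤ 3 := by decide
    have := hb (v 0); have := hb (v 1); have := hb (v 2); have := hb (v 3); have := hb (v 4)
    simp [enc, Fin.sum_univ_five]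
    omega
  obtain ⟨d, k, hk⟩ := sameInvariants_iff c (by rw [hcv]; exact hsame)
  rw [hcv] at hk
  have hcol : ∀ j : ℕ, mat g *ᵥ (fun i => (X ^ j) i 0) = (d • X ^ k.1) *ᵥ (fun i => (X ^ j) i 0) := by
    intro j
    have e : (fun i => (X ^ j) i 0) = (X ^ j) *ᵥ Pi.single 0 1 := by
      funext i; simp [Matrix.mulVec, dotProduct, Pi.single_apply]
    rw [e, ← hv, hk, Matrix.mulVec_smul, Matrix.smul_mulVec, Matrix.mulVec_mulVec,
      show (fun i => (X ^ k.1) i 0) = (X ^ k.1) *ᵥ Pi.single 0 1 from by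
        funext i; simp [Matrix.mulVec, dotProduct, Pi.single_apply],
      Matrix.mulVec_mulVec, ← pow_add, ← pow_add, add_comm]
  have hmul : mat g * orbit = (d • X ^ k.1) * orbit := by
    refine Matrix.ext fun i j => ?_
    simpa [Matrix.mul_apply, Matrix.mulVec, dotProduct, orbit] using congrFun (hcol j.1) i
  have hgk : mat g = d • X ^ k.1 := by
    have e := congrArg (· * Bi) hmul
    simpa [mul_assoc, orbit_mul] using e
  have hd : d = 1 := by
    have e := mem_specialLinear_iff.1 hg.2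
    have hX : X.det = 1 := eleventh_root _ (by rw [← Matrix.det_pow, X_facts.2.2.1, Matrix.det_one])
    rw [hgk, Matrix.det_smul, Matrix.det_pow, hX, one_pow, mul_one, Fintype.card_fin] at e
    exact fifth_root d e
  rw [hd, one_smul, ← mat_gX_pow] at hgk
  exact Subgroup.mem_zpowers_iff.2 ⟨k.1, by rw [zpow_natCast]; exact (Units.ext hgk).symm⟩

/-- The normaliser of the explicit element of order eleven lies in the overgroup. -/
theorem normaliser_lt :
    ∀ N : Subgroup (GL (Fin 5) GF4), N ≤ SUn 5 GF4 2 → (∀ g ∈ N, g * gX * g⁻¹ ∈ Subgroup.zpowers gX) →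
      N < overgroup := by
  intro N hN hnorm
  refine lt_of_le_of_ne (fun g hg => ?_) fun e => ?_
  · obtain ⟨k, hk, hgk⟩ : ∃ k : ℕ, k < 11 ∧ gX ^ k = g * gX * g⁻¹ := by
      obtain ⟨k, hk⟩ := (mem_powers_iff_mem_zpowers (x := gX)).2 (hnorm g hg)
      exact ⟨k % 11, Nat.mod_lt _ (by norm_num), by rw [← orderOf_gX, pow_mod_orderOf]; exact hk⟩
    have htr : (X ^ k).trace = X.trace := by
      rw [← mat_gX_pow, hgk]
      show (mat g * X * mat g⁻¹).trace = _
      rw [Matrix.trace_mul_comm, ← mul_assoc, mat_inv_mul, one_mul]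
    obtain ⟨j, hj⟩ := X_trace ⟨k, hk⟩ htr
    have hjX : gY ^ j.1 * gX = gX ^ k * gY ^ j.1 := by
      apply Units.ext
      simp only [Units.val_mul, Units.val_pow_eq_pow_val]
      exact hj
    have hu : (gY ^ j.1)⁻¹ * g * gX = gX * ((gY ^ j.1)⁻¹ * g) := by
      have e1 : g * gX = gX ^ k * g := by rw [hgk]; group
      have e2 : (gY ^ j.1)⁻¹ * gX ^ k = gX * (gY ^ j.1)⁻¹ := by
        rw [inv_mul_eq_iff_eq_mul, ← mul_assoc, hjX, mul_inv_cancel_right]
      rw [mul_assoc, e1, ← mul_assoc, e2, mul_assoc]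
    have hz := centraliser_gX (mul_mem (inv_mem (pow_mem gY_mem _)) (hN hg)) hu
    have : g = gY ^ j.1 * ((gY ^ j.1)⁻¹ * g) := by group
    rw [this]
    exact mul_mem (pow_mem gY_mem' _) ((Subgroup.zpowers_le.2 gX_mem') hz)
  · have hzN : gZ ∈ N := e ▸ gZ_mem'
    obtain ⟨k, hk⟩ := (mem_powers_iff_mem_zpowers (x := gX)).2 (hnorm gZ hzN)
    have hk' : gX ^ (k % 11) = gZ * gX * gZ⁻¹ := by rw [← orderOf_gX, pow_mod_orderOf]; exact hk
    refine Z_moves ⟨k % 11, Nat.mod_lt _ (by norm_num)⟩ ?_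
    have e1 : gZ * gX = gX ^ (k % 11) * gZ := by rw [hk']; group
    have := congrArg mat e1
    rw [show mat (gZ * gX) = mat gZ * mat gX from Units.val_mul _ _,
      show mat (gX ^ (k % 11) * gZ) = mat (gX ^ (k % 11)) * mat gZ from Units.val_mul _ _, mat_gX_pow] at this
    exact this

theorem sq_not_dvd_card : ¬ 11 ^ 2 ∣ Nat.card (Cfsg.GU 5 GF4 2) := by
  rw [CfsgLib.Forms.card_GU (q := 2) (by rw [card_gf4]; norm_num) 5]
  simp only [Finset.sum_range_succ, Finset.prod_range_succ, Finset.sum_range_zero, Finset.prod_range_zero,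
    CfsgLib.Forms.u]
  decide

/-- Every element of order eleven of the special unitary group has its normaliser inside a proper overgroup. -/
theorem exists_overgroup {y : GL (Fin 5) GF4} (hy : y ∈ SUn 5 GF4 2) (ho : orderOf y = 11)
    {N : Subgroup (GL (Fin 5) GF4)} (hN : N ≤ SUn 5 GF4 2)
    (hnorm : ∀ g ∈ N, g * y * g⁻¹ ∈ Subgroup.zpowers y) :
    ∃ L : Subgroup (GL (Fin 5) GF4), N < L ∧ L < SUn 5 GF4 2 := by
  classical
  haveI : Fact (Nat.Prime 11) := ⟨by norm_num⟩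
  let U : Subgroup (GL (Fin 5) GF4) := Cfsg.GU 5 GF4 2
  have hfac : (Nat.card U).factorization 11 ≤ 1 := by
    by_contra h
    change ¬ (Nat.card (Cfsg.GU 5 GF4 2)).factorization 11 ≤ 1 at h
    exact sq_not_dvd_card ((Nat.Prime.pow_dvd_iff_le_factorization (by norm_num) Nat.card_pos.ne').2 (by omega))
  have hcard : ∀ a : U, orderOf a = 11 → Nat.card (Subgroup.zpowers a) = 11 ^ (Nat.card U).factorization 11 := by
    intro a ha
    rw [Nat.card_zpowers, ha]
    have : 1 ≤ (Nat.card U).factorization 11 :=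
      (Nat.Prime.pow_dvd_iff_le_factorization (by norm_num) Nat.card_pos.ne').1
        (by rw [pow_one, ← ha]; exact orderOf_dvd_natCard a)
    rw [le_antisymm hfac this, pow_one]
  let y' : U := ⟨y, hy.1⟩
  let x' : U := ⟨gX, gX_mem.1⟩
  have hy' : orderOf y' = 11 := by rw [← Subgroup.orderOf_coe]; exact ho
  have hx' : orderOf x' = 11 := by rw [← Subgroup.orderOf_coe]; exact orderOf_gX
  obtain ⟨a, ha⟩ := MulAction.exists_smul_eq U (Sylow.ofCard _ (hcard y' hy')) (Sylow.ofCard _ (hcard x' hx'))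
  have hmem : a * y' * a⁻¹ ∈ Subgroup.zpowers x' := by
    have : a * y' * a⁻¹ ∈ (a • Sylow.ofCard _ (hcard y' hy') : Sylow 11 U) := by
      show a * y' * a⁻¹ ∈ MulAut.conj a • Subgroup.zpowers y'
      rw [Subgroup.mem_pointwise_smul_iff_inv_smul_mem]
      simp [mul_assoc]
    rw [ha] at this
    exact this
  obtain ⟨A, hA, hAx⟩ : ∃ A : GL (Fin 5) GF4, A ∈ U ∧ A * y * A⁻¹ ∈ Subgroup.zpowers gX := by
    refine ⟨a.1, a.2, ?_⟩
    obtain ⟨k, hk⟩ := Subgroup.mem_zpowers_iff.1 hmem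
    exact Subgroup.mem_zpowers_iff.2 ⟨k, congrArg Subtype.val hk⟩
  have hzp : Subgroup.zpowers (A * y * A⁻¹) = Subgroup.zpowers gX := by
    refine Subgroup.eq_of_le_of_card_ge (Subgroup.zpowers_le.2 hAx) ?_
    rw [Nat.card_zpowers, Nat.card_zpowers, orderOf_gX, ← ho]
    exact le_of_eq (orderOf_injective (MulAut.conj A).toMonoidHom (MulAut.conj A).injective y).symm
  let c : GL (Fin 5) GF4 ≃* GL (Fin 5) GF4 := MulAut.conj A
  have hSU : ∀ g : GL (Fin 5) GF4, c g ∈ SUn 5 GF4 2 ↔ g ∈ SUn 5 GF4 2 := by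
    intro g
    show A * g * A⁻¹ ∈ SUn 5 GF4 2 ↔ _
    rw [Subgroup.mem_inf, Subgroup.mem_inf, Subgroup.mul_mem_cancel_right _ (inv_mem hA),
      Subgroup.mul_mem_cancel_left _ hA, mem_specialLinear_iff, mem_specialLinear_iff,
      show mat (A * g * A⁻¹) = mat A * mat g * mat A⁻¹ from rfl, Matrix.det_units_conj]
  have hlt := normaliser_lt (N.map c.toMonoidHom) (by
      rintro _ ⟨g, hg, rfl⟩; exact (hSU g).2 (hN hg)) (by
    rintro _ ⟨g, hg, rfl⟩
    have hgy : A * y * A⁻¹ ∈ Subgroup.zpowers gX := hAx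
    obtain ⟨k, hk⟩ := Subgroup.mem_zpowers_iff.1 (show gX ∈ Subgroup.zpowers (A * y * A⁻¹) by
      rw [hzp]; exact Subgroup.mem_zpowers _)
    rw [← hzp]
    have e : c g * gX * (c g)⁻¹ = c ((g * y * g⁻¹) ^ k) := by
      rw [conj_zpow, map_mul, map_mul, map_inv, map_zpow, show c y = A * y * A⁻¹ from rfl, hk]
    obtain ⟨m, hm⟩ := Subgroup.mem_zpowers_iff.1 (hnorm g hg)
    rw [show c.toMonoidHom g = c g from rfl, e, ← hm, ← _root_.zpow_mul, map_zpow, show c y = A * y * A⁻¹ from rfl]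
    exact Subgroup.zpow_mem_zpowers _ _)
  refine ⟨overgroup.comap c.toMonoidHom, ?_, ?_⟩
  · have h1 : N.map c.toMonoidHom < (overgroup.comap c.toMonoidHom).map c.toMonoidHom := by
      rwa [Subgroup.map_comap_eq_self_of_surjective c.surjective]
    exact (Subgroup.map_lt_map_iff_of_injective c.injective).1 h1
  · refine lt_of_le_of_ne (fun g hg => (hSU g).1 hg.1) fun e => overgroup_lt.ne ?_
    refine le_antisymm overgroup_lt.le fun g hg => ?_
    have h1 : c.symm g ∈ overgroup.comap c.toMonoidHom := e ▸ (hSU (c.symm g)).1 (by simpa using hg)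
    simpa using h1

end CfsgLib.AschbacherUnitary.FiveTwo
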