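import Cfsg.Agent.AschbacherUnitary.Basic
import Cfsg.Agent.Linear.SmallFields

/-!
Explicit data in the special unitary group of degree five over four elements: an element of order eleven, its
normaliser, and a set of 165 vectors whose stabiliser is a proper subgroup containing that normaliser strictly.
-/

set_option autoImplicit false

namespace CfsgLib.AschbacherUnitary.FiveTwo

open Matrix CfsgLib.Aschbacher CfsgLib.Linear

/-- The element of the field of four elements with the given two bits. -/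
def digit (d : ℕ) : GF4 := ⟨(d % 2 : ℕ), (d / 2 % 2 : ℕ)⟩

/-- The vector with the given code. -/
def vec (c : ℕ) : Fin 5 → GF4 := fun j => digit (c / 4 ^ j.1)

/-- The matrix with the given row codes. -/
def rowsMat (r : Fin 5 → ℕ) : Matrix (Fin 5) (Fin 5) GF4 := Matrix.of fun i => vec (r i)

/-- The conjugate transpose. -/
def star4 (M : Matrix (Fin 5) (Fin 5) GF4) : Matrix (Fin 5) (Fin 5) GF4 := Matrix.of fun i j => M j i * M j i

def X : Matrix (Fin 5) (Fin 5) GF4 := rowsMat ![648, 917, 606, 840, 621]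

def Y : Matrix (Fin 5) (Fin 5) GF4 := rowsMat ![505, 666, 785, 275, 726]

def Z : Matrix (Fin 5) (Fin 5) GF4 := rowsMat ![77, 262, 16, 833, 388]

def T : Matrix (Fin 5) (Fin 5) GF4 := rowsMat ![1, 4, 16, 256, 64]

def Bi : Matrix (Fin 5) (Fin 5) GF4 := rowsMat ![713, 804, 864, 216, 528]

/-- The codes of the invariant set of vectors. -/
def codes : List ℕ := [17, 18, 24, 28, 34, 35, 36, 44, 49, 51, 52, 56, 65, 67, 68, 72, 86, 89, 95, 103, 106, 109, 117, 119, 121, 123, 126, 129, 130, 136, 140, 151, 153, 154, 157, 158, 165, 171, 174, 182, 185, 191, 194, 195, 196, 204, 213, 219, 222, 230, 231, 233, 238, 239, 247, 250, 253, 259, 260, 272, 277, 287, 294, 295, 298, 311, 314, 315, 325, 327, 333, 339, 344, 360, 364, 384, 390, 395, 401, 402, 408, 412, 419, 428, 433, 436, 455, 461, 463, 466, 468, 497, 498, 513, 520, 537, 541, 543, 544, 549, 554, 569, 571, 575, 581, 582, 585, 594, 595, 611, 616, 646, 649, 650, 673, 684, 692, 700, 704, 715, 717, 722, 728, 738, 739, 740, 748,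 753, 756, 770, 780, 789, 797, 798, 805, 806, 814, 816, 826, 831, 832, 838, 845, 850, 856, 867, 876, 881, 883, 884, 888, 906, 907, 910, 929, 931, 945, 956, 971, 974, 975, 980, 984, 1010, 1012]

/-- The code of a vector. -/
def enc (v : Fin 5 → GF4) : ℕ := ∑ j : Fin 5, ((v j).re.val + 2 * (v j).im.val) * 4 ^ j.1

theorem vec_enc : ∀ a b c d e : GF4, vec (enc ![a, b, c, d, e]) = ![a, b, c, d, e] := by decide +kernel

theorem vec_enc' (v : Fin 5 → GF4) : vec (enc v) = v := by
  have e : v = ![v 0, v 1, v 2, v 3, v 4] := by funext i; fin_cases i <;> rfl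
  rw [e]; exact vec_enc _ _ _ _ _

theorem X_facts : X * star4 X = 1 ∧ star4 X * X = 1 ∧ X ^ 11 = 1 ∧ X ≠ 1 := by decide +kernel

theorem Y_facts : Y * star4 Y = 1 ∧ star4 Y * Y = 1 ∧ Y ^ 5 = 1 := by decide +kernel

theorem Z_facts : Z * star4 Z = 1 ∧ star4 Z * Z = 1 ∧ Z ^ 2 = 1 := by decide +kernel

theorem T_facts : T * star4 T = 1 ∧ star4 T * T = 1 ∧ T ^ 2 = 1 := by decide +kernel

theorem XYZ_codes : ∀ c ∈ codes, enc (X *ᵥ vec c) ∈ codes ∧ enc (Y *ᵥ vec c) ∈ codes ∧
    enc (Z *ᵥ vec c) ∈ codes := by decide +kernel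

theorem T_codes : ∃ c ∈ codes, enc (T *ᵥ vec c) ∉ codes := by decide +kernel

theorem codes_enc : ∀ c ∈ codes, enc (vec c) = c := by decide +kernel

theorem Z_moves : ∀ k : Fin 11, Z * X ≠ X ^ k.1 * Z := by decide +kernel

theorem X_trace : ∀ k : Fin 11, (X ^ k.1).trace = X.trace → ∃ j : Fin 5, Y ^ j.1 * X = X ^ k.1 * Y ^ j.1 := by
  decide +kernel

/-- The first five vectors of the orbit of the first basis vector. -/
def orbit : Matrix (Fin 5) (Fin 5) GF4 := Matrix.of fun i j => (X ^ j.1) i 0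

theorem orbit_mul : orbit * Bi = 1 := by decide +kernel

/-- The Hermitian pairing. -/
def pair (u v : Fin 5 → GF4) : GF4 := ∑ i, u i * (v i * v i)

/-- The invariants of a vector for the powers of `X`. -/
def sameInvariants (v : Fin 5 → GF4) : Bool :=
  decide (pair v v = 1) && decide (pair v (X *ᵥ v) = X 0 0 * X 0 0) &&
    decide (pair v ((X ^ 2) *ᵥ v) = (X ^ 2) 0 0 * (X ^ 2) 0 0) &&
    decide (pair v ((X ^ 3) *ᵥ v) = (X ^ 3) 0 0 * (X ^ 3) 0 0) &&
    decide (pair v ((X ^ 4) *ᵥ v) = (X ^ 4) 0 0 * (X ^ 4) 0 0)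

theorem sameInvariants_iff : ∀ c : Fin 1024, sameInvariants (vec c.1) = true →
    ∃ d : GF4, ∃ k : Fin 11, vec c.1 = d • (fun i => (X ^ k.1) i 0) := by decide +kernel

theorem fifth_root : ∀ c : GF4, c ^ 5 = 1 → c = 1 := by decide +kernel

theorem eleventh_root : ∀ c : GF4, c ^ 11 = 1 → c = 1 := by decide +kernel

theorem square_root : ∀ c : GF4, c ^ 2 = 1 → c = 1 := by decide +kernel

end CfsgLib.AschbacherUnitary.FiveTwo
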