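import Cfsg.Agent.AschbacherUnitary.FiveTwo

/-!
A degree five field subalgebra closed under adjoints over four elements contains an element of order eleven of the
special unitary group, so its normaliser is not maximal.
-/

set_option autoImplicit false

namespace CfsgLib.AschbacherUnitary.FiveTwo

open Matrix CfsgLib.Aschbacher CfsgLib.Linear

variable {F : Type*} [Field F] [Fintype F]

theorem adjoint_mem {q n : ℕ} {σ : F ≃+* F} (h : IsConj q σ) {K : Subalgebra F (Matrix (Fin n) (Fin n) F)}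
    (hK : Cfsg.Geo.IsAdjointClosedFor (Cfsg.hermForm n F q) K) {k : Matrix (Fin n) (Fin n) F} (hk : k ∈ K) :
    (k.map σ)ᵀ ∈ K := by
  obtain ⟨k', hk', e⟩ := hK k hk
  rw [show (k.map σ)ᵀ = k' from ?_]
  · exact hk'
  refine Matrix.ext fun a b => ?_
  have e1 := e (Pi.single a 1) (Pi.single b 1)
  rw [h.herm_eq, h.herm_eq, Matrix.mulVec_single_one, Matrix.mulVec_single_one] at e1
  simp [Pi.single_apply, apply_ite σ] at e1
  show σ (k b a) = k' a b
  rw [e1, h.involutive]

/-- A field subalgebra of degree five, closed under adjoints, contains a suitable element of order eleven. -/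
theorem exists_eleven (hF : Fintype.card F = 4) {σ : F ≃+* F} (h : IsConj 2 σ)
    {K : Subalgebra F (Matrix (Fin 5) (Fin 5) F)} (hK : Cfsg.Geo.IsFieldSubalgebra 5 K)
    (hadj : Cfsg.Geo.IsAdjointClosedFor (Cfsg.hermForm 5 F 2) K) :
    ∃ y ∈ SUn 5 F 2, orderOf y = 11 ∧
      ∀ g ∈ Cfsg.Geo.subalgebraNormalizer K, g * y * g⁻¹ ∈ Subgroup.zpowers y := by
  classical
  letI : CommRing K := { (inferInstance : Ring K) with mul_comm := fun a b => Subtype.ext (hK.comm a a.2 b b.2) }
  haveI : Nontrivial K :=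
    ⟨⟨0, 1, fun e => zero_ne_one (congrArg Subtype.val e : (0 : Matrix (Fin 5) (Fin 5) F) = 1)⟩⟩
  haveI : NoZeroDivisors K := ⟨fun {a b} hab => by
    by_contra hne
    rw [not_or] at hne
    obtain ⟨a', ha', haa⟩ := hK.inv a.1 a.2 fun e => hne.1 (Subtype.ext e)
    apply hne.2
    apply Subtype.ext
    have h1 : a' * (a.1 * b.1) = 0 := by rw [show a.1 * b.1 = 0 from congrArg Subtype.val hab, mul_zero]
    rw [← mul_assoc, hK.comm a' ha' a.1 a.2, haa, one_mul] at h1
    exact h1⟩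
  haveI : IsDomain K := NoZeroDivisors.to_isDomain _
  haveI : Fintype K := Fintype.ofFinite _
  letI : Field K := Fintype.fieldOfDomain K
  have hcardK : Fintype.card K = 1024 := by
    rw [← Nat.card_eq_fintype_card, Module.natCard_eq_pow_finrank (K := F), hK.finrank_eq,
      Nat.card_eq_fintype_card, hF]
    norm_num
  haveI : Fact (Nat.Prime 2) := ⟨Nat.prime_two⟩
  haveI : Fact (Nat.Prime 11) := ⟨by norm_num⟩
  obtain ⟨p, hp⟩ := CharP.exists K
  haveI := hp
  have hp2 : p = 2 := by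
    obtain ⟨a, hpp, ha⟩ := FiniteField.card K p
    rw [hcardK] at ha
    exact (Nat.prime_dvd_prime_iff_eq hpp Nat.prime_two).1
      (hpp.dvd_of_dvd_pow (show p ∣ 2 ^ 10 by norm_num; rw [ha]; exact dvd_pow_self p a.ne_zero))
  subst hp2
  letI : Algebra (ZMod 2) K := ZMod.algebra K 2
  have hfin : Module.finrank (ZMod 2) K = 10 := by
    have e := Module.card_eq_pow_finrank (K := ZMod 2) (V := K)
    rw [hcardK, ZMod.card] at e
    exact Nat.pow_right_injective le_rfl (show 2 ^ Module.finrank (ZMod 2) K = 2 ^ 10 by rw [← e])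
  let T : K →+* K :=
    { toFun := fun k => ⟨(k.1.map σ)ᵀ, adjoint_mem h hadj k.2⟩
      map_one' := Subtype.ext (by simp)
      map_zero' := Subtype.ext (by simp)
      map_add' := fun a b => Subtype.ext (by simp [Matrix.map_add])
      map_mul' := fun a b => Subtype.ext (by
        show ((a.1 * b.1).map σ)ᵀ = (a.1.map σ)ᵀ * (b.1.map σ)ᵀ
        rw [Matrix.map_mul, Matrix.transpose_mul,
          hK.comm _ (adjoint_mem h hadj b.2) _ (adjoint_mem h hadj a.2)]) }
  have hT2 : ∀ k, T (T k) = k := fun k => Subtype.ext (Matrix.ext fun a b => h.involutive _)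
  let τ : K ≃ₐ[ZMod 2] K := AlgEquiv.ofRingEquiv
    (f := RingEquiv.ofBijective T ⟨fun a b e => by rw [← hT2 a, e, hT2], fun b => ⟨T b, hT2 b⟩⟩)
    (fun a => RingHom.congr_fun (Subsingleton.elim (T.comp (algebraMap (ZMod 2) K)) _) a)
  obtain ⟨i, hi⟩ := (FiniteField.bijective_frobeniusAlgEquivOfAlgebraic_pow (ZMod 2) K).2 τ
  have hTi : ∀ k, T k = k ^ 2 ^ (i : ℕ) := fun k => by
    have e := DFunLike.congr_fun hi k
    rw [AlgEquiv.coe_pow, FiniteField.coe_frobeniusAlgEquivOfAlgebraic_iterate, ZMod.card] at e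
    exact e.symm
  obtain ⟨g, hg⟩ : ∃ g : Kˣ, orderOf g = 11 :=
    exists_prime_orderOf_dvd_card' 11 (by rw [Nat.card_units, Nat.card_eq_fintype_card, hcardK]; norm_num)
  have hg' : orderOf (g : K) = 11 := by rw [orderOf_units]; exact hg
  have hi4 : 11 ∣ 4 ^ (i : ℕ) - 1 := by
    have e := hT2 (g : K)
    rw [hTi, hTi, ← pow_mul, ← pow_add, ← two_mul, pow_mul, show 2 ^ 2 = 4 by rfl] at e
    rw [← hg']
    refine orderOf_dvd_of_pow_eq_one ((mul_left_eq_self₀.1 ?_).resolve_right g.ne_zero)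
    rw [← pow_succ, Nat.sub_add_cancel (Nat.one_le_pow _ _ (by norm_num))]
    exact e
  have hi3 : (2 ^ (i : ℕ)) % 3 = 2 := by
    obtain ⟨w, hw⟩ := IsCyclic.exists_generator (α := Fˣ)
    have how : orderOf (w : F) = 3 := by
      rw [orderOf_units, orderOf_eq_card_of_forall_mem_zpowers hw, Nat.card_units,
        Nat.card_eq_fintype_card, hF]
    have e : T (algebraMap F K (w : F)) = algebraMap F K (σ (w : F)) := Subtype.ext (by
      show ((algebraMap F (Matrix (Fin 5) (Fin 5) F) (w : F)).map σ)ᵀ = algebraMap F _ (σ (w : F))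
      ext a b; simp [Matrix.algebraMap_matrix_apply, apply_ite σ, eq_comm])
    rw [hTi, h.eq_pow, ← map_pow] at e
    have e1 := (algebraMap F K).injective e
    rw [← pow_mod_orderOf, how] at e1
    have h3 : 2 ^ (i : ℕ) % 3 < 3 := Nat.mod_lt _ (by norm_num)
    exact pow_injOn_Iio_orderOf (by rw [Set.mem_Iio, how]; exact h3) (by rw [Set.mem_Iio, how]; norm_num) e1
  have h11 : 11 ∣ 2 ^ (i : ℕ) + 1 := by
    have hlt : (i : ℕ) < 10 := hfin ▸ i.isLt
    have key : ∀ j : Fin 10, 11 ∣ 4 ^ j.1 - 1 → 2 ^ j.1 % 3 = 2 → 11 ∣ 2 ^ j.1 + 1 := by decide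
    exact key ⟨i, hlt⟩ hi4 hi3
  have hgg : T (g : K) * (g : K) = 1 := by
    rw [hTi, ← pow_succ, orderOf_dvd_iff_pow_eq_one.1 (hg' ▸ h11)]
  let y : GL (Fin 5) F := Units.map (K.val.toRingHom.toMonoidHom) g
  have hyord : orderOf y = 11 := by
    rw [← hg]
    exact orderOf_injective (Units.map K.val.toRingHom.toMonoidHom)
      (Units.map_injective Subtype.val_injective) g
  have hyK : mat y ∈ K := (g : K).2
  refine ⟨y, ⟨h.mem_GU_iff.2 ?_, mem_specialLinear_iff.2 ?_⟩, hyord, fun a ha => ?_⟩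
  · have e := congrArg Matrix.transpose (congrArg Subtype.val hgg)
    rw [show ((T (g : K) * (g : K) : K) : Matrix (Fin 5) (Fin 5) F) = ((mat y).map σ)ᵀ * mat y from rfl,
      show ((1 : K) : Matrix (Fin 5) (Fin 5) F) = 1 from rfl, Matrix.transpose_mul, Matrix.transpose_transpose,
      Matrix.transpose_one] at e
    exact e
  · have e1 : (mat y).det ^ 11 = 1 := by
      rw [← Matrix.det_pow, show mat y ^ 11 = mat (y ^ 11) from (Units.val_pow_eq_pow_val y 11).symm, ← hyord,
        pow_orderOf_eq_one]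
      simp [mat]
    have hne : (mat y).det ≠ 0 := fun e0 => by simp [e0] at e1
    have e3 : (mat y).det ^ 3 = 1 := by
      have := FiniteField.pow_card_sub_one_eq_one _ hne
      rwa [hF] at this
    simpa using pow_gcd_eq_one.2 ⟨e1, e3⟩
  · have hpow : ∀ z : Kˣ, z ^ 11 = 1 → z ∈ Subgroup.zpowers g := fun z hz => by
      obtain ⟨w, hw⟩ := IsCyclic.exists_generator (α := Kˣ)
      have how : orderOf w = 1023 := by
        rw [orderOf_eq_card_of_forall_mem_zpowers hw, Nat.card_units, Nat.card_eq_fintype_card, hcardK]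
      obtain ⟨k, rfl⟩ := (mem_powers_iff_mem_zpowers (x := w)).2 (hw z)
      obtain ⟨m, hm⟩ := (mem_powers_iff_mem_zpowers (x := w)).2 (hw g)
      simp only at hm hz ⊢
      have hk : 93 ∣ k := by
        have := orderOf_dvd_of_pow_eq_one (x := w) (show w ^ (k * 11) = 1 by rw [pow_mul]; exact hz)
        rw [how] at this; omega
      have hm93 : 93 ∣ m := by
        have := orderOf_dvd_of_pow_eq_one (x := w) (show w ^ (m * 11) = 1 by
          rw [pow_mul, hm, ← hg, pow_orderOf_eq_one])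
        rw [how] at this; omega
      have hm0 : ¬ 1023 ∣ m := fun hd => by
        have : g = 1 := by rw [← hm]; exact orderOf_dvd_iff_pow_eq_one.1 (how ▸ hd)
        rw [this, orderOf_one] at hg; norm_num at hg
      obtain ⟨a, rfl⟩ := hk
      obtain ⟨b, rfl⟩ := hm93
      have hb : Nat.Coprime b 11 := (Nat.Prime.coprime_iff_not_dvd (by norm_num)).2 (fun hd => hm0 (by
        obtain ⟨c, rfl⟩ := hd; exact ⟨c, by ring⟩)) |>.symm
      obtain ⟨c, hc⟩ := Nat.exists_mul_mod_eq_one_of_coprime hb (by norm_num)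
      refine Subgroup.mem_zpowers_iff.2 ⟨((c * a : ℕ) : ℤ), ?_⟩
      rw [zpow_natCast, ← hm, ← pow_mul, pow_eq_pow_iff_modEq, how]
      show 93 * b * (c * a) % 1023 = 93 * a % 1023
      rw [show (1023 : ℕ) = 93 * 11 by rfl, show 93 * b * (c * a) = 93 * ((b * c) * a) by ring, Nat.mul_mod_mul_left,
        Nat.mul_mod_mul_left, Nat.mul_mod, hc.2, one_mul, Nat.mod_mod]
    have hmem : mat a * mat y * mat a⁻¹ ∈ K := (ha _).1 hyK
    let z : K := ⟨_, hmem⟩
    have hz : z ^ 11 = 1 := Subtype.ext (by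
      rw [SubmonoidClass.coe_pow]
      show (mat a * mat y * mat a⁻¹) ^ 11 = 1
      rw [show mat a * mat y * mat a⁻¹ = mat (a * y * a⁻¹) from rfl,
        show mat (a * y * a⁻¹) ^ 11 = mat ((a * y * a⁻¹) ^ 11) from (Units.val_pow_eq_pow_val _ _).symm,
        conj_pow, ← hyord, pow_orderOf_eq_one, mul_one, mul_inv_cancel]
      rfl)
    obtain ⟨k, hk⟩ := Subgroup.mem_zpowers_iff.1 (hpow (Units.ofPowEqOne z 11 hz (by norm_num))
      (Units.pow_ofPowEqOne hz (by norm_num)))
    refine Subgroup.mem_zpowers_iff.2 ⟨k, Units.ext ?_⟩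
    show mat ((Units.map K.val.toRingHom.toMonoidHom g) ^ k) = _
    rw [← map_zpow, hk]
    rfl

/-- The normaliser of a degree five field subalgebra is not maximal over four elements. -/
theorem not_maximal (hF : Fintype.card F = 4) {K : Subalgebra F (Matrix (Fin 5) (Fin 5) F)}
    (hK : Cfsg.Geo.IsFieldSubalgebra 5 K) (hadj : Cfsg.Geo.IsAdjointClosedFor (Cfsg.hermForm 5 F 2) K) :
    ¬ Cfsg.Geo.IsMaximalIn (SUn 5 F 2) (Cfsg.Geo.subalgebraNormalizer K ⊓ SUn 5 F 2) := by
  intro hmax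
  obtain ⟨σ, h⟩ := exists_isConj (F := F) (q := 2) (by rw [hF]; norm_num)
  obtain ⟨y, hy, hord, hnorm⟩ := exists_eleven hF h hK hadj
  obtain ⟨σ₀, h₀⟩ := exists_conj4
  let e : GF4 ≃+* F := FiniteField.ringEquivOfCardEq (by rw [card_gf4, hF])
  let ψ : GL (Fin 5) GF4 ≃* GL (Fin 5) F := Units.mapEquiv e.mapMatrix.toMulEquiv
  have hmat : ∀ g, mat (ψ g) = (mat g).map e := fun g => rfl
  have hSU : ∀ g, ψ g ∈ SUn 5 F 2 ↔ g ∈ SUn 5 GF4 2 := by
    intro g
    rw [Subgroup.mem_inf, Subgroup.mem_inf, h.mem_GU_iff, h₀.mem_GU_iff, mem_specialLinear_iff,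
      mem_specialLinear_iff, hmat]
    have hinj : Function.Injective fun M : Matrix (Fin 5) (Fin 5) GF4 => M.map e :=
      fun A B hAB => Matrix.ext fun i j => e.injective (congrFun (congrFun hAB i) j)
    refine and_congr ?_ ?_
    · rw [show (((mat g).map e).map σ) = ((mat g).map σ₀).map e from Matrix.ext fun i j => by
        simp [h.eq_pow, h₀.eq_pow]]
      rw [← Matrix.transpose_map, ← Matrix.map_mul]
      conv_lhs => rw [show (1 : Matrix (Fin 5) (Fin 5) F) = (1 : Matrix (Fin 5) (Fin 5) GF4).map e from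
        (Matrix.map_one e (map_zero e) (map_one e)).symm]
      exact ⟨fun e' => hinj e', fun e' => by rw [e']⟩
    · rw [show ((mat g).map e).det = e (mat g).det from (RingHom.map_det e.toRingHom (mat g)).symm]
      exact map_eq_one_iff e e.injective
  obtain ⟨L, hL1, hL2⟩ := exists_overgroup (y := ψ.symm y)
    ((hSU _).1 (by rw [MulEquiv.apply_symm_apply]; exact hy))
    (by rw [← hord]; exact orderOf_injective ψ.symm.toMonoidHom ψ.symm.injective y)
    (N := (Cfsg.Geo.subalgebraNormalizer K ⊓ SUn 5 F 2).comap ψ.toMonoidHom)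
    (fun g hg => (hSU g).1 hg.2)
    (fun g hg => by
      obtain ⟨k, hk⟩ := Subgroup.mem_zpowers_iff.1 (hnorm (ψ g) hg.1)
      refine Subgroup.mem_zpowers_iff.2 ⟨k, ψ.injective ?_⟩
      rw [map_zpow, map_mul, map_mul, map_inv, MulEquiv.apply_symm_apply, hk])
  have h1 : Cfsg.Geo.subalgebraNormalizer K ⊓ SUn 5 F 2 < L.map ψ.toMonoidHom := by
    have := (Subgroup.map_lt_map_iff_of_injective (f := ψ.toMonoidHom) ψ.injective).2 hL1
    exact lt_of_le_of_lt (fun x hx => Subgroup.mem_map.2 ⟨ψ.symm x, Subgroup.mem_comap.2 (by simpa using hx),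
      ψ.apply_symm_apply x⟩) this
  have h2 : L.map ψ.toMonoidHom < SUn 5 F 2 := by
    refine lt_of_le_of_ne ?_ fun e => hL2.ne ?_
    · rintro _ ⟨g, hg, rfl⟩; exact (hSU g).2 (hL2.le hg)
    · refine le_antisymm hL2.le fun g hg => ?_
      obtain ⟨g', hg', e'⟩ := (e.symm ▸ (hSU g).2 hg : ψ g ∈ L.map ψ.toMonoidHom)
      exact ψ.injective e' ▸ hg'
  rcases hmax.2 _ h1.le h2.le with e | e
  · exact h1.ne e.symm
  · exact h2.ne e

end CfsgLib.AschbacherUnitary.FiveTwo
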