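import Cfsg.Agent.AschbacherUnitary.Proper
import Cfsg.Agent.LinearElements.UnitaryPairs
import Cfsg.Agent.MaxSub.UnitaryTensor

/-!
# Degenerate imprimitive groups of the four-dimensional unitary groups over small fields

Over four elements a decomposition into two non-degenerate planes refines to four lines. Over at most nine
elements a pair of totally singular planes carries an alternating form which the determinant-one stabiliser
fixes up to sign.
-/

set_option autoImplicit false
set_option linter.unusedSectionVars false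

namespace CfsgLib.AschbacherUnitary

attribute [-simp] RingEquiv.coe_refl

open Matrix Cfsg.Geo CfsgLib.Aschbacher CfsgLib.AschbacherForms CfsgLib.MaxSub CfsgLib.UnitaryPairs

variable {n q : ℕ} {F : Type*} [Field F] [Fintype F] {σ : F ≃+* F}

/-- The lines of an orthonormal family of full size form a decomposition. -/
theorem lines_of_orthonormal (h : IsConj q σ) (hn : 2 ≤ n) {x : Fin n → Fin n → F}
    (hx : ∀ i j, Cfsg.hermForm n F q (x i) (x j) = if i = j then 1 else 0) :
    IsNondegenerateMDecomposition (Cfsg.hermForm n F q) 1 (fun i => Submodule.span F {x i}) := by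
  classical
  have hf := isReflexive_unitary (h.unitary (n := n))
  have hx0 : ∀ i, x i ≠ 0 := fun i e => by
    have := hx i i
    rw [e, hf.zero_left, if_pos rfl] at this
    exact zero_ne_one this
  have hli : LinearIndependent F x := Fintype.linearIndependent_iff.2 fun g hg i => by
    have h1 : Cfsg.hermForm n F q (∑ j, g j • x j) (x i) = g i := by
      rw [hf.sesq.sum_left, Finset.sum_eq_single i (fun j _ hji => by
        rw [hf.sesq.smul_left, hx, if_neg hji, mul_zero]) (fun h' => absurd (Finset.mem_univ i) h'),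
        hf.sesq.smul_left, hx, if_pos rfl, mul_one]
    rw [hg, hf.zero_left] at h1
    exact h1.symm
  have hD : IsMDecomposition 1 (fun i => Submodule.span F {x i}) := by
    refine ⟨hn, one_pos, fun i => finrank_span_singleton (hx0 i), hli.iSupIndep_span_singleton, ?_⟩
    rw [← Submodule.span_range_eq_iSup]
    have : Nonempty (Fin n) := ⟨⟨0, by omega⟩⟩
    exact hli.span_eq_top_of_card_eq_finrank (by rw [Fintype.card_fin, Module.finrank_fin_fun])
  refine ⟨hD, fun i u hu hu0 => ?_, fun i j hij u hu v hv => ?_⟩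
  · obtain ⟨a, rfl⟩ := Submodule.mem_span_singleton.1 hu
    have ha : a ≠ 0 := fun e => hu0 (by rw [e, zero_smul])
    refine ⟨⟨x i, Submodule.mem_span_singleton_self _, ?_⟩, ⟨x i, Submodule.mem_span_singleton_self _, ?_⟩⟩
    · rw [hf.sesq.smul_right, hx, if_pos rfl, mul_one]
      exact fun e => ha (by rw [← h.involutive a, e, map_zero])
    · rw [hf.sesq.smul_left, hx, if_pos rfl, mul_one]
      exact ha
  · obtain ⟨a, rfl⟩ := Submodule.mem_span_singleton.1 hu
    obtain ⟨b, rfl⟩ := Submodule.mem_span_singleton.1 hv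
    rw [hf.sesq.smul_left, hf.sesq.smul_right, hx, if_neg hij, mul_zero, mul_zero]

/-- Over four elements a group of isometries stabilising two orthogonal planes stabilises a frame. -/
theorem planes_two (hF : Fintype.card F = 2 ^ 2) (h : IsConj 2 σ) {H : Subgroup (GL (Fin 4) F)}
    (hH : H ≤ Cfsg.GU 4 F 2) {D : Fin 2 → Submodule F (Fin 4 → F)}
    (hD : IsNondegenerateMDecomposition (Cfsg.hermForm 4 F 2) 2 D)
    (hle : H ≤ decompositionStabilizer D) :
    ∃ D' : Fin 4 → Submodule F (Fin 4 → F),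
      IsNondegenerateMDecomposition (Cfsg.hermForm 4 F 2) 1 D' ∧ H ≤ decompositionStabilizer D' := by
  classical
  have hf := isReflexive_unitary (h.unitary (n := 4))
  have h2 : (2 : F) = 0 := by
    have h' := FiniteField.cast_card_eq_zero F
    rw [hF, Nat.cast_pow] at h'
    exact pow_eq_zero_iff two_ne_zero |>.1 (by exact_mod_cast h')
  have hnorm : ∀ c : F, c ≠ 0 → c * σ c = 1 := fun c hc => by
    rw [h.eq_pow, ← pow_succ', show 2 + 1 = Fintype.card F - 1 by rw [hF]; norm_num]
    exact FiniteField.pow_card_sub_one_eq_one c hc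
  have hself : ∀ v, Cfsg.hermForm 4 F 2 v v ≠ 0 → Cfsg.hermForm 4 F 2 v v = 1 := fun v hv => by
    have e : σ (Cfsg.hermForm 4 F 2 v v) = Cfsg.hermForm 4 F 2 v v := herm_self (h.unitary (n := 4)) v
    rw [h.eq_pow] at e
    exact mul_left_cancel₀ hv (by linear_combination e)
  have hplane : ∀ i, ∃ a b, a ∈ D i ∧ b ∈ D i ∧ Cfsg.hermForm 4 F 2 a a = 1 ∧ Cfsg.hermForm 4 F 2 b b = 1 ∧
      Cfsg.hermForm 4 F 2 a b = 0 ∧ ∀ v ∈ D i, Cfsg.hermForm 4 F 2 v v = 1 →
        v ∈ Submodule.span F {a} ∨ v ∈ Submodule.span F {b} := by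
    intro i
    obtain ⟨a, ha, ha1⟩ : ∃ a ∈ D i, Cfsg.hermForm 4 F 2 a a ≠ 0 := by
      by_contra hall
      push Not at hall
      obtain ⟨w, hw, hw0⟩ := (Submodule.ne_bot_iff (D i)).1 fun e => by
        have := hD.decomp.finrank_eq i
        rw [e, finrank_bot] at this
        omega
      obtain ⟨⟨x, hx, hxw⟩, -⟩ := hD.nondegenerate i w hw hw0
      obtain ⟨c, hc⟩ : ∃ c : F, c + σ c ≠ 0 := by
        by_contra hc
        push Not at hc
        exact h.ne_refl (RingEquiv.ext fun c => by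
          show σ c = c
          linear_combination hc c - c * h2)
      have h1 := hall ((c / Cfsg.hermForm 4 F 2 x w) • x + w)
        (add_mem (Submodule.smul_mem _ _ hx) hw)
      rw [hf.sesq.add_left, hf.sesq.add_right, hf.sesq.add_right, hf.sesq.smul_left, hf.sesq.smul_left,
        hf.sesq.smul_right, hf.sesq.smul_right, hall x hx, hall w hw, hf.refl x w, one_mul, map_div₀,
        div_mul_cancel₀ _ hxw] at h1
      have hσ0 : σ (Cfsg.hermForm 4 F 2 x w) ≠ 0 := fun e => hxw (by rw [← h.involutive (Cfsg.hermForm 4 F 2 x w), e, map_zero])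
      rw [div_mul_cancel₀ _ hσ0] at h1
      exact hc (by linear_combination h1)
    have ha1 := hself a ha1
    obtain ⟨u, hu, hua⟩ : ∃ u ∈ D i, u ∉ Submodule.span F {a} := by
      by_contra hall
      push Not at hall
      have h1 := Submodule.finrank_mono (show D i ≤ Submodule.span F {a} from hall)
      have h2' := finrank_span_le_card (R := F) ({a} : Set (Fin 4 → F))
      rw [hD.decomp.finrank_eq] at h1
      simp at h2'
      omega
    set b := u - Cfsg.hermForm 4 F 2 u a • a with hb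
    have hbD : b ∈ D i := sub_mem hu (Submodule.smul_mem _ _ ha)
    have hba : Cfsg.hermForm 4 F 2 b a = 0 := by
      rw [hb, sub_eq_add_neg, ← neg_smul, hf.sesq.add_left, hf.sesq.smul_left, ha1]
      ring
    have hab : Cfsg.hermForm 4 F 2 a b = 0 := by rw [hf.refl b a, hba, map_zero, mul_zero]
    have hb0 : b ≠ 0 := fun e => hua (by
      rw [hb, sub_eq_zero] at e
      rw [e]
      exact Submodule.smul_mem _ _ (Submodule.mem_span_singleton_self _))
    have hspan : D i = Submodule.span F {a, b} := by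
      refine (Submodule.eq_of_le_of_finrank_le (Submodule.span_le.2 ?_) ?_).symm
      · rintro x (rfl | rfl)
        · exact ha
        · exact hbD
      · rw [hD.decomp.finrank_eq]
        have hli : LinearIndependent F ![a, b] := LinearIndependent.pair_iff.2 fun s t hst => by
          have e1 : Cfsg.hermForm 4 F 2 (s • a + t • b) a = s := by
            rw [hf.sesq.add_left, hf.sesq.smul_left, hf.sesq.smul_left, ha1, hba]; ring
          rw [hst, hf.zero_left] at e1
          subst e1
          rw [zero_smul, zero_add, smul_eq_zero] at hst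
          exact ⟨rfl, hst.resolve_right hb0⟩
        have := finrank_span_eq_card hli
        rw [Fintype.card_fin, Matrix.range_cons, Matrix.range_cons, Matrix.range_empty, Set.union_empty,
          Set.singleton_union] at this
        exact this.ge
    have hb1 : Cfsg.hermForm 4 F 2 b b = 1 := hself b fun e => by
      obtain ⟨⟨x, hx, hxb⟩, -⟩ := hD.nondegenerate i b hbD hb0
      rw [hspan] at hx
      obtain ⟨s, t, rfl⟩ := Submodule.mem_span_pair.1 hx
      rw [hf.sesq.add_left, hf.sesq.smul_left, hf.sesq.smul_left, hab, e] at hxb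
      simp at hxb
    refine ⟨a, b, ha, hbD, ha1, hb1, hab, fun v hv hv1 => ?_⟩
    rw [hspan] at hv
    obtain ⟨s, t, rfl⟩ := Submodule.mem_span_pair.1 hv
    rcases eq_or_ne s 0 with rfl | hs
    · exact Or.inr (by rw [zero_smul, zero_add]; exact Submodule.smul_mem _ _ (Submodule.mem_span_singleton_self _))
    rcases eq_or_ne t 0 with rfl | ht
    · exact Or.inl (by rw [zero_smul, add_zero]; exact Submodule.smul_mem _ _ (Submodule.mem_span_singleton_self _))
    rw [hf.sesq.add_left, hf.sesq.add_right, hf.sesq.add_right, hf.sesq.smul_left, hf.sesq.smul_left,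
      hf.sesq.smul_left, hf.sesq.smul_left, hf.sesq.smul_right, hf.sesq.smul_right, hf.sesq.smul_right,
      hf.sesq.smul_right, ha1, hb1, hab, hba] at hv1
    have e : s * σ s + t * σ t = 1 := by linear_combination hv1
    rw [hnorm s hs, hnorm t ht] at e
    exact absurd (show (0 : F) = 1 by linear_combination -e) zero_ne_one
  choose a b ha hb ha1 hb1 hab huniq using hplane
  let w : Fin 2 × Fin 2 → Fin 4 → F := fun p => if p.2 = 0 then a p.1 else b p.1
  let e4 : Fin 4 ≃ Fin 2 × Fin 2 := (finProdFinEquiv (m := 2) (n := 2)).symm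
  let x : Fin 4 → Fin 4 → F := fun l => w (e4 l)
  have hwD : ∀ p, w p ∈ D p.1 := fun p => by
    simp only [w]; split
    · exact ha _
    · exact hb _
  have hw : ∀ p p', Cfsg.hermForm 4 F 2 (w p) (w p') = if p = p' then 1 else 0 := by
    rintro ⟨i, j⟩ ⟨i', j'⟩
    rcases eq_or_ne i i' with rfl | hii
    · have hba : Cfsg.hermForm 4 F 2 (b i) (a i) = 0 := by rw [hf.refl (a i) (b i), hab, map_zero, mul_zero]
      fin_cases j <;> fin_cases j' <;> simp [w, ha1, hb1, hab, hba]
    · rw [if_neg (by simp [hii]), hD.orthogonal i i' hii _ (hwD (i, j)) _ (hwD (i', j'))]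
  have hx : ∀ i j, Cfsg.hermForm 4 F 2 (x i) (x j) = if i = j then 1 else 0 := fun i j => by
    simp only [x, hw, EmbeddingLike.apply_eq_iff_eq]
  have hD' := lines_of_orthonormal h (by norm_num) hx
  refine ⟨_, hD', fun g hg => mem_decompositionStabilizer_of hD'.decomp fun l => ?_⟩
  obtain ⟨π, hπ⟩ := hle hg
  set v := mat g *ᵥ x l with hv
  have hvD : v ∈ D (π (e4 l).1) := map_le_iff.1 (hπ (e4 l).1).le _ (hwD _)
  have hv1 : Cfsg.hermForm 4 F 2 v v = 1 := by
    rw [hv, MaxSub.mem_GU_iff_forall.1 (hH hg), hx, if_pos rfl]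
  have key : ∃ m, v ∈ Submodule.span F {x m} := by
    rcases huniq _ v hvD hv1 with h' | h'
    · exact ⟨e4.symm (π (e4 l).1, 0), by simpa [x, w] using h'⟩
    · exact ⟨e4.symm (π (e4 l).1, 1), by simpa [x, w] using h'⟩
  obtain ⟨m, hm⟩ := key
  refine ⟨m, fun y hy => ?_⟩
  obtain ⟨c, rfl⟩ := Submodule.mem_span_singleton.1 hy
  rw [Matrix.mulVec_smul]
  exact Submodule.smul_mem _ _ hm

/-- Over at most nine elements the determinant-one stabiliser of a pair of totally singular planes fixes an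
alternating form up to scalars. -/
theorem pair_small (hq : q ≤ 3) (h : IsConj q σ) {H : Subgroup (GL (Fin 4) F)} (hH : H ≤ SUn 4 F q)
    {D : Fin 2 → Submodule F (Fin 4 → F)} (hD : IsMDecomposition 2 D)
    (hts : ∀ i, IsTotallySingularFor (Cfsg.hermForm 4 F q) (D i)) (hle : H ≤ decompositionStabilizer D) :
    ∃ (b : (Fin 4 → F) → (Fin 4 → F) → F) (J : (Fin 4 → F) → (Fin 4 → F)),
      IsBilinearForm b ∧ IsNondegenerateForm b ∧ (∀ u v, b v u = -1 * b u v) ∧ (∀ v, b v v = 0) ∧
      H ≤ similarityGroup b ∧ IsCompare σ (Cfsg.hermForm 4 F q) b J ∧ ∀ v, J (J v) = (-1 : F) • v := by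
  classical
  obtain ⟨Φ⟩ := exists_frame h (isPair_of_decomp hD rfl hts)
  set E : Matrix (Fin 2) (Fin 2) F := !![0, 1; -1, 0] with hE
  set Ω : Matrix (Fin 2 ⊕ Fin 2) (Fin 2 ⊕ Fin 2) F := Matrix.fromBlocks E 0 0 E with hΩ
  set K := pairGram F 2 with hK
  have hEE : E * E = -1 := by
    ext i j; fin_cases i <;> fin_cases j <;> simp [E, Matrix.mul_apply, Fin.sum_univ_two]
  have hEt : Eᵀ = -E := by ext i j; fin_cases i <;> fin_cases j <;> simp [E]
  have hΩΩ : Ω * -Ω = 1 := by
    simp [hΩ, Matrix.fromBlocks_neg, Matrix.fromBlocks_multiply, hEE]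
  have hΩu : IsUnit Ω := IsUnit.of_mul_eq_one _ hΩΩ
  have hΩt : Ωᵀ = (-1 : F) • Ω := by
    simp [hΩ, Matrix.fromBlocks_transpose, Matrix.fromBlocks_neg, hEt]
  have hKΩ : K * Ω * (K * Ω) = -1 := by
    simp [hK, pairGram, hΩ, Matrix.fromBlocks_multiply, hEE, Matrix.fromBlocks_neg, ← Matrix.fromBlocks_one]
  have hKΩσ : (K * Ω).map σ = K * Ω := by
    ext s t
    rcases s with i | i <;> rcases t with j | j <;> fin_cases i <;> fin_cases j <;>
      simp [hK, pairGram, hΩ, E, Matrix.fromBlocks_multiply]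
  have hKK : K * K = 1 := by simp [hK, pairGram, Matrix.fromBlocks_multiply]
  have hherm : ∀ x y : Fin 2 ⊕ Fin 2 → F, Cfsg.hermForm 4 F q (Φ.mat *ᵥ x) (Φ.mat *ᵥ y) =
      x ⬝ᵥ (K *ᵥ fun s => σ (y s)) := fun x y => by
    have e : (fun i => σ ((Φ.mat *ᵥ y) i)) = Φ.mat.map σ *ᵥ fun s => σ (y s) := by
      funext i
      simp [Matrix.mulVec, dotProduct]
    rw [h.herm_eq]
    show (Φ.mat *ᵥ x) ⬝ᵥ (fun i => σ ((Φ.mat *ᵥ y) i)) = _
    rw [e, ← Matrix.vecMul_transpose, ← Matrix.dotProduct_mulVec, Matrix.mulVec_mulVec, Φ.gram]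
  have hinv : ∀ v, Φ.mat *ᵥ (Φ.inv *ᵥ v) = v := fun v => by
    rw [Matrix.mulVec_mulVec, Φ.mat_inv, Matrix.one_mulVec]
  have hinv' : ∀ x, Φ.inv *ᵥ (Φ.mat *ᵥ x) = x := fun x => by
    rw [Matrix.mulVec_mulVec, Φ.inv_mat, Matrix.one_mulVec]
  let b : (Fin 4 → F) → (Fin 4 → F) → F := fun u v =>
    formOf (RingEquiv.refl F) Ω (Φ.inv *ᵥ u) (Φ.inv *ᵥ v)
  let J : (Fin 4 → F) → (Fin 4 → F) := fun v => Φ.mat *ᵥ ((K * Ω) *ᵥ fun s => σ ((Φ.inv *ᵥ v) s))
  have hbil := isBilinearForm_formOf (F := F) Ω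
  have hd : ∀ x, formOf (RingEquiv.refl F) Ω x x = 0 := fun x => by
    simp [formOf, hΩ, E, Matrix.mulVec, dotProduct, Fintype.sum_sum_type, Fin.sum_univ_two]
    ring
  refine ⟨b, J, ⟨fun x y v => ?_, fun l x v => ?_, fun v x y => ?_, fun l v x => ?_⟩, fun v hv => ?_,
    fun u v => ?_, fun v => hd _, fun g hg => ?_, ⟨fun u v => ?_, fun u v => ?_, fun l v => ?_⟩,
    fun v => ?_⟩
  · simp only [b, Matrix.mulVec_add, hbil.add_left]
  · simp only [b, Matrix.mulVec_smul, hbil.smul_left]
  · simp only [b, Matrix.mulVec_add, hbil.add_right]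
  · simp only [b, Matrix.mulVec_smul, hbil.smul_right]
  · obtain ⟨⟨x, hx⟩, ⟨y, hy⟩⟩ := nondegenerate_formOf (RingEquiv.refl F) hΩu (Φ.inv *ᵥ v)
      (fun e => hv (by rw [← hinv v, e, Matrix.mulVec_zero]))
    exact ⟨⟨Φ.mat *ᵥ x, by simpa only [b, hinv'] using hx⟩, ⟨Φ.mat *ᵥ y, by simpa only [b, hinv'] using hy⟩⟩
  · exact formOf_symm hΩt _ _
  · -- similitudes
    obtain ⟨B, hB⟩ : ∃ B, B = Φ.inv * mat g * Φ.mat := ⟨_, rfl⟩
    have hgB : ∀ u, Φ.inv *ᵥ (mat g *ᵥ u) = B *ᵥ (Φ.inv *ᵥ u) := fun u => by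
      rw [hB, Matrix.mulVec_mulVec, Matrix.mulVec_mulVec, Matrix.mul_assoc _ Φ.mat, Φ.mat_inv, Matrix.mul_one]
    have hdetB : B.det = 1 := by
      rw [hB, Matrix.det_conj_of_mul_eq_one Φ.inv_mat Φ.mat_inv]
      exact mem_specialLinear_iff.1 (hH hg).2
    have hgram : Bᵀ * K * B.map σ = K := by
      have hgu := h.mem_GU_iff.1 (hH hg).1
      have e1 : Φ.mat * B = mat g * Φ.mat := by
        rw [hB, ← Matrix.mul_assoc, ← Matrix.mul_assoc, Φ.mat_inv, Matrix.one_mul]
      calc Bᵀ * K * B.map σ = (Φ.mat * B)ᵀ * (Φ.mat * B).map σ := by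
            rw [hK, ← Φ.gram, Matrix.transpose_mul, Matrix.map_mul]
            simp only [Matrix.mul_assoc]
        _ = Φ.matᵀ * ((mat g)ᵀ * (mat g).map σ) * Φ.mat.map σ := by
            rw [e1, Matrix.transpose_mul, Matrix.map_mul]
            simp only [Matrix.mul_assoc]
        _ = K := by rw [hgu, Matrix.mul_one, Φ.gram]
    obtain ⟨π, hπ⟩ := hle hg
    have h0 : ∀ w ∈ D 0, ∀ t, (Φ.inv *ᵥ w) (.inr t) = 0 := by
      intro w hw t
      rw [Φ.span₀, Submodule.mem_span_range_iff_exists_fun] at hw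
      obtain ⟨c, rfl⟩ := hw
      have e : ∀ i, (Φ.inv *ᵥ Φ.mat.col (.inl i)) (Sum.inr t) = 0 := fun i => by
        show (Φ.inv * Φ.mat) (Sum.inr t) (Sum.inl i) = 0
        rw [Φ.inv_mat]; simp
      simp only [Matrix.mulVec_sum, Matrix.mulVec_smul, Finset.sum_apply, Pi.smul_apply, e, smul_zero,
        Finset.sum_const_zero]
    have h1 : ∀ w ∈ D 1, ∀ t, (Φ.inv *ᵥ w) (.inl t) = 0 := by
      intro w hw t
      rw [Φ.span₁, Submodule.mem_span_range_iff_exists_fun] at hw
      obtain ⟨c, rfl⟩ := hw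
      have e : ∀ i, (Φ.inv *ᵥ Φ.mat.col (.inr i)) (Sum.inl t) = 0 := fun i => by
        show (Φ.inv * Φ.mat) (Sum.inl t) (Sum.inr i) = 0
        rw [Φ.inv_mat]; simp
      simp only [Matrix.mulVec_sum, Matrix.mulVec_smul, Finset.sum_apply, Pi.smul_apply, e, smul_zero,
        Finset.sum_const_zero]
    have hcol : ∀ s t, B t s = (Φ.inv *ᵥ (mat g *ᵥ Φ.mat.col s)) t := fun s t => by
      rw [hB, Matrix.mulVec_mulVec]; rfl
    have hc0 : ∀ i, Φ.mat.col (.inl i) ∈ D 0 := fun i => by rw [Φ.span₀]; exact Submodule.subset_span ⟨i, rfl⟩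
    have hc1 : ∀ i, Φ.mat.col (.inr i) ∈ D 1 := fun i => by rw [Φ.span₁]; exact Submodule.subset_span ⟨i, rfl⟩
    have hm0 : ∀ i, mat g *ᵥ Φ.mat.col (.inl i) ∈ D (π 0) := fun i => map_le_iff.1 (hπ 0).le _ (hc0 i)
    have hm1 : ∀ i, mat g *ᵥ Φ.mat.col (.inr i) ∈ D (π 1) := fun i => map_le_iff.1 (hπ 1).le _ (hc1 i)
    have finish : ∀ a c : F, a * c = 1 → a * σ c = 1 → c = a := by
      intro a c hac haσ
      have hc0' : c ≠ 0 := right_ne_zero_of_mul_eq_one hac
      have hσc : σ c = c := mul_left_cancel₀ (left_ne_zero_of_mul_eq_one hac) (haσ.trans hac.symm)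
      rw [h.eq_pow] at hσc
      have hq1 := h.one_lt
      have hc2 : c * c = 1 := by
        rcases (show q = 2 ∨ q = 3 by omega) with rfl | rfl
        · have e : c = 1 := mul_left_cancel₀ hc0' (by linear_combination hσc)
          rw [e, one_mul]
        · exact mul_left_cancel₀ hc0' (by linear_combination hσc)
      exact mul_right_cancel₀ hc0' (hc2.trans hac.symm)
    obtain ⟨a, hμ⟩ : ∃ a : F, Bᵀ * Ω * B = a • Ω := by
      rcases (show π 0 = 0 ∨ π 0 = 1 by omega) with e0 | e0
      · have e1 : π 1 = 1 := by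
          rcases (show π 1 = 0 ∨ π 1 = 1 by omega) with e1 | e1
          · exact absurd (π.injective (e1.trans e0.symm)) (by decide)
          · exact e1
        obtain ⟨A, C, hAC⟩ : ∃ A C, B = Matrix.fromBlocks A 0 0 C :=
          ⟨B.toBlocks₁₁, B.toBlocks₂₂, by
            conv_lhs => rw [← Matrix.fromBlocks_toBlocks B]
            congr 1
            · ext i j; exact (hcol _ _).trans (h1 _ (e1 ▸ hm1 j) i)
            · ext i j; exact (hcol _ _).trans (h0 _ (e0 ▸ hm0 j) i)⟩
        have hd' : A.det * C.det = 1 := by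
          rw [← hdetB, hAC, Matrix.det_fromBlocks_zero₂₁]
        have hg' : Aᵀ * C.map σ = 1 := by
          have := hgram
          rw [hAC, hK, pairGram] at this
          simp [Matrix.fromBlocks_transpose, Matrix.fromBlocks_map, Matrix.fromBlocks_multiply] at this
          exact this.1
        have hσ' : A.det * σ C.det = 1 := by
          have := congrArg Matrix.det hg'
          rw [Matrix.det_mul, Matrix.det_transpose, Matrix.det_one] at this
          rw [RingEquiv.map_det]
          exact this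
        refine ⟨A.det, ?_⟩
        rw [hAC, hΩ, Matrix.fromBlocks_smul, Matrix.fromBlocks_transpose, Matrix.fromBlocks_multiply,
          Matrix.fromBlocks_multiply]
        simp only [Matrix.transpose_zero, Matrix.mul_zero, Matrix.zero_mul, add_zero, zero_add, smul_zero]
        rw [hE, det_congr_two, det_congr_two, finish _ _ hd' hσ']
      · have e1 : π 1 = 0 := by
          rcases (show π 1 = 0 ∨ π 1 = 1 by omega) with e1 | e1
          · exact e1
          · exact absurd (π.injective (e1.trans e0.symm)) (by decide)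
        obtain ⟨A, C, hAC⟩ : ∃ A C, B = Matrix.fromBlocks 0 A C 0 :=
          ⟨B.toBlocks₁₂, B.toBlocks₂₁, by
            conv_lhs => rw [← Matrix.fromBlocks_toBlocks B]
            congr 1
            · ext i j; exact (hcol _ _).trans (h1 _ (e0 ▸ hm0 j) i)
            · ext i j; exact (hcol _ _).trans (h0 _ (e1 ▸ hm1 j) i)⟩
        have hswap : (Matrix.fromBlocks 0 1 1 0 : Matrix (Fin 2 ⊕ Fin 2) (Fin 2 ⊕ Fin 2) F).det = 1 := by
          have e : (Matrix.fromBlocks 0 1 1 0 : Matrix (Fin 2 ⊕ Fin 2) (Fin 2 ⊕ Fin 2) F) =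
              Matrix.fromBlocks 1 1 0 1 * Matrix.fromBlocks 1 0 (-1) 1 * Matrix.fromBlocks 1 1 0 1 *
                Matrix.fromBlocks (-1) 0 0 1 := by
            simp [Matrix.fromBlocks_multiply]
          rw [e, Matrix.det_mul, Matrix.det_mul, Matrix.det_mul, Matrix.det_fromBlocks_zero₂₁,
            Matrix.det_fromBlocks_zero₁₂, Matrix.det_fromBlocks_zero₂₁, Matrix.det_neg, Fintype.card_fin]
          simp
        have hd' : A.det * C.det = 1 := by
          rw [← hdetB, hAC, show Matrix.fromBlocks 0 A C 0 =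
              Matrix.fromBlocks A 0 0 C * Matrix.fromBlocks 0 1 1 0 by simp [Matrix.fromBlocks_multiply],
            Matrix.det_mul, Matrix.det_fromBlocks_zero₂₁, hswap, mul_one]
        have hg' : Aᵀ * C.map σ = 1 := by
          have := hgram
          rw [hAC, hK, pairGram] at this
          simp [Matrix.fromBlocks_transpose, Matrix.fromBlocks_map, Matrix.fromBlocks_multiply] at this
          exact this.2
        have hσ' : A.det * σ C.det = 1 := by
          have := congrArg Matrix.det hg'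
          rw [Matrix.det_mul, Matrix.det_transpose, Matrix.det_one] at this
          rw [RingEquiv.map_det]
          exact this
        refine ⟨A.det, ?_⟩
        rw [hAC, hΩ, Matrix.fromBlocks_smul, Matrix.fromBlocks_transpose, Matrix.fromBlocks_multiply,
          Matrix.fromBlocks_multiply]
        simp only [Matrix.transpose_zero, Matrix.mul_zero, Matrix.zero_mul, add_zero, zero_add, smul_zero]
        rw [hE, det_congr_two, det_congr_two, finish _ _ hd' hσ']
    have ha : a ≠ 0 := by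
      rintro rfl
      have := congrArg Matrix.det hμ
      rw [Matrix.det_mul, Matrix.det_mul, Matrix.det_transpose, hdetB, one_mul, mul_one, zero_smul,
        Matrix.det_zero] at this
      exact ((Matrix.isUnit_iff_isUnit_det _).1 hΩu).ne_zero this
    refine ⟨Units.mk0 a ha, fun u v => ?_⟩
    show formOf _ Ω (Φ.inv *ᵥ (mat g *ᵥ u)) (Φ.inv *ᵥ (mat g *ᵥ v)) = a * formOf _ Ω _ _
    rw [hgB, hgB, formOf_mulVec, show B.map (RingEquiv.refl F) = B from Matrix.ext fun _ _ => rfl, hμ]
    simp only [formOf, Matrix.smul_mulVec, dotProduct_smul, smul_eq_mul]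
  · show formOf _ Ω (Φ.inv *ᵥ u) (Φ.inv *ᵥ v) = Cfsg.hermForm 4 F q u (J v)
    conv_rhs => rw [← hinv u]
    rw [hherm]
    show _ = _ ⬝ᵥ (K *ᵥ fun s => σ (((K * Ω) *ᵥ fun r => σ ((Φ.inv *ᵥ v) r)) s))
    rw [show (fun s => σ (((K * Ω) *ᵥ fun r => σ ((Φ.inv *ᵥ v) r)) s)) = (K * Ω).map σ *ᵥ (Φ.inv *ᵥ v) from
      funext fun s => by simp [Matrix.mulVec, dotProduct, map_sum, h.involutive], hKΩσ, Matrix.mulVec_mulVec,
      ← Matrix.mul_assoc, hKK, Matrix.one_mul]
    rfl
  · simp only [J, Matrix.mulVec_add, Pi.add_apply, map_add]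
    rw [← Matrix.mulVec_add, ← Matrix.mulVec_add]
    rfl
  · simp only [J, Matrix.mulVec_smul, Pi.smul_apply, smul_eq_mul, map_mul]
    rw [← Matrix.mulVec_smul, ← Matrix.mulVec_smul]
    rfl
  · simp only [J, hinv']
    rw [show (fun s => σ (((K * Ω) *ᵥ fun r => σ ((Φ.inv *ᵥ v) r)) s)) = (K * Ω).map σ *ᵥ (Φ.inv *ᵥ v) from
      funext fun s => by simp [Matrix.mulVec, dotProduct, map_sum, h.involutive], hKΩσ,
      Matrix.mulVec_mulVec (Φ.inv *ᵥ v), hKΩ]
    simp [Matrix.neg_mulVec, Matrix.mulVec_neg, hinv]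

end CfsgLib.AschbacherUnitary
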