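import Cfsg.Agent.AschbacherUnitary.Proper
import Cfsg.Agent.Aschbacher.SymplecticType
import Cfsg.Agent.Aschbacher.Reduce

/-!
Over nine elements the monomial unitary group in dimension four normalises a group of symplectic type
which is the socle of its normaliser.
-/

set_option autoImplicit false
set_option linter.unusedSectionVars false
set_option maxHeartbeats 1000000

namespace CfsgLib.AschbacherUnitary.FourThree

open Matrix CfsgLib.Aschbacher CfsgLib.AschbacherUnitary
open scoped commutatorElement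
attribute [-simp] RingEquiv.coe_refl

/-- Addition of labels. -/
def add (i v : Fin 4) : Fin 4 := ![![0, 1, 2, 3], ![1, 0, 3, 2], ![2, 3, 0, 1], ![3, 2, 1, 0]] i v

/-- The characters. -/
def sgn (s i : Fin 4) : ℤ := ![![1, 1, 1, 1], ![1, -1, 1, -1], ![1, 1, -1, -1], ![1, -1, -1, 1]] s i

/-- The translation by a label. -/
def xp (v : Fin 4) : Equiv.Perm (Fin 4) :=
  ⟨fun i => add i v, fun i => add i v, by revert v; decide, by revert v; decide⟩

theorem xp_apply (v i : Fin 4) : xp v i = add i v := rfl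
theorem xp_zero : xp 0 = 1 := Equiv.ext (by decide)
theorem xp_trans (v w : Fin 4) : (xp v).trans (xp w) = xp (add v w) :=
  Equiv.ext fun i => by revert v w i; decide
theorem add_zero' (v : Fin 4) : add v 0 = v := by revert v; decide
theorem zero_add' (v : Fin 4) : add 0 v = v := by revert v; decide
theorem add_self (v : Fin 4) : add v v = 0 := by revert v; decide
theorem add_comm' (v w : Fin 4) : add v w = add w v := by revert v w; decide
theorem sgn_zero (i : Fin 4) : sgn 0 i = 1 := by revert i; decide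
theorem sgn_sq (s i : Fin 4) : sgn s i * sgn s i = 1 := by revert s i; decide
theorem sgn_right (s i v : Fin 4) : sgn s (add i v) = sgn s i * sgn s v := by revert s i v; decide
theorem add_flip (v j k : Fin 4) : (j = add k v) = (k = add j v) := by
  refine propext ?_; revert j k v; decide
theorem sgn_three (t : Fin 4) : sgn t 3 = sgn t 1 * sgn t 2 := by revert t; decide
theorem sgn_origin (t : Fin 4) : sgn t 0 = 1 := by revert t; decide
theorem sgn_left (s t i : Fin 4) : sgn (add s t) i = sgn s i * sgn t i := by revert s t i; decide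

/-- The first witness. -/
def hadOne : Matrix (Fin 4) (Fin 4) ℤ := !![1, 1, 0, 0; 1, -1, 0, 0; 0, 0, 1, 1; 0, 0, 1, -1]

/-- The second witness. -/
def hadTwo : Matrix (Fin 4) (Fin 4) ℤ := !![1, 0, 1, 0; 0, 1, 0, 1; 1, 0, -1, 0; 0, 1, 0, -1]

/-- Exchanging the first bits. -/
def swapOne (v s : Fin 4) : Fin 4 × Fin 4 :=
  (add (![0, 0, 2, 2] v) (![0, 1, 0, 1] s), add (![0, 0, 2, 2] s) (![0, 1, 0, 1] v))

/-- Exchanging the second bits. -/
def swapTwo (v s : Fin 4) : Fin 4 × Fin 4 :=
  (add (![0, 1, 0, 1] v) (![0, 0, 2, 2] s), add (![0, 1, 0, 1] s) (![0, 0, 2, 2] v))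

theorem hadOne_table : ∀ v s : Fin 4, ∃ e : Bool, ∀ i j : Fin 4,
    hadOne i (add j v) * sgn s (add j v) =
      cond e 1 (-1) * sgn (swapOne v s).2 i * hadOne (add i (swapOne v s).1) j := by decide

theorem hadTwo_table : ∀ v s : Fin 4, ∃ e : Bool, ∀ i j : Fin 4,
    hadTwo i (add j v) * sgn s (add j v) =
      cond e 1 (-1) * sgn (swapTwo v s).2 i * hadTwo (add i (swapTwo v s).1) j := by decide

theorem perm_table (π : Equiv.Perm (Fin 4)) (v : Fin 4) : ∃ w : Fin 4, ∀ i, add (π i) v = π (add i w) := by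
  revert π v; decide

theorem char_table (π : Equiv.Perm (Fin 4)) (s : Fin 4) :
    ∃ t : Fin 4, ∀ i, sgn s (π i) = sgn s (π 0) * sgn t i := by
  revert π s; decide

theorem witness_table : ∀ v s : Fin 4, (v, s) ≠ (0, 0) →
    (∃ t : Fin 4, (t = 1 ∨ t = 2) ∧ sgn (add s (if sgn t v = -1 then t else 0)) v * sgn s v = -1) ∨
    sgn (swapOne v s).2 v * sgn s (swapOne v s).1 = -1 ∨
    sgn (swapTwo v s).2 v * sgn s (swapTwo v s).1 = -1 := by decide

variable {F : Type*} [Field F]

/-- An element of the group. -/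
def el (v s : Fin 4) (c : F) : Matrix (Fin 4) (Fin 4) F := monomialMat (xp v) fun i => c * (sgn s i : F)

theorem el_apply (v s : Fin 4) (c : F) (i j : Fin 4) :
    el v s c i j = if j = add i v then c * (sgn s i : F) else 0 := rfl

theorem el_mul (v s w t : Fin 4) (c d : F) :
    el v s c * el w t d = el (add v w) (add s t) (c * d * (sgn t v : F)) := by
  rw [el, el, el, monomialMat_mul, xp_trans]
  congr 1
  funext i
  rw [xp_apply, sgn_right, sgn_left]
  push_cast
  ring

theorem el_one : el 0 0 (1 : F) = 1 := by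
  rw [el, xp_zero, show (fun i => (1 : F) * (sgn 0 i : F)) = fun _ => 1 from funext fun i => by
    rw [sgn_zero]; simp]
  exact monomialMat_one

theorem el_smul (v s : Fin 4) (a c : F) : a • el v s c = el v s (a * c) := by
  ext i j
  simp only [Matrix.smul_apply, el_apply, smul_eq_mul]
  split_ifs <;> ring

theorem el_pow_four (c : F) (hc : c ^ 4 = 1) (s v : Fin 4) : (c * (sgn s v : F)) ^ 4 = 1 := by
  have h : (sgn s v : F) * (sgn s v : F) = 1 := by exact_mod_cast congrArg (Int.cast : ℤ → F) (sgn_sq s v)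
  linear_combination ((sgn s v : F) * sgn s v + 1) * c ^ 4 * h + hc

variable (F) in
/-- The group of symplectic type. -/
def base : Subgroup (GL (Fin 4) F) where
  carrier := {x | ∃ (v s : Fin 4) (c : F), c ^ 4 = 1 ∧ mat x = el v s c}
  one_mem' := ⟨0, 0, 1, one_pow 4, by rw [el_one]; exact Units.val_one⟩
  mul_mem' := by
    rintro x y ⟨v, s, c, hc, hx⟩ ⟨w, t, d, hd, hy⟩
    exact ⟨add v w, add s t, c * d * (sgn t v : F), el_pow_four _ (by rw [mul_pow, hc, hd, one_mul]) t v,
      by rw [show mat (x * y) = mat x * mat y from Units.val_mul _ _, hx, hy, el_mul]⟩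
  inv_mem' := by
    rintro x ⟨v, s, c, hc, hx⟩
    refine ⟨v, s, c ^ 3 * (sgn s v : F), el_pow_four _ (by rw [← pow_mul, pow_mul', hc, one_pow]) s v, ?_⟩
    have h1 : mat x * el v s (c ^ 3 * (sgn s v : F)) = 1 := by
      rw [hx, el_mul, add_self, add_self, ← el_one]
      congr 1
      have h : (sgn s v : F) * (sgn s v : F) = 1 := by exact_mod_cast congrArg (Int.cast : ℤ → F) (sgn_sq s v)
      linear_combination (sgn s v : F) * (sgn s v : F) * hc + h
    calc mat x⁻¹ = mat x⁻¹ * (mat x * el v s (c ^ 3 * (sgn s v : F))) := by rw [h1, mul_one]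
      _ = _ := by rw [← mul_assoc, mat_inv_mul, one_mul]

theorem exists_el (v s : Fin 4) {c : F} (hc : c ^ 4 = 1) : ∃ x ∈ base F, mat x = el v s c := by
  have h : (sgn s v : F) * (sgn s v : F) = 1 := by exact_mod_cast congrArg (Int.cast : ℤ → F) (sgn_sq s v)
  have h1 : el v s c * el v s (c ^ 3 * (sgn s v : F)) = 1 := by
    rw [el_mul, add_self, add_self, ← el_one]
    congr 1
    linear_combination (sgn s v : F) * (sgn s v : F) * hc + h
  exact ⟨⟨el v s c, el v s (c ^ 3 * (sgn s v : F)), h1, mul_eq_one_comm.1 h1⟩, ⟨v, s, c, hc, rfl⟩, rfl⟩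

theorem el_comm (v s w t : Fin 4) (c d : F) :
    el v s c * el w t d = ((sgn t v * sgn s w : ℤ) : F) • (el w t d * el v s c) := by
  rw [el_mul, el_mul, el_smul, add_comm' w v, add_comm' t s]
  congr 1
  have h : (sgn s w : F) * (sgn s w : F) = 1 := by exact_mod_cast congrArg (Int.cast : ℤ → F) (sgn_sq s w)
  push_cast
  linear_combination -(c * d * (sgn t v : F)) * h

theorem el_scalar (c : F) : el 0 0 c = c • (1 : Matrix (Fin 4) (Fin 4) F) := by
  rw [← el_one, el_smul, mul_one]

theorem base_mem_scalars {x : GL (Fin 4) F} {c : F} (h : mat x = el 0 0 c) :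
    x ∈ Cfsg.Geo.scalars (Fin 4) F := by
  have hc : c ≠ 0 := by
    rintro rfl
    rw [el_scalar, zero_smul] at h
    exact x.ne_zero h
  exact (Cfsg.Geo.mem_scalars_iff x).2 ⟨Units.mk0 c hc, by rw [Units.val_mk0, ← el_scalar]; exact h⟩

theorem base_comm : ⁅base F, base F⁆ ≤ Cfsg.Geo.scalars (Fin 4) F := by
  rw [Subgroup.commutator_le]
  rintro x ⟨v, s, c, -, hx⟩ y ⟨w, t, d, -, hy⟩
  refine base_mem_scalars (c := ((sgn t v * sgn s w : ℤ) : F)) ?_
  rw [el_scalar, commutatorElement_def]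
  calc mat (x * y * x⁻¹ * y⁻¹) = mat x * mat y * mat x⁻¹ * mat y⁻¹ := by simp only [mat, Units.val_mul]
    _ = ((sgn t v * sgn s w : ℤ) : F) • (mat y * mat x) * mat x⁻¹ * mat y⁻¹ := by rw [hx, hy, ← el_comm]
    _ = _ := by rw [Matrix.smul_mul, Matrix.smul_mul, mul_assoc (mat y), mat_mul_inv, mul_one, mat_mul_inv]

theorem base_sq {x : GL (Fin 4) F} (hx : x ∈ base F) : x ^ 2 ∈ Cfsg.Geo.scalars (Fin 4) F := by
  obtain ⟨v, s, c, -, hx⟩ := hx
  refine base_mem_scalars (c := c * c * (sgn s v : F)) ?_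
  rw [sq, show mat (x * x) = mat x * mat x from Units.val_mul _ _, hx, el_mul, add_self, add_self]

theorem base_absIrred (h2 : (2 : F) ≠ 0) :
    Cfsg.Geo.ActsAbsolutelyIrreducibly (Cfsg.Geo.matrixSet (base F)) := by
  have h4 : (4 : F) ≠ 0 := by rw [show (4 : F) = 2 * 2 by norm_num]; exact mul_ne_zero h2 h2
  have hsum : ∀ i j : Fin 4, ∑ s, sgn s i * sgn s j = if i = j then 4 else 0 := by decide
  have hmul : ∀ (v s : Fin 4) (c : F) (x : Fin 4 → F) i, (el v s c *ᵥ x) i = c * (sgn s i : F) * x (add i v) := by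
    intro v s c x i
    simp [Matrix.mulVec, dotProduct, el_apply]
  refine ⟨actsIrreducibly_iff.2 fun W hW => ?_, fun M hM => ?_⟩
  · by_contra hne
    rw [not_or] at hne
    obtain ⟨w, hw, hw0⟩ := Submodule.exists_mem_ne_zero_of_ne_bot hne.1
    obtain ⟨i, hi⟩ := Function.ne_iff.1 hw0
    have hmemW : ∀ v s : Fin 4, el v s (1 : F) *ᵥ w ∈ W := fun v s => by
      obtain ⟨x, hx, hxe⟩ := exists_el v s (one_pow 4 : (1 : F) ^ 4 = 1)
      exact hxe ▸ mem_subspaceStabilizer_iff.1 (hW hx) w hw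
    refine hne.2 (eq_top_iff.2 fun x _ => ?_)
    rw [pi_eq_sum_univ' x]
    refine Submodule.sum_mem _ fun j _ => W.smul_mem _ ?_
    have h1 : (4 * w i) • (Pi.single j (1 : F) : Fin 4 → F) =
        ∑ s, (sgn s j : F) • (el (add i j) s (1 : F) *ᵥ w) := by
      funext k
      simp only [Finset.sum_apply, Pi.smul_apply, smul_eq_mul, hmul, one_mul, ← mul_assoc, ← Finset.sum_mul]
      have e : (∑ s, (sgn s j : F) * (sgn s k : F)) = ((∑ s, sgn s j * sgn s k : ℤ) : F) := by push_cast; rfl
      rw [e, hsum]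
      rcases eq_or_ne j k with rfl | hjk
      · have : ∀ i j : Fin 4, add j (add i j) = i := by decide
        simp [this]
      · simp [hjk, Ne.symm hjk]
    have h2' := W.sum_mem (t := Finset.univ) fun s _ => W.smul_mem (sgn s j : F) (hmemW (add i j) s)
    rw [← h1] at h2'
    exact (W.smul_mem_iff (mul_ne_zero h4 hi)).1 h2'
  · have hc : ∀ v s : Fin 4, ∀ i j, M i (add j v) * (sgn s (add j v) : F) = (sgn s i : F) * M (add i v) j := by
      intro v s i j
      obtain ⟨x, hx, hxe⟩ := exists_el v s (one_pow 4 : (1 : F) ^ 4 = 1)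
      have e := congrFun (congrFun (hM _ (mem_matrixSet hx)) i) j
      rw [hxe] at e
      have key : ∀ k, (j = add k v) = (k = add j v) := fun k => add_flip v j k
      simpa [Matrix.mul_apply, el_apply, key] using e
    have hoff : ∀ i j, i ≠ j → M i j = 0 := by
      intro i j hij
      obtain ⟨s, hs⟩ : ∃ s, sgn s i * sgn s j = -1 := by revert i j; decide
      have e := hc 0 s i j
      rw [add_zero', add_zero'] at e
      have h1 : ((sgn s i : F) * (sgn s j : F)) = -1 := by exact_mod_cast congrArg (Int.cast : ℤ → F) hs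
      have h3 : (sgn s i : F) * (sgn s i : F) = 1 := by exact_mod_cast congrArg (Int.cast : ℤ → F) (sgn_sq s i)
      have h5 : (2 : F) * M i j = 0 := by linear_combination -(sgn s i : F) * e + M i j * h1 - M i j * h3
      exact (mul_eq_zero.1 h5).resolve_left h2
    refine ⟨M 0 0, Matrix.ext fun i j => ?_⟩
    rcases eq_or_ne i j with rfl | hij
    · have e := hc i 0 0 i
      rw [add_self, zero_add', sgn_zero] at e
      simpa using e.symm
    · simp [hoff i j hij, hij]

/-- A matrix carrying every element into the group normalises it. -/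
theorem mem_normalizer_of [Finite F] {g : GL (Fin 4) F}
    (h : ∀ v s : Fin 4, ∃ (w t : Fin 4) (e : F), e ^ 4 = 1 ∧ mat g * el v s 1 = el w t e * mat g) :
    g ∈ Cfsg.Geo.subgroupNormalizer (base F) := by
  refine mem_subgroupNormalizer_of fun x hx => ?_
  obtain ⟨v, s, c, hc, hx⟩ := hx
  obtain ⟨w, t, e, he, hge⟩ := h v s
  refine ⟨w, t, c * e, by rw [mul_pow, hc, he, one_mul], ?_⟩
  rw [show mat (g * x * g⁻¹) = mat g * mat x * mat g⁻¹ by simp [mat], hx, ← mul_one c, ← el_smul,
    Matrix.mul_smul, hge, Matrix.smul_mul, mul_assoc, mat_mul_inv, mul_one, el_smul, mul_one]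

theorem exists_shift (d : Fin 4 → F) (hd : ∀ i, d i ^ 4 = 1) (hP : (d 0 * d 1 * d 2 * d 3) ^ 2 = 1)
    (v : Fin 4) : ∃ (e : F) (t : Fin 4), e ^ 4 = 1 ∧ ∀ i, d i = e * (sgn t i : F) * d (add i v) := by
  set e := d 0 * d v ^ 3 with he
  have he4 : e ^ 4 = 1 := by rw [he, mul_pow, ← pow_mul, pow_mul', hd, hd, one_pow, one_mul]
  let u : Fin 4 → F := fun i => d i * d (add i v) ^ 3 * e ^ 3
  have hu : ∀ i, d i = e * u i * d (add i v) := fun i => by
    simp only [u]
    linear_combination -(d i * e ^ 4) * hd (add i v) - d i * he4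
  have hss : ∀ k, d k ^ 2 * d k ^ 2 = 1 := fun k => by rw [← pow_add]; exact hd k
  have hsq : ∀ i, u i * u i = d i ^ 2 * d (add i v) ^ 2 * d 0 ^ 2 * d v ^ 2 := fun i => by
    calc u i * u i = d i ^ 2 * (d (add i v) ^ 4 * d (add i v) ^ 2) * ((d 0 ^ 4 * d 0 ^ 2) *
          ((d v ^ 4) ^ 4 * d v ^ 2)) := by simp only [u, he]; ring
      _ = _ := by rw [hd, hd, hd]; ring
  have hu1 : ∀ i, u i = 1 ∨ u i = -1 := fun i => by
    refine mul_self_eq_one_iff.1 ?_
    rw [hsq]
    have h0 := hss 0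
    have h1 := hss 1
    have h2 := hss 2
    have h3 := hss 3
    fin_cases v <;> fin_cases i <;> simp [add] <;>
      first
      | linear_combination hP
      | linear_combination (d 0 ^ 2 * d 0 ^ 2) * h0 + h0
      | linear_combination (d 1 ^ 2 * d 1 ^ 2) * h0 + h1
      | linear_combination (d 2 ^ 2 * d 2 ^ 2) * h0 + h2
      | linear_combination (d 3 ^ 2 * d 3 ^ 2) * h0 + h3
  have hu0 : u 0 = 1 := by
    simp only [u, zero_add', ← he]
    linear_combination he4
  have hprod : u 3 = u 1 * u 2 := by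
    have h1 : (u 1 * u 2) * (u 1 * u 2) = 1 := by
      rcases hu1 1 with h | h <;> rcases hu1 2 with h' | h' <;> rw [h, h'] <;> ring
    have h2 : u 0 * u 1 * u 2 * u 3 = 1 := by
      calc u 0 * u 1 * u 2 * u 3 = (d 0 * d 1 * d 2 * d 3) *
            (d (add 0 v) * d (add 1 v) * d (add 2 v) * d (add 3 v)) ^ 3 * (e ^ 4) ^ 3 := by simp only [u]; ring
        _ = (d 0 * d 1 * d 2 * d 3) ^ 4 := by
            rw [he4]
            fin_cases v <;> simp [add] <;> ring
        _ = 1 := by rw [pow_mul _ 2 2, hP, one_pow]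
    rw [hu0] at h2
    linear_combination (u 1 * u 2) * h2 - (u 3) * h1
  obtain ⟨t, ht1, ht2⟩ : ∃ t : Fin 4, (sgn t 1 : F) = u 1 ∧ (sgn t 2 : F) = u 2 := by
    rcases hu1 1 with h | h <;> rcases hu1 2 with h' | h' <;> rw [h, h']
    · exact ⟨0, by simp [sgn], by simp [sgn]⟩
    · exact ⟨2, by simp [sgn], by simp [sgn]⟩
    · exact ⟨1, by simp [sgn], by simp [sgn]⟩
    · exact ⟨3, by simp [sgn], by simp [sgn]⟩
  refine ⟨e, t, he4, fun i => ?_⟩
  have hut : ∀ i, (sgn t i : F) = u i := fun i => by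
    have h12 : sgn t 3 = sgn t 1 * sgn t 2 := sgn_three t
    fin_cases i
    · show (sgn t 0 : F) = u 0
      rw [hu0, sgn_origin, Int.cast_one]
    · exact ht1
    · exact ht2
    · show (sgn t 3 : F) = u 3
      rw [hprod, h12, Int.cast_mul, ht1, ht2]
  rw [hut]
  exact hu i

/-- Monomial matrices with fourth roots of one and determinant of square one normalise the group. -/
theorem monomial_normalises [Finite F] {g : GL (Fin 4) F} {π : Equiv.Perm (Fin 4)} {d : Fin 4 → F}
    (hd : ∀ i, d i ^ 4 = 1) (hP : (d 0 * d 1 * d 2 * d 3) ^ 2 = 1) (hg : mat g = monomialMat π d) :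
    g ∈ Cfsg.Geo.subgroupNormalizer (base F) := by
  refine mem_normalizer_of fun v s => ?_
  obtain ⟨w, hw⟩ := perm_table π v
  obtain ⟨t₀, ht₀⟩ := char_table π s
  obtain ⟨e, t, he, hdt⟩ := exists_shift d hd hP w
  refine ⟨w, add t t₀, e * (sgn s (π 0) : F), el_pow_four _ he _ _, ?_⟩
  rw [hg, el, el, monomialMat_mul, monomialMat_mul]
  have hperm : π.trans (xp v) = (xp w).trans π := Equiv.ext fun i => hw i
  rw [hperm]
  congr 1
  funext i
  rw [xp_apply, ht₀ i, sgn_left]
  nth_rewrite 1 [hdt i]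
  push_cast
  ring

/-- A scaled integral witness normalises the group. -/
theorem witness_normalises {g : GL (Fin 4) F} {M : Matrix (Fin 4) (Fin 4) ℤ} {l : F}
    (hg : mat g = l • M.map (Int.cast : ℤ → F)) {f : Fin 4 → Fin 4 → Fin 4 × Fin 4}
    (hM : ∀ v s : Fin 4, ∃ e : Bool, ∀ i j : Fin 4, M i (add j v) * sgn s (add j v) =
      cond e 1 (-1) * sgn (f v s).2 i * M (add i (f v s).1) j) (v s : Fin 4) :
    ∃ e : F, e ^ 4 = 1 ∧ mat g * el v s 1 = el (f v s).1 (f v s).2 e * mat g := by
  obtain ⟨e, he⟩ := hM v s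
  refine ⟨((cond e 1 (-1) : ℤ) : F), by cases e <;> norm_num, ?_⟩
  ext i j
  have key : ∀ k, (j = add k v) = (k = add j v) := fun k => add_flip v j k
  have h1 : ((M i (add j v) : ℤ) : F) * (sgn s (add j v) : F) =
      ((cond e 1 (-1) : ℤ) : F) * (sgn (f v s).2 i : F) * ((M (add i (f v s).1) j : ℤ) : F) := by
    exact_mod_cast congrArg (Int.cast : ℤ → F) (he i j)
  simp only [hg, Matrix.mul_apply, el_apply, key, Matrix.smul_apply, Matrix.map_apply, smul_eq_mul, mul_ite,
    ite_mul, mul_zero, zero_mul, Finset.sum_ite_eq', Finset.mem_univ, if_true, one_mul]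
  linear_combination l * h1

variable [Fintype F] {σ : F ≃+* F}

/-- The normaliser in the unitary group has an abelian socle. -/
theorem socle (hF : Fintype.card F = 3 ^ 2) (h : IsConj 3 σ) :
    HasAbelianSocle (Cfsg.Geo.subgroupNormalizer (base F) ⊓ Cfsg.GU 4 F 3) ∧
      base F ≤ Cfsg.Geo.subgroupNormalizer (base F) ⊓ Cfsg.GU 4 F 3 := by
  classical
  have h3 : (3 : F) = 0 := by
    have hc := FiniteField.cast_card_eq_zero F
    rw [hF] at hc
    push_cast at hc
    have h9 : (3 : F) ^ 2 = 0 := by linear_combination hc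
    exact sq_eq_zero_iff.1 h9
  have h2 : (2 : F) ≠ 0 := fun h2 => one_ne_zero (by linear_combination h3 - h2 : (1 : F) = 0)
  have hm1 : (-1 : F) ≠ 1 := fun e => h2 (by linear_combination -e)
  obtain ⟨a, haN, haord⟩ := exists_normOne hF h
  have ha4 : (a : F) ^ 4 = 1 := by
    rw [← Units.val_pow_eq_pow_val, show a ^ 4 = 1 by rw [show (4 : ℕ) = orderOf a by rw [haord]]; exact pow_orderOf_eq_one a, Units.val_one]
  have ha2 : (a : F) ^ 2 = -1 := by
    have h1 : ((a : F) ^ 2) * (a : F) ^ 2 = 1 := by rw [← pow_add]; exact ha4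
    refine (mul_self_eq_one_iff.1 h1).resolve_left fun e => ?_
    exact normOne_sq_ne_one h.one_lt haord (by rw [← sq]; exact e)
  have hroot : ∀ x : F, x ^ 4 = 1 → x * σ x = 1 := fun x hx => by rw [h.eq_pow, ← pow_succ']; exact hx
  have hsgn : ∀ s i : Fin 4, σ ((sgn s i : ℤ) : F) = ((sgn s i : ℤ) : F) := fun s i => map_intCast σ _
  have hbaseGU : base F ≤ Cfsg.GU 4 F 3 := by
    rintro x ⟨v, s, c, hc, hx⟩
    refine MaxSub.mem_GU_iff_forall.2 fun u w => ?_
    show Cfsg.hermForm 4 F 3 (mat x *ᵥ u) (mat x *ᵥ w) = _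
    rw [hx, h.herm_eq, h.herm_eq]
    refine Eq.trans (Finset.sum_congr rfl fun i _ => ?_) (Equiv.sum_comp (xp v) fun i => u i * σ (w i))
    have hm : ∀ x : Fin 4 → F, (el v s c *ᵥ x) i = c * (sgn s i : F) * x (add i v) := fun x => by
      simp [Matrix.mulVec, dotProduct, el_apply]
    rw [hm, hm, map_mul, map_mul, hsgn, xp_apply]
    have h5 : (sgn s i : F) * (sgn s i : F) = 1 := by exact_mod_cast congrArg (Int.cast : ℤ → F) (sgn_sq s i)
    linear_combination (u (add i v) * σ (w (add i v))) * ((sgn s i : F) * (sgn s i : F) * hroot c hc + h5)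
  have hle : base F ≤ Cfsg.Geo.subgroupNormalizer (base F) ⊓ Cfsg.GU 4 F 3 :=
    le_inf Subgroup.le_normalizer hbaseGU
  refine ⟨⟨base F, 2, 2, Nat.prime_two, rfl, hle, fun g hg x hx =>
    ((Subgroup.mem_set_normalizer_iff.1 hg.1) x).1 hx, base_absIrred h2, base_comm,
    fun x hx => base_sq hx, ?_⟩, hle⟩
  intro M hM hMn hMc x hx
  obtain ⟨v, s, c, hc, hxe⟩ := hM hx
  by_cases h0 : (v, s) = (0, 0)
  · obtain ⟨rfl, rfl⟩ := Prod.mk.inj h0
    exact base_mem_scalars hxe
  exfalso
  have hc0 : c ≠ 0 := fun e => by rw [e, zero_pow (by norm_num)] at hc; exact zero_ne_one hc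
  -- an element of the normaliser with a non-commuting conjugate gives a contradiction
  have key : ∀ (g : GL (Fin 4) F) (w t : Fin 4) (e : F), g ∈ Cfsg.Geo.subgroupNormalizer (base F) →
      g ∈ Cfsg.GU 4 F 3 → e ^ 4 = 1 → mat g * el v s 1 = el w t e * mat g → sgn t v * sgn s w = -1 → False := by
    intro g w t e hgN hgU he hge hω
    have h1 := congrArg mat (hMc x hx _ (hMn g ⟨hgN, hgU⟩ x hx))
    have hy : mat (g * x * g⁻¹) = el w t (c * e) := by
      rw [show mat (g * x * g⁻¹) = mat g * mat x * mat g⁻¹ by simp [mat], hxe, ← mul_one c, ← el_smul,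
        Matrix.mul_smul, hge, Matrix.smul_mul, mul_assoc, mat_mul_inv, mul_one, el_smul, mul_one]
    rw [show mat (x * (g * x * g⁻¹)) = mat x * mat (g * x * g⁻¹) from Units.val_mul _ _,
      show mat (g * x * g⁻¹ * x) = mat (g * x * g⁻¹) * mat x from Units.val_mul _ _, hy, hxe, el_comm, hω] at h1
    have h5 : ((-1 : F) - 1) • (el w t (c * e) * el v s c) = 0 := by
      rw [sub_smul, one_smul, sub_eq_zero]
      simpa using h1
    rcases smul_eq_zero.1 h5 with h6 | h6
    · exact hm1 (sub_eq_zero.1 h6)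
    · rw [el_mul] at h6
      have := congrFun (congrFun h6 0) (add 0 (add w v))
      simp only [el_apply, if_true, Matrix.zero_apply] at this
      have he0 : e ≠ 0 := fun e0 => by rw [e0, zero_pow (by norm_num)] at he; exact zero_ne_one he
      refine mul_ne_zero (mul_ne_zero (mul_ne_zero (mul_ne_zero hc0 he0) hc0) ?_) ?_ this
      · have h7 : (sgn s w : F) * (sgn s w : F) = 1 := by exact_mod_cast congrArg (Int.cast : ℤ → F) (sgn_sq s w)
        exact left_ne_zero_of_mul (h7 ▸ one_ne_zero)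
      · have h7 : (sgn (add t s) 0 : F) * (sgn (add t s) 0 : F) = 1 := by
          exact_mod_cast congrArg (Int.cast : ℤ → F) (sgn_sq (add t s) 0)
        exact left_ne_zero_of_mul (h7 ▸ one_ne_zero)
  rcases witness_table v s h0 with ⟨t, ht, hω⟩ | hω | hω
  · -- phases
    let d : Fin 4 → F := fun i => if sgn t i = 1 then 1 else a
    have hd4 : ∀ i, d i ^ 4 = 1 := fun i => by simp only [d]; split_ifs <;> [exact one_pow 4; exact ha4]
    have hd0 : ∀ i, d i ≠ 0 := fun i e => by have := hd4 i; rw [e, zero_pow (by norm_num)] at this; exact zero_ne_one this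
    let g : GL (Fin 4) F := diagGL fun i => Units.mk0 (d i) (hd0 i)
    have hgm : mat g = monomialMat 1 d := by rw [mat_diagGL, diagonal_eq_monomialMat]; rfl
    have hgN : g ∈ Cfsg.Geo.subgroupNormalizer (base F) := by
      refine monomial_normalises hd4 ?_ hgm
      have hP : d 0 * d 1 * d 2 * d 3 = -1 := by
        rcases ht with rfl | rfl <;> simp [d, sgn] <;> linear_combination ha2
      rw [hP]
      ring
    have hgU : g ∈ Cfsg.GU 4 F 3 := by
      refine h.mem_GU_iff.2 ?_
      rw [mat_diagGL, Matrix.diagonal_transpose, Matrix.diagonal_map (map_zero σ),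
        Matrix.diagonal_mul_diagonal, ← Matrix.diagonal_one]
      congr
      funext i
      exact hroot _ (hd4 i)
    set t' := if sgn t v = -1 then t else 0
    obtain ⟨e, he4, he⟩ : ∃ e : F, e ^ 4 = 1 ∧ ∀ i, d i = e * (sgn t' i : F) * d (add i v) := by
      refine ⟨d 0 * d v ^ 3, by rw [mul_pow, ← pow_mul, pow_mul', hd4, hd4, one_pow, one_mul], fun i => ?_⟩
      rcases ht with rfl | rfl <;> fin_cases v <;> fin_cases i <;> simp [t', d, sgn, add] <;>
        first
        | linear_combination ha4 * (-1 : F)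
        | linear_combination ha4
        | linear_combination (a : F) * ha2
    refine key g v (add s t') e hgN hgU he4 ?_ hω
    rw [hgm, el, el, monomialMat_mul, monomialMat_mul]
    congr 1
    funext i
    rw [xp_apply, sgn_left, Equiv.Perm.one_apply]
    nth_rewrite 1 [he i]
    push_cast
    ring
  all_goals
    obtain ⟨l, hl⟩ := CfsgLib.MaxSub.norm_surjective h.ne_refl h.involutive (a := (-1 : F)) (by simp)
  · let W : Matrix (Fin 4) (Fin 4) F := l • hadOne.map (Int.cast : ℤ → F)
    have hu : Wᵀ * W.map σ = 1 := by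
      have e : hadOneᵀ * hadOne = Matrix.diagonal fun _ => (2 : ℤ) := by decide
      have e' := congrArg (fun X => X.map (Int.cast : ℤ → F)) e
      simp only [Matrix.map_mul_intCast, Matrix.transpose_map, Matrix.diagonal_map, Int.cast_zero] at e'
      rw [show W.map σ = σ l • hadOne.map (Int.cast : ℤ → F) from Matrix.ext fun i j => by simp [W],
        Matrix.transpose_smul, Matrix.smul_mul, Matrix.mul_smul, smul_smul, mul_comm, mul_comm (σ l), hl, e']
      ext i j
      rcases eq_or_ne i j with rfl | hij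
      · simp; linear_combination -h3
      · simp [hij]
    have hUW : IsUnit W := (Matrix.isUnit_transpose W).1 (IsUnit.of_mul_eq_one _ hu)
    obtain ⟨e, he4, he⟩ := witness_normalises (g := hUW.unit) (l := l) rfl hadOne_table v s
    refine key hUW.unit _ _ e (mem_normalizer_of fun v s => ?_) (h.mem_GU_iff.2 hu) he4 he hω
    obtain ⟨e, he4, he⟩ := witness_normalises (g := hUW.unit) (l := l) rfl hadOne_table v s
    exact ⟨_, _, e, he4, he⟩
  · let W : Matrix (Fin 4) (Fin 4) F := l • hadTwo.map (Int.cast : ℤ → F)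
    have hu : Wᵀ * W.map σ = 1 := by
      have e : hadTwoᵀ * hadTwo = Matrix.diagonal fun _ => (2 : ℤ) := by decide
      have e' := congrArg (fun X => X.map (Int.cast : ℤ → F)) e
      simp only [Matrix.map_mul_intCast, Matrix.transpose_map, Matrix.diagonal_map, Int.cast_zero] at e'
      rw [show W.map σ = σ l • hadTwo.map (Int.cast : ℤ → F) from Matrix.ext fun i j => by simp [W],
        Matrix.transpose_smul, Matrix.smul_mul, Matrix.mul_smul, smul_smul, mul_comm, mul_comm (σ l), hl, e']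
      ext i j
      rcases eq_or_ne i j with rfl | hij
      · simp; linear_combination -h3
      · simp [hij]
    have hUW : IsUnit W := (Matrix.isUnit_transpose W).1 (IsUnit.of_mul_eq_one _ hu)
    obtain ⟨e, he4, he⟩ := witness_normalises (g := hUW.unit) (l := l) rfl hadTwo_table v s
    refine key hUW.unit _ _ e (mem_normalizer_of fun v s => ?_) (h.mem_GU_iff.2 hu) he4 he hω
    obtain ⟨e, he4, he⟩ := witness_normalises (g := hUW.unit) (l := l) rfl hadTwo_table v s
    exact ⟨_, _, e, he4, he⟩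

/-- Over nine elements the determinant-one stabiliser of an orthogonal frame lies in a group of isometries
with an abelian socle. -/
theorem lines_three (hF : Fintype.card F = 3 ^ 2) (h : IsConj 3 σ) {D : Fin 4 → Submodule F (Fin 4 → F)}
    (hD : Cfsg.Geo.IsNondegenerateMDecomposition (Cfsg.hermForm 4 F 3) 1 D) :
    ∃ K : Subgroup (GL (Fin 4) F), HasAbelianSocle K ∧ K ≤ Cfsg.GU 4 F 3 ∧
      Cfsg.Geo.decompositionStabilizer D ⊓ SUn 4 F 3 ≤ K := by
  classical
  obtain ⟨B, hB, hBD⟩ := exists_orthonormal h hD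
  let K₀ := Cfsg.Geo.subgroupNormalizer (base F) ⊓ Cfsg.GU 4 F 3
  obtain ⟨hsoc, hbase⟩ := socle hF h
  obtain ⟨N, r, m, hr, hcard, hNK, hn, habs, hD', hpow, hab⟩ := hsoc
  let φ := (MulAut.conj B).toMonoidHom
  have hsc : ∀ x, x ∈ Cfsg.Geo.scalars (Fin 4) F → φ x ∈ Cfsg.Geo.scalars (Fin 4) F := fun x hx => by
    show B * x * B⁻¹ ∈ _
    rw [← scalars_comm hx, mul_inv_cancel_right]
    exact hx
  have hsc' : ∀ x, φ x ∈ Cfsg.Geo.scalars (Fin 4) F → x ∈ Cfsg.Geo.scalars (Fin 4) F := fun x hx => by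
    have h1 : x = B⁻¹ * (B * x * B⁻¹) * B := by group
    rw [h1, mul_assoc B⁻¹]
    show B⁻¹ * (φ x * B) ∈ _
    rw [scalars_comm hx, inv_mul_cancel_left]
    exact hx
  refine ⟨K₀.map φ, ⟨N.map φ, r, m, hr, hcard, Subgroup.map_mono hNK, ?_, ?_, ?_, ?_, ?_⟩, ?_, ?_⟩
  · rintro _ ⟨g, hg, rfl⟩ _ ⟨x, hx, rfl⟩
    exact ⟨g * x * g⁻¹, hn g hg x hx, by simp [φ, mul_assoc]⟩
  · obtain ⟨hirr, hcomm⟩ := habs
    refine ⟨actsIrreducibly_iff.2 fun W hW => ?_, fun M hM => ?_⟩
    · rcases (actsIrreducibly_iff.1 hirr) (W.comap (Matrix.toLin' (mat B))) fun x hx => by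
        rw [mem_subspaceStabilizer_iff]
        intro u hu
        rw [Submodule.mem_comap, Matrix.toLin'_apply] at hu ⊢
        have e := mem_subspaceStabilizer_iff.1 (hW ⟨x, hx, rfl⟩) _ hu
        rwa [show mat (φ x) = mat B * mat x * mat B⁻¹ by simp [φ, mat], Matrix.mulVec_mulVec, mul_assoc,
          mat_inv_mul, mul_one, ← Matrix.mulVec_mulVec] at e with h1 | h1
      · refine Or.inl (eq_bot_iff.2 fun u hu => ?_)
        have h5 : mat B⁻¹ *ᵥ u ∈ W.comap (Matrix.toLin' (mat B)) := by
          rwa [Submodule.mem_comap, Matrix.toLin'_apply, Matrix.mulVec_mulVec, mat_mul_inv, Matrix.one_mulVec]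
        rw [h1, Submodule.mem_bot] at h5
        rw [Submodule.mem_bot, ← Matrix.one_mulVec u, ← mat_mul_inv B, ← Matrix.mulVec_mulVec, h5, Matrix.mulVec_zero]
      · refine Or.inr (eq_top_iff.2 fun u _ => ?_)
        have h5 : mat B⁻¹ *ᵥ u ∈ W.comap (Matrix.toLin' (mat B)) := h1 ▸ Submodule.mem_top
        rwa [Submodule.mem_comap, Matrix.toLin'_apply, Matrix.mulVec_mulVec, mat_mul_inv, Matrix.one_mulVec] at h5
    · obtain ⟨c, hc⟩ := hcomm (mat B⁻¹ * M * mat B) (forall_matrixSet.2 fun x hx => by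
        have e := hM _ (mem_matrixSet (show φ x ∈ N.map φ from ⟨x, hx, rfl⟩))
        rw [show mat (φ x) = mat B * mat x * mat B⁻¹ by simp [φ, mat]] at e
        have e2 := congrArg (fun X => mat B⁻¹ * X * mat B) e
        simpa [mat, mul_assoc] using e2)
      refine ⟨c, ?_⟩
      have e := congrArg (fun X => mat B * X * mat B⁻¹) hc
      simpa [mat, mul_assoc] using e
  · rw [← Subgroup.map_commutator]
    rintro _ ⟨x, hx, rfl⟩
    exact hsc x (hD' hx)
  · rintro _ ⟨x, hx, rfl⟩
    rw [← map_pow]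
    exact hsc _ (hpow x hx)
  · intro M hM hMn hMc x hx
    obtain ⟨y, hy, rfl⟩ := hM hx
    refine hsc y (hab (M.comap φ) (fun z hz => ?_) (fun g hg z hz => ?_) (fun a ha b hb => ?_) hx)
    · obtain ⟨z', hz', e⟩ := hM hz
      exact (MulAut.conj B).injective e ▸ hz'
    · show φ (g * z * g⁻¹) ∈ M
      rw [map_mul, map_mul, map_inv]
      exact hMn _ ⟨g, hg, rfl⟩ _ hz
    · refine (MulAut.conj B).injective ?_
      rw [map_mul, map_mul]
      exact hMc _ ha _ hb
  · rintro _ ⟨x, hx, rfl⟩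
    exact mul_mem (mul_mem hB hx.2) (inv_mem hB)
  · rintro g ⟨hg, hgS⟩
    refine ⟨B⁻¹ * g * B, ?_, by simp [φ, mul_assoc]⟩
    set x := B⁻¹ * g * B with hx
    have hxS : x ∈ SUn 4 F 3 := by
      have := mat_mem_of_conj (inv_mem hB) hgS
      rwa [inv_inv] at this
    refine ⟨?_, hxS.1⟩
    obtain ⟨π, hπ⟩ := hg
    have hcol : ∀ i, ∃ c, mat x *ᵥ Pi.single i 1 = c • (Pi.single (π i) 1 : Fin 4 → F) := fun i => by
      have h1 := map_le_iff.1 (hπ i).le (mat B *ᵥ Pi.single i 1) (hBD i ▸ Submodule.mem_span_singleton_self _)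
      rw [hBD (π i)] at h1
      obtain ⟨c, hc⟩ := Submodule.mem_span_singleton.1 h1
      refine ⟨c, mulVec_injective B ?_⟩
      show mat B *ᵥ (mat x *ᵥ Pi.single i 1) = mat B *ᵥ (c • Pi.single (π i) 1)
      rw [Matrix.mulVec_smul, hc, Matrix.mulVec_mulVec, Matrix.mulVec_mulVec]
      congr 1
      simp [hx, mat, mul_assoc]
    choose c hc using hcol
    let d : Fin 4 → F := fun k => c (π⁻¹ k)
    have hxm : mat x = monomialMat π⁻¹ d := by
      ext k i
      have e := congrFun (hc i) k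
      rw [Matrix.mulVec_single_one] at e
      simp only [Matrix.col_apply] at e
      rw [e]
      simp only [monomialMat, Matrix.of_apply, Pi.smul_apply, Pi.single_apply, smul_eq_mul, mul_ite, mul_one,
        mul_zero, d, Equiv.Perm.inv_def, Equiv.eq_symm_apply]
      split_ifs with h1 h2 h3
      · rw [h1, Equiv.symm_apply_apply]
      · exact absurd h1.symm h2
      · exact absurd h3.symm h1
      · rfl
    have hc1 : ∀ i, c i * σ (c i) = 1 := fun i => by
      have e := MaxSub.mem_GU_iff_forall.1 hxS.1 (Pi.single i 1) (Pi.single i 1)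
      rw [show Matrix.mulVec (x : Matrix (Fin 4) (Fin 4) F) (Pi.single i 1) = _ from hc i, h.herm_eq, h.herm_eq] at e
      simpa [Pi.single_apply] using e
    have hd4 : ∀ k, d k ^ 4 = 1 := fun k => by
      rw [pow_succ', ← h.eq_pow]; exact hc1 _
    refine monomial_normalises hd4 ?_ hxm
    have hdet := mem_specialLinear_iff.1 hxS.2
    rw [show mat x = Matrix.diagonal d * monomialMat π⁻¹ fun _ => 1 by
      rw [hxm, diagonal_eq_monomialMat, monomialMat_mul]
      congr 1
      funext i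
      simp, Matrix.det_mul, Matrix.det_diagonal, Fin.prod_univ_four] at hdet
    have hperm : (monomialMat π⁻¹ fun _ => (1 : F)) = Equiv.Perm.permMatrix F π⁻¹ := by
      ext i j
      simp [monomialMat, Equiv.Perm.permMatrix, PEquiv.toMatrix_apply, eq_comm]
    rw [hperm, Matrix.det_permutation] at hdet
    have hs : ((Equiv.Perm.sign π⁻¹ : ℤˣ) : F) ^ 2 = 1 := by
      rcases Int.units_eq_one_or (Equiv.Perm.sign π⁻¹) with e | e <;> simp [e]
    have e := congrArg (· ^ 2) hdet
    simp only [mul_pow, one_pow] at e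
    rw [hs, mul_one] at e
    linear_combination e

end CfsgLib.AschbacherUnitary.FourThree
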