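import Cfsg.Agent.AschbacherUnitary.Proper

/-!
The special unitary group in dimension four lies in none of the geometric stabilisers.
-/

set_option autoImplicit false
set_option linter.unusedSectionVars false
set_option linter.style.haveILetI false
set_option linter.unreachableTactic false
set_option linter.unusedTactic false

namespace CfsgLib.AschbacherUnitary

open Matrix CfsgLib.Aschbacher
open scoped commutatorElement

variable {n q : ℕ} {F : Type*} [Field F] [Fintype F] {σ : F ≃+* F}

theorem exists_others_of_card (s : Finset (Fin n)) (hs : s.card < n) : ∃ l, l ∉ s := by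
  by_contra hall
  simp only [not_exists, not_not] at hall
  have h1 := Finset.card_le_card (show (Finset.univ : Finset (Fin n)) ⊆ s from fun x _ => hall x)
  rw [Finset.card_univ, Fintype.card_fin] at h1
  omega

/-- The derived subgroup contains the rank one tori. -/
theorem torus_mem_commutator_four (h : IsConj q σ) (hn : 4 ≤ n) {b : Fˣ} (hb : (b : F) * σ b = 1)
    {i j : Fin n} (hij : i ≠ j) : diagGL (torusVec j i b) ∈ ⁅SUn n F q, SUn n F q⁆ := by
  obtain ⟨k, hk⟩ := exists_others_of_card {i, j} (Finset.card_le_two.trans_lt (by omega) : _ < n)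
  obtain ⟨l, hl⟩ := exists_others_of_card {i, j, k} (Finset.card_le_three.trans_lt (by omega) : _ < n)
  simp only [Finset.mem_insert, Finset.mem_singleton, not_or] at hk hl
  -- the three-cycle `j ↦ k ↦ i ↦ j`
  let π : Equiv.Perm (Fin n) := Equiv.swap i j * Equiv.swap j k
  have hπ : π ∈ alternatingGroup (Fin n) := swap_swap_mem_alternating hij (Ne.symm hk.2)
  have hπi : π⁻¹ j = i := by
    rw [Equiv.Perm.inv_def, Equiv.symm_apply_eq]
    show j = Equiv.swap i j (Equiv.swap j k i)
    rw [Equiv.swap_apply_of_ne_of_ne hij (Ne.symm hk.1), Equiv.swap_apply_left]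
  have hπl : π⁻¹ l = l := by
    rw [Equiv.Perm.inv_def, Equiv.symm_apply_eq]
    show l = Equiv.swap i j (Equiv.swap j k l)
    rw [Equiv.swap_apply_of_ne_of_ne hl.2.1 hl.2.2, Equiv.swap_apply_of_ne_of_ne hl.1 hl.2.1]
  have hperm : ∀ d : Fin n → Fˣ, permGL n F π * diagGL d * (permGL n F π)⁻¹ =
      diagGL fun x => d (π⁻¹ x) := fun d => by
    rw [← map_inv]
    refine Units.ext ?_
    apply Matrix.toLin'.injective
    apply LinearMap.ext
    intro v
    funext x
    simp only [Units.val_mul, Matrix.toLin'_mul, LinearMap.comp_apply, Matrix.toLin'_apply,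
      permGL_mulVec, mat_diagGL, Matrix.mulVec_diagonal]
    simp
  have key : ⁅permGL n F π, diagGL (torusVec i l b)⁆ = diagGL (torusVec j i b) := by
    rw [commutatorElement_def, hperm]
    refine Units.ext ?_
    simp only [Units.val_mul]
    show Matrix.diagonal _ * Matrix.diagonal _ = Matrix.diagonal _
    rw [Matrix.diagonal_mul_diagonal]
    congr 1
    funext x
    rw [← Units.val_mul]
    congr 1
    simp only [torusVec]
    have h1 : π⁻¹ x = i ↔ x = j := by rw [← hπi, (π⁻¹).injective.eq_iff]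
    have h2 : π⁻¹ x = l ↔ x = l := by
      conv_lhs => rw [← hπl, (π⁻¹).injective.eq_iff]
    simp only [h1, h2]
    rcases eq_or_ne x j with rfl | hxj
    · simp [Ne.symm hij, Ne.symm hl.2.1]
    rcases eq_or_ne x i with rfl | hxi
    · simp [hxj, Ne.symm hl.1]
    rcases eq_or_ne x l with rfl | hxl
    · simp [hxj, hxi]
    · simp [hxj, hxi, hxl]
  rw [← key]
  exact Subgroup.commutator_mem_commutator (permGL_mem h hπ) (torus_mem_SU h hb (Ne.symm hl.1))

/-- The special unitary group is irreducible. -/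
theorem irreducible_su (hF : Fintype.card F = q ^ 2) (h : IsConj q σ) (hn : 3 ≤ n) :
    Cfsg.Geo.ActsIrreducibly (Cfsg.Geo.matrixSet (SUn n F q)) := by
  classical
  obtain ⟨a, haN, haord⟩ := exists_normOne hF h
  have hq := h.one_lt
  have hsep : ∀ i j : Fin n, i ≠ j → ∃ d : Fin n → Fˣ, (d i : F) ≠ d j ∧
      diagGL d ∈ SUn n F q := by
    intro i j hij
    obtain ⟨k, hk⟩ := exists_others_of_card {i, j} (Finset.card_le_two.trans_lt (by omega) : _ < n)
    simp only [Finset.mem_insert, Finset.mem_singleton, not_or] at hk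
    refine ⟨torusVec i k a, ?_, torus_mem_SU h haN (Ne.symm hk.1)⟩
    simp [torusVec, hij.symm, Ne.symm hk.2, normOne_ne_one hq haord]
  have hmove : ∀ i j : Fin n, ∃ π ∈ alternatingGroup (Fin n), π i = j := by
    intro i j
    rcases eq_or_ne i j with rfl | hij
    · exact ⟨1, one_mem _, rfl⟩
    obtain ⟨k, hk⟩ := exists_others_of_card {i, j} (Finset.card_le_two.trans_lt (by omega) : _ < n)
    simp only [Finset.mem_insert, Finset.mem_singleton, not_or] at hk
    refine ⟨Equiv.swap i j * Equiv.swap j k, swap_swap_mem_alternating hij (Ne.symm hk.2), ?_⟩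
    rw [Equiv.Perm.mul_apply, Equiv.swap_apply_of_ne_of_ne hij (Ne.symm hk.1), Equiv.swap_apply_left]
  · rw [actsIrreducibly_iff]
    intro W hW
    by_cases h0 : W = ⊥
    · exact Or.inl h0
    refine Or.inr ?_
    -- a vector of minimal support
    obtain ⟨v, ⟨hvW, hv0⟩, hmin⟩ := Set.exists_min_image {v : Fin n → F | v ∈ W ∧ v ≠ 0}
      (fun v => (Finset.univ.filter fun i => v i ≠ 0).card) (Set.toFinite _)
      (Submodule.exists_mem_ne_zero_of_ne_bot h0)
    obtain ⟨i, hi⟩ : ∃ i, v i ≠ 0 := Function.ne_iff.1 hv0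
    have hsingle : ∀ j, j ≠ i → v j = 0 := by
      intro j hj
      by_contra hvj
      obtain ⟨d, hd, hmem⟩ := hsep i j (Ne.symm hj)
      have h1 : Matrix.diagonal (fun k => (d k : F)) *ᵥ v ∈ W :=
        mat_diagGL d ▸ mem_subspaceStabilizer_iff.1 (hW hmem) v hvW
      let w := Matrix.diagonal (fun k => (d k : F)) *ᵥ v - (d j : F) • v
      have hwW : w ∈ W := W.sub_mem h1 (W.smul_mem _ hvW)
      have hwk : ∀ k, w k = ((d k : F) - d j) * v k := fun k => by
        simp [w, Matrix.mulVec_diagonal, sub_mul]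
      have hw0 : w ≠ 0 := fun e => by
        have := congrFun e i
        rw [hwk] at this
        exact mul_ne_zero (sub_ne_zero.2 hd) hi this
      refine (hmin w ⟨hwW, hw0⟩).not_gt (Finset.card_lt_card ?_)
      rw [Finset.ssubset_iff_of_subset (fun k hk => ?_)]
      · exact ⟨j, by simpa using hvj, by simp [hwk]⟩
      · simp only [Finset.mem_filter, Finset.mem_univ, true_and, hwk] at hk ⊢
        exact right_ne_zero_of_mul hk
    have hei : Pi.single i (1 : F) ∈ W := by
      have : Pi.single i (1 : F) = (v i)⁻¹ • v := by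
        funext k
        rcases eq_or_ne k i with rfl | hk
        · simp [hi]
        · simp [hk, hsingle k hk]
      rw [this]
      exact W.smul_mem _ hvW
    have hall : ∀ j, Pi.single j (1 : F) ∈ W := by
      intro j
      obtain ⟨π, hπ, hπi⟩ := hmove i j
      have h1 := mem_subspaceStabilizer_iff.1 (hW (permGL_mem h hπ)) _ hei
      rw [permGL_mulVec] at h1
      convert h1 using 1
      funext k
      rcases eq_or_ne k j with rfl | hk
      · rw [← hπi]; simp
      · rw [Pi.single_eq_of_ne hk, Pi.single_eq_of_ne]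
        intro e
        apply hk
        rw [← hπi, ← e]; simp
    rw [eq_top_iff]
    intro x _
    rw [pi_eq_sum_univ' x]
    exact Submodule.sum_mem _ fun j _ => W.smul_mem _ (hall j)
theorem not_le_subspace_four (hF : Fintype.card F = q ^ 2) (h : IsConj q σ) (hn : 3 ≤ n)
    {W : Submodule F (Fin n → F)} (h0 : W ≠ ⊥) (h1 : W ≠ ⊤) :
    ¬ SUn n F q ≤ Cfsg.Geo.subspaceStabilizer W := fun hle =>
  not_or.2 ⟨h0, h1⟩ ((actsIrreducibly_iff.1 (irreducible_su hF h hn)) W hle)

theorem not_le_lines_four (h : IsConj q σ) (hn : 4 ≤ n)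
    {D : Fin n → Submodule F (Fin n → F)}
    (hD : Cfsg.Geo.IsNondegenerateMDecomposition (Cfsg.hermForm n F q) 1 D) :
    ¬ SUn n F q ≤ Cfsg.Geo.decompositionStabilizer D := by
  intro hle
  obtain ⟨B, hB, hBD⟩ := exists_orthonormal h hD
  obtain ⟨g, hg, -, -, -, -, -, -, i, j, k, hjk, hj, hk⟩ := exists_nonmonomial (n := n) h (by omega)
  obtain ⟨π, hπ⟩ := hle (mat_mem_of_conj hB hg)
  have h1 := map_le_iff.1 (hπ i).le (mat B *ᵥ Pi.single i 1)
    (hBD i ▸ Submodule.mem_span_singleton_self _)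
  rw [hBD (π i)] at h1
  obtain ⟨c, hc⟩ := Submodule.mem_span_singleton.1 h1
  have h2 : mat (B * g * B⁻¹) *ᵥ (mat B *ᵥ Pi.single i 1) = mat B *ᵥ (mat g *ᵥ Pi.single i 1) := by
    simp only [Matrix.mulVec_mulVec, mat, ← Units.val_mul]
    rw [inv_mul_cancel_right]
  rw [h2, ← Matrix.mulVec_smul] at hc
  have h3 := mulVec_injective B hc
  rcases eq_or_ne j (π i) with rfl | hji
  · exact hk (by rw [← h3]; simp [hjk.symm])
  · exact hj (by rw [← h3]; simp [hji])

theorem not_normalizes_four (h : IsConj q σ) (hn : 4 ≤ n) {R : Subgroup (GL (Fin n) F)}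
    (hR : Cfsg.Geo.ActsAbsolutelyIrreducibly (Cfsg.Geo.matrixSet R))
    (hcomm : ⁅R, R⁆ ≤ Cfsg.Geo.scalars (Fin n) F) :
    ¬ Normalizes (SUn n F q) R := by
  classical
  intro hnorm
  haveI : NeZero n := ⟨by omega⟩
  obtain ⟨g, hg, v, φ, h0, rfl, hv, hφ, i, j, k, hjk, hj, hk⟩ := exists_nonmonomial (n := n) h (by omega)
  set g := tv v φ h0 with hgdef
  have hgR : g ∈ Cfsg.Geo.scalars (Fin n) F := by
    refine mem_scalars_of_commute hR fun x hx => ?_
    set z := g * x * g⁻¹ * x⁻¹ with hz
    have hzR : z ∈ R := mul_mem (hnorm g hg x hx) (inv_mem hx)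
    let W : Submodule F (Fin n → F) :=
      LinearMap.ker (Matrix.mulVecLin (Matrix.of ![φ, φ ᵥ* mat x⁻¹]))
    have hW : n ≤ Module.finrank F W + 2 := by
      have h2 := (Matrix.mulVecLin (Matrix.of ![φ, φ ᵥ* mat x⁻¹])).finrank_range_add_finrank_ker
      have h3 := Submodule.finrank_le
        (LinearMap.range (Matrix.mulVecLin (Matrix.of ![φ, φ ᵥ* mat x⁻¹])))
      rw [Module.finrank_fin_fun] at h2 h3
      show n ≤ Module.finrank F (LinearMap.ker _) + 2
      omega
    have hzW : ∀ y ∈ W, mat z *ᵥ y = y := by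
      intro y hy
      rw [LinearMap.mem_ker, Matrix.mulVecLin_apply] at hy
      have hy0 : φ ⬝ᵥ y = 0 := congrFun hy 0
      have hy1 : φ ⬝ᵥ (mat x⁻¹ *ᵥ y) = 0 := by
        rw [Matrix.dotProduct_mulVec]; exact congrFun hy 1
      have hgi : mat g⁻¹ *ᵥ (mat x⁻¹ *ᵥ y) = mat x⁻¹ *ᵥ y := by
        rw [hgdef, mat_tv_inv, Matrix.sub_mulVec, Matrix.one_mulVec, Matrix.vecMulVec_mulVec, hy1]
        simp
      show mat (g * x * g⁻¹ * x⁻¹) *ᵥ y = y
      simp only [mat, Units.val_mul, ← Matrix.mulVec_mulVec] at hgi ⊢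
      rw [hgi, Matrix.mulVec_mulVec (v := y), ← Units.val_mul, mul_inv_cancel, Units.val_one,
        Matrix.one_mulVec]
      show mat g *ᵥ y = y
      rw [hgdef, tv_mulVec, hy0, zero_smul, add_zero]
    have hWne : W ≠ ⊥ := fun e => by rw [e, finrank_bot] at hW; omega
    obtain ⟨w, hw, hw0⟩ := Submodule.exists_mem_ne_zero_of_ne_bot hWne
    have hzs : z ∈ Cfsg.Geo.scalars (Fin n) F := by
      refine mem_scalars_of_commute hR fun y hy => ?_
      obtain ⟨c, hc⟩ := (Cfsg.Geo.mem_scalars_iff _).1 (hcomm (Subgroup.commutator_mem_commutator hzR hy))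
      have hzy : mat z * mat y = (c : F) • (mat y * mat z) := by
        have e : z * y = ⁅z, y⁆ * (y * z) := by rw [commutatorElement_def]; group
        have e' := congrArg mat e
        simp only [mat, Units.val_mul] at e' ⊢
        rw [e', hc, Matrix.smul_mul, one_mul]
      by_cases hc1 : (c : F) = 1
      · exact Units.ext (by rw [Units.val_mul, Units.val_mul]; rw [hc1, one_smul] at hzy; exact hzy)
      exfalso
      let Wy := W.map (Matrix.toLin' (mat y))
      have hUz : ∀ u ∈ Wy, mat z *ᵥ u = (c : F) • u := by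
        rintro _ ⟨a, ha, rfl⟩
        rw [Matrix.toLin'_apply, Matrix.mulVec_mulVec, hzy, Matrix.smul_mulVec, ← Matrix.mulVec_mulVec, hzW a ha]
      set w₁ := mat x *ᵥ v with hw₁
      let ψ : (Fin n → F) → F := fun u => φ ⬝ᵥ (mat x⁻¹ *ᵥ u)
      have hzf : ∀ u, mat z *ᵥ u = u + (φ ⬝ᵥ u - ψ u * (φ ⬝ᵥ w₁)) • v - ψ u • w₁ := by
        intro u
        rw [show mat z = mat g * mat x * mat g⁻¹ * mat x⁻¹ from rfl, ← Matrix.mulVec_mulVec, ← Matrix.mulVec_mulVec,
          ← Matrix.mulVec_mulVec]
        rw [hgdef, mat_tv_inv, Matrix.sub_mulVec, Matrix.one_mulVec, Matrix.vecMulVec_mulVec, op_smul_eq_smul,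
          Matrix.mulVec_sub, Matrix.mulVec_smul, ← hw₁, Matrix.mulVec_mulVec, mat_mul_inv, Matrix.one_mulVec,
          show (φ ⬝ᵥ mat x⁻¹ *ᵥ u) = ψ u from rfl]
        rw [show mat (tv v φ h0) *ᵥ (u - ψ u • w₁) = _ from tv_mulVec _ _ _ _, dotProduct_sub, dotProduct_smul, smul_eq_mul]
        abel
      have hU : Wy ≤ Submodule.span F (Set.range ![v, w₁]) := by
        intro u hu
        refine (Submodule.smul_mem_iff _ (sub_ne_zero.2 hc1)).1 ((Submodule.mem_span_range_iff_exists_fun F).2
          ⟨![φ ⬝ᵥ u - ψ u * (φ ⬝ᵥ w₁), -ψ u], ?_⟩)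
        rw [sub_smul, one_smul, ← hUz u hu, hzf]
        simp [Fin.sum_univ_two]
        abel
      have hWy : 2 ≤ Module.finrank F Wy := by rw [finrank_map_gl]; omega
      have hspan2 : Module.finrank F (Submodule.span F (Set.range ![v, w₁])) ≤ 2 :=
        (finrank_range_le_card (R := F) ![v, w₁]).trans_eq (by simp)
      have hWyeq : Wy = Submodule.span F (Set.range ![v, w₁]) :=
        Submodule.eq_of_le_of_finrank_eq hU (le_antisymm (Submodule.finrank_mono hU) (hspan2.trans hWy))
      have hli : LinearIndependent F ![v, w₁] := by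
        rw [linearIndependent_iff_card_eq_finrank_span]
        refine le_antisymm ?_ ?_
        · rw [Set.finrank, ← hWyeq]; simpa using hWy
        · rw [Set.finrank]; simpa using hspan2
      have hvW : v ∈ Wy := hWyeq ▸ Submodule.subset_span ⟨0, rfl⟩
      have hzv := hUz v hvW
      rw [hzf, h0] at hzv
      have hcomb : (1 - (c : F) + (0 - ψ v * (φ ⬝ᵥ w₁))) • v + (-ψ v) • w₁ = 0 := by
        rw [add_smul, sub_smul, one_smul, ← hzv]
        module
      have hzero := Fintype.linearIndependent_iff.1 hli ![1 - (c : F) + (0 - ψ v * (φ ⬝ᵥ w₁)), -ψ v]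
        (by simpa [Fin.sum_univ_two] using hcomb)
      have e1 := hzero 0
      have e2 := hzero 1
      simp only [Matrix.cons_val_zero, Matrix.cons_val_one] at e1 e2
      rw [neg_eq_zero.1 e2] at e1
      exact hc1 (by linear_combination -e1)
    obtain ⟨c, hc⟩ := (Cfsg.Geo.mem_scalars_iff z).1 hzs
    have hc1 : (c : F) = 1 := by
      have e1 := hzW w hw
      rw [show mat z = (c : F) • 1 from hc, Matrix.smul_mulVec, Matrix.one_mulVec] at e1
      have e2 : ((c : F) - 1) • w = 0 := by rw [sub_smul, e1, one_smul, sub_self]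
      exact sub_eq_zero.1 ((smul_eq_zero.1 e2).resolve_right hw0)
    have hz1 : z = 1 := Units.ext (by rw [hc, hc1, one_smul, Units.val_one])
    rw [hz, mul_inv_eq_one, mul_inv_eq_iff_eq_mul] at hz1
    exact hz1
  obtain ⟨c, hc⟩ := (Cfsg.Geo.mem_scalars_iff g).1 hgR
  rw [show mat g = (c : F) • 1 from hc, Matrix.smul_mulVec, Matrix.one_mulVec] at hj hk
  rcases eq_or_ne j i with rfl | hji
  · simp [hjk.symm] at hk
  · simp [hji] at hj

theorem not_le_subfield_four (hF : Fintype.card F = q ^ 2) (h : IsConj q σ) (hn : 4 ≤ n)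
    {F₁ : Subfield F} {r : ℕ} (hr : r.Prime) (hcard : Fintype.card F = Nat.card F₁ ^ r) (P : GL (Fin n) F) :
    ¬ SUn n F q ≤ Cfsg.Geo.subfieldSubgroup F₁ P := by
  classical
  intro hle
  have hq := h.one_lt
  obtain ⟨a, haN, hord⟩ := exists_normOne hF h
  haveI : Fintype F₁ := Fintype.ofFinite _
  set q₀ := Nat.card F₁ with hq₀
  have hfix : ∀ x ∈ F₁, x ^ q₀ = x := fun x hx => by
    have := FiniteField.pow_card (⟨x, hx⟩ : F₁)
    rw [hq₀, Nat.card_eq_fintype_card]
    exact congrArg Subtype.val this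
  let i : Fin n := ⟨0, by omega⟩
  let j : Fin n := ⟨1, by omega⟩
  let k : Fin n := ⟨2, by omega⟩
  have hij : i ≠ j := by simp [i, j, Fin.ext_iff]
  have hik : i ≠ k := by simp [i, k, Fin.ext_iff]
  have hjk : j ≠ k := by simp [j, k, Fin.ext_iff]
  have hsa : σ (a : F) = (a : F)⁻¹ := eq_inv_of_mul_eq_one_right haN
  have ha0 : (a : F) ≠ 0 := a.ne_zero
  have hsum : ∀ d : Fin n → F, ∑ x, d x = d i + d j + d k + ∑ x ∈ Finset.univ \ {i, j, k}, d x := by
    intro d
    rw [← Finset.sum_sdiff (Finset.subset_univ ({i, j, k} : Finset (Fin n))), Finset.sum_insert (by simp [hij, hik]),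
      Finset.sum_pair hjk]
    ring
  have hrest : ∀ d : Fin n → F, (∀ x, x ≠ i → x ≠ j → x ≠ k → d x = 1) →
      ∑ x ∈ Finset.univ \ {i, j, k}, d x = ((n - 3 : ℕ) : F) := by
    intro d hd
    rw [Finset.sum_congr rfl (fun x hx => by
      simp only [Finset.mem_sdiff, Finset.mem_insert, Finset.mem_singleton, not_or] at hx
      exact hd x hx.2.1 hx.2.2.1 hx.2.2.2), Finset.sum_const, nsmul_one, Finset.card_sdiff]
    congr 1
    simp [hij, hik, hjk]
  have hnat : ∀ m : ℕ, (m : F) ∈ F₁ := fun m => natCast_mem F₁ m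
  rcases hr.eq_two_or_odd' with rfl | hodd
  · have hq₀q : q₀ = q := Nat.pow_left_injective two_ne_zero (hcard.symm.trans hF)
    have hmem := trace_mem_of_le_subfield hle
      (mul_mem (torus_mem_commutator_four h hn haN (i := k) (j := i) hik.symm)
        (torus_mem_commutator_four h hn haN (i := k) (j := j) hjk.symm))
    simp only [mat, Units.val_mul] at hmem
    rw [show (diagGL (torusVec i k a) : Matrix (Fin n) (Fin n) F) = _ from mat_diagGL _,
      show (diagGL (torusVec j k a) : Matrix (Fin n) (Fin n) F) = _ from mat_diagGL _,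
      Matrix.diagonal_mul_diagonal, Matrix.trace_diagonal, hsum,
      hrest _ (fun x h1 h2 h3 => by simp [torusVec, h1, h2, h3])] at hmem
    have h1 := hfix _ (F₁.sub_mem hmem (hnat (n - 3)))
    rw [add_sub_cancel_right, hq₀q, ← h.eq_pow] at h1
    simp [torusVec, hij, hik, hjk, hij.symm, hik.symm, hjk.symm, hsa] at h1
    have hne1 := normOne_ne_one hq hord
    have hne2 := normOne_sq_ne_one hq hord
    field_simp at h1
    have h2 : ((a : F) - 1) ^ 2 * ((a : F) * a - 1) = 0 := by
      first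
        | linear_combination h1
        | linear_combination -h1
    rcases mul_eq_zero.1 h2 with h3 | h3
    · exact hne1 (sub_eq_zero.1 (pow_eq_zero_iff two_ne_zero |>.1 h3))
    · exact hne2 (sub_eq_zero.1 h3)
  · have hr3 : 3 ≤ r := by
      have := hr.two_le
      rcases hodd with ⟨t, rfl⟩
      omega
    have hmem := trace_mem_of_le_subfield hle (torus_mem_commutator_four h hn haN (i := j) (j := i) hij.symm)
    rw [mat_diagGL, Matrix.trace_diagonal, hsum,
      hrest _ (fun x h1 h2 _ => by simp [torusVec, h1, h2])] at hmem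
    have hs : (a : F) + (a : F)⁻¹ ∈ F₁ := by
      have h1 := F₁.sub_mem (F₁.sub_mem hmem (hnat (n - 3))) F₁.one_mem
      simpa [torusVec, hij, hik, hjk, hij.symm, hik.symm, hjk.symm] using h1
    obtain ⟨p, hchar⟩ := CharP.exists F
    haveI := hchar
    haveI : Fact p.Prime := ⟨CharP.char_is_prime F p⟩
    obtain ⟨m, hm⟩ : ∃ m : ℕ, q₀ = p ^ m := by
      haveI : CharP F₁ p := (F₁.subtype.charP_iff_charP p).2 hchar
      obtain ⟨m, -, hm⟩ := FiniteField.card F₁ p
      exact ⟨m, by rw [hq₀, Nat.card_eq_fintype_card, hm]⟩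
    have hfrob : ((a : F) + (a : F)⁻¹) ^ q₀ = (a : F) ^ q₀ + ((a : F) ^ q₀)⁻¹ := by
      rw [hm, add_pow_char_pow, inv_pow]
    have h2 := hfix _ hs
    rw [hfrob] at h2
    set b := (a : F) ^ q₀ with hb
    have hb0 : b ≠ 0 := pow_ne_zero _ ha0
    have h3 : (b - a) * (b * a - 1) = 0 := by
      field_simp at h2
      first
        | linear_combination h2
        | linear_combination -h2
    have hq1 : 1 < q₀ := Finite.one_lt_card
    have hpow : q₀ ^ 3 ≤ q ^ 2 := by
      rw [← hF, hcard]
      exact Nat.pow_le_pow_right (by omega) hr3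
    rcases mul_eq_zero.1 h3 with h4 | h4
    · have h5 : a ^ (q₀ - 1) = 1 := by
        apply Units.ext
        rw [Units.val_pow_eq_pow_val, Units.val_one]
        refine mul_right_cancel₀ ha0 ?_
        rw [← pow_succ, Nat.sub_add_cancel hq1.le, one_mul]
        exact sub_eq_zero.1 h4
      have h6 := orderOf_dvd_of_pow_eq_one h5
      rw [hord] at h6
      have := Nat.le_of_dvd (by omega) h6
      have h8 : q₀ ^ 2 ≤ q ^ 2 := (Nat.pow_le_pow_right (by omega) (by norm_num)).trans hpow
      have h9 := (Nat.pow_le_pow_iff_left two_ne_zero).1 h8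
      omega
    · have h5 : a ^ (q₀ + 1) = 1 := by
        apply Units.ext
        rw [Units.val_pow_eq_pow_val, Units.val_one, pow_succ]
        exact sub_eq_zero.1 h4
      have h6 := orderOf_dvd_of_pow_eq_one h5
      rw [hord] at h6
      have := Nat.le_of_dvd (by omega) h6
      have h8 : q ^ 2 ≤ q₀ ^ 2 := Nat.pow_le_pow_left (by omega) 2
      have h9 : q₀ ^ 2 < q₀ ^ 3 := Nat.pow_lt_pow_right hq1 (by norm_num)
      omega

end CfsgLib.AschbacherUnitary
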