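import Cfsg.Agent.AschbacherUnitary.Basic
import Cfsg.Agent.AschbacherOrth.Reduction

/-!
Reducible and monomial groups of isometries of the Hermitian form in odd dimension.
-/

set_option autoImplicit false

namespace CfsgLib.AschbacherUnitary

open Matrix CfsgLib.Aschbacher

variable {n q : ℕ} {F : Type*} [Field F] [Fintype F] {σ : F ≃+* F}

/-- The orthogonal complement. -/
def perpSpace (h : IsConj q σ) (W : Submodule F (Fin n → F)) : Submodule F (Fin n → F) where
  carrier := {x | ∀ w ∈ W, Cfsg.hermForm n F q x w = 0}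
  add_mem' {a b} ha hb w hw := by rw [h.unitary.add_left, ha w hw, hb w hw, add_zero]
  zero_mem' w _ := h.sesq.zero_left w
  smul_mem' c x hx w hw := by rw [h.unitary.smul_left, hx w hw, mul_zero]

theorem perp_invariant (h : IsConj q σ) {H : Subgroup (GL (Fin n) F)} (hH : H ≤ Cfsg.GU n F q)
    {W : Submodule F (Fin n → F)} (hW : H ≤ Cfsg.Geo.subspaceStabilizer W) :
    H ≤ Cfsg.Geo.subspaceStabilizer (perpSpace h W) := by
  intro g hg
  rw [mem_subspaceStabilizer_iff]
  intro x hx w hw
  have e := CfsgLib.MaxSub.mem_GU_iff_forall.1 (hH hg) x (mat g⁻¹ *ᵥ w)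
  rw [mulVec_inv_mulVec] at e
  rw [e]
  exact hx _ (mem_subspaceStabilizer_iff.1 (hW (inv_mem hg)) w hw)

theorem finrank_perp_ge (h : IsConj q σ) (W : Submodule F (Fin n → F)) :
    n ≤ Module.finrank F (perpSpace h W) + Module.finrank F W := by
  classical
  let b := Module.finBasis F W
  let L : (Fin n → F) →ₗ[F] (Fin (Module.finrank F W) → F) :=
    { toFun := fun x i => Cfsg.hermForm n F q x (b i).1
      map_add' := fun x y => funext fun i => h.unitary.add_left x y _
      map_smul' := fun c x => funext fun i => h.unitary.smul_left c x _ }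
  have hker : LinearMap.ker L ≤ perpSpace h W := by
    intro x hx w hw
    have hw' : w = ∑ i, (b.repr ⟨w, hw⟩ i) • (b i).1 := by
      have e := congrArg Subtype.val (b.sum_repr ⟨w, hw⟩)
      rw [Submodule.coe_sum] at e
      exact e.symm
    rw [hw', h.sesq.sum_right]
    refine Finset.sum_eq_zero fun i _ => ?_
    rw [h.sesq.smul_right, show Cfsg.hermForm n F q x (b i).1 = 0 from congrFun (LinearMap.mem_ker.1 hx) i,
      mul_zero]
  have h1 := L.finrank_range_add_finrank_ker
  have h2 := Submodule.finrank_le (LinearMap.range L)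
  have h3 := Submodule.finrank_mono hker
  rw [Module.finrank_fin_fun] at h1 h2
  omega

/-- A reducible group of isometries in odd dimension fixes a totally isotropic or a small non-degenerate
subspace. -/
theorem reducible_cases (h : IsConj q σ) (hodd : Odd n) {H : Subgroup (GL (Fin n) F)}
    (hH : H ≤ Cfsg.GU n F q) (hirr : ¬ Cfsg.Geo.ActsIrreducibly (Cfsg.Geo.matrixSet H)) :
    (∃ W : Submodule F (Fin n → F), W ≠ ⊥ ∧ W ≠ ⊤ ∧
      Cfsg.Geo.IsTotallySingularFor (Cfsg.hermForm n F q) W ∧ H ≤ Cfsg.Geo.subspaceStabilizer W) ∨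
    (∃ W : Submodule F (Fin n → F), W ≠ ⊥ ∧ W ≠ ⊤ ∧
      Cfsg.Geo.IsNondegenerateOn (Cfsg.hermForm n F q) W ∧ 2 * Module.finrank F W < n ∧
      H ≤ Cfsg.Geo.subspaceStabilizer W) := by
  rw [actsIrreducibly_iff] at hirr
  simp only [not_forall, not_or] at hirr
  obtain ⟨W, hW, h0, h1⟩ := hirr
  have hperp := perp_invariant h hH hW
  by_cases hR : W ⊓ perpSpace h W = ⊥
  swap
  · refine Or.inl ⟨_, hR, fun e => h1 (eq_top_iff.2 (e.ge.trans inf_le_left)), fun u hu v hv => hu.2 v hv.1, ?_⟩
    intro g hg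
    rw [mem_subspaceStabilizer_iff]
    exact fun w hw => ⟨mem_subspaceStabilizer_iff.1 (hW hg) w hw.1,
      mem_subspaceStabilizer_iff.1 (hperp hg) w hw.2⟩
  right
  have hdisj : Disjoint W (perpSpace h W) := disjoint_iff.2 hR
  have hsum : Module.finrank F W + Module.finrank F (perpSpace h W) = n := by
    have e1 := Submodule.finrank_add_finrank_le_of_disjoint hdisj
    have e2 := finrank_perp_ge h W
    rw [Module.finrank_fin_fun] at e1
    omega
  have htop : W ⊔ perpSpace h W = ⊤ := by
    refine Submodule.eq_top_of_finrank_eq ?_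
    have e := Submodule.finrank_sup_add_finrank_inf_eq W (perpSpace h W)
    rw [hR, finrank_bot, add_zero, hsum] at e
    rw [e, Module.finrank_fin_fun]
  have hsymm : ∀ {u v : Fin n → F}, Cfsg.hermForm n F q u v = 0 → Cfsg.hermForm n F q v u = 0 :=
    fun e => by rw [h.unitary.herm, e, map_zero]
  have hWnd : Cfsg.Geo.IsNondegenerateOn (Cfsg.hermForm n F q) W := by
    intro w hw hw0
    have hex : ∃ x ∈ W, Cfsg.hermForm n F q w x ≠ 0 := by
      by_contra hall
      simp only [not_exists, not_and, not_not] at hall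
      exact hw0 (Submodule.disjoint_def.1 hdisj w hw hall)
    obtain ⟨x, hx, hne⟩ := hex
    exact ⟨⟨x, hx, fun e => hne (hsymm e)⟩, ⟨x, hx, hne⟩⟩
  have hPnd : Cfsg.Geo.IsNondegenerateOn (Cfsg.hermForm n F q) (perpSpace h W) := by
    intro w hw hw0
    have hex : ∃ x ∈ perpSpace h W, Cfsg.hermForm n F q w x ≠ 0 := by
      by_contra hall
      simp only [not_exists, not_and, not_not] at hall
      obtain ⟨-, ⟨z, hz⟩⟩ := h.unitary.nondegenerate w hw0
      obtain ⟨a, ha, b, hb, rfl⟩ := Submodule.mem_sup.1 (htop.ge (Submodule.mem_top : z ∈ ⊤))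
      rw [h.sesq.add_right, hw a ha, hall b hb, add_zero] at hz
      exact hz rfl
    obtain ⟨x, hx, hne⟩ := hex
    exact ⟨⟨x, hx, fun e => hne (hsymm e)⟩, ⟨x, hx, hne⟩⟩
  have hP0 : perpSpace h W ≠ ⊥ := fun e => h1 (by rw [e, sup_bot_eq] at htop; exact htop)
  have hP1 : perpSpace h W ≠ ⊤ := fun e => h0 (by rw [e, inf_top_eq] at hR; exact hR)
  obtain ⟨m, hm⟩ := hodd
  rcases Nat.lt_or_ge (2 * Module.finrank F W) n with hlt | hge
  · exact ⟨W, h0, h1, hWnd, hlt, hW⟩
  · exact ⟨_, hP0, hP1, hPnd, by omega, hperp⟩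

/-- A monomial group of isometries in odd dimension permutes orthogonal lines. -/
theorem unitary_monomial (h : IsConj q σ) (hodd : Odd n) {H N : Subgroup (GL (Fin n) F)}
    (hH : H ≤ Cfsg.GU n F q) (hNH : N ≤ H) (hirr : Cfsg.Geo.ActsIrreducibly (Cfsg.Geo.matrixSet H))
    {χ : Fin (Fintype.card (Fin n)) → N → F} (hχ : Function.Injective χ)
    (hD : Cfsg.Geo.IsMDecomposition 1 (fun i => eigSpace N (χ i)))
    (hst : H ≤ Cfsg.Geo.decompositionStabilizer fun i => eigSpace N (χ i)) :
    ∃ D : Fin n → Submodule F (Fin n → F),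
      Cfsg.Geo.IsNondegenerateMDecomposition (Cfsg.hermForm n F q) 1 D ∧
      H ≤ Cfsg.Geo.decompositionStabilizer D := by
  classical
  set D := fun i => eigSpace N (χ i) with hDdef
  set f := Cfsg.hermForm n F q with hf
  have hu := h.unitary (n := n)
  have hs := h.sesq (n := n)
  rw [← hf] at hu hs
  have hex : ∀ i, ∃ v, v ∈ D i ∧ v ≠ 0 := fun i => (Submodule.ne_bot_iff _).1 fun e => by
    have := hD.finrank_eq i
    rw [e, finrank_bot] at this
    exact zero_ne_one this
  choose v hv hv0 using hex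
  have hline : ∀ i, ∀ x ∈ D i, ∃ c : F, c • v i = x := fun i x hx =>
    CfsgLib.AschbacherOrth.line_eq_smul (hD.finrank_eq i) (hv i) (hv0 i) hx
  have hiso : ∀ {g : GL (Fin n) F}, g ∈ H → ∀ u w, f (mat g *ᵥ u) (mat g *ᵥ w) = f u w := fun hg =>
    CfsgLib.MaxSub.mem_GU_iff_forall.1 (hH hg)
  have hpair : ∀ i j, f (v i) (v j) ≠ 0 → ∀ x, χ i x * σ (χ j x) = 1 := by
    intro i j hij x
    have e := hiso (hNH x.2) (v i) (v j)
    rw [mem_eigSpace.1 (hv i) x, mem_eigSpace.1 (hv j) x, hs.smul_left, hs.smul_right, ← mul_assoc] at e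
    exact (mul_eq_right₀ hij).1 e
  have huniq : ∀ i j k, f (v i) (v j) ≠ 0 → f (v i) (v k) ≠ 0 → j = k := by
    intro i j k hj hk
    apply hχ
    funext x
    have h1 := hpair i j hj x
    exact σ.injective (mul_left_cancel₀ (left_ne_zero_of_mul_eq_one h1) (h1.trans (hpair i k hk x).symm))
  have hexj : ∀ i, ∃ j, f (v i) (v j) ≠ 0 := by
    intro i
    by_contra hall
    simp only [not_exists, not_not] at hall
    obtain ⟨-, ⟨x, hx⟩⟩ := hu.nondegenerate (v i) (hv0 i)
    apply hx
    let K : Submodule F (Fin n → F) :=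
      { carrier := {y | f (v i) y = 0}
        add_mem' := fun {a b} ha hb => by
          show f (v i) (a + b) = 0
          rw [hs.add_right, show f (v i) a = 0 from ha, show f (v i) b = 0 from hb, add_zero]
        zero_mem' := hs.zero_right _
        smul_mem' := fun c y hy => by
          show f (v i) (c • y) = 0
          rw [hs.smul_right, show f (v i) y = 0 from hy, mul_zero] }
    have htop : iSup D ≤ K := iSup_le fun j y hy => by
      obtain ⟨c, rfl⟩ := hline j y hy
      show f (v i) (c • v j) = 0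
      rw [hs.smul_right, hall j, mul_zero]
    rw [hD.iSup_eq_top] at htop
    exact htop trivial
  have haniso : ∀ i, f (v i) (v i) ≠ 0 := by
    rcases CfsgLib.AschbacherOrth.decomposition_all_or_none hirr hD hst (fun i => f (v i) (v i) ≠ 0)
      (fun g hg i j hmap hi => by
        obtain ⟨c, hc⟩ := hline j _ (map_le_iff.1 hmap.le _ (hv i))
        intro e0
        apply hi
        rw [← hiso hg (v i) (v i), ← hc, hs.smul_left, hs.smul_right, e0, mul_zero, mul_zero]) with hnone | hall
    · exfalso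
      simp only [not_not] at hnone
      choose τ hτ using hexj
      have hττ : ∀ i, τ (τ i) = i := fun i =>
        huniq (τ i) (τ (τ i)) i (hτ _) fun e => hτ i (by rw [hu.herm, e, map_zero])
      have hτne : ∀ i, τ i ≠ i := fun i e => by
        have := hτ i
        rw [e] at this
        exact this (hnone i)
      let π : Equiv.Perm (Fin (Fintype.card (Fin n))) := Function.Involutive.toPerm τ hττ
      have hsupp : π.support = Finset.univ :=
        Finset.eq_univ_iff_forall.2 fun i => Equiv.Perm.mem_support.2 (hτne i)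
      have hdvd := Equiv.Perm.two_dvd_card_support (σ := π) (by rw [pow_two]; exact Equiv.ext hττ)
      rw [hsupp, Finset.card_univ, Fintype.card_fin, Fintype.card_fin] at hdvd
      obtain ⟨m, hm⟩ := hodd
      omega
    · exact hall
  let e : Fin n ≃ Fin (Fintype.card (Fin n)) := finCongr (Fintype.card_fin n).symm
  refine ⟨fun i => D (e i), ⟨⟨?_, one_pos, fun i => hD.finrank_eq _, hD.indep.comp e.injective,
    (e.surjective.iSup_comp D).trans hD.iSup_eq_top⟩, fun i w hw hw0 => ?_, fun i j hij => ?_⟩, ?_⟩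
  · have := hD.two_le
    rwa [Fintype.card_fin] at this
  · obtain ⟨c, rfl⟩ := hline _ w hw
    have hc : c ≠ 0 := fun hc => hw0 (by rw [hc, zero_smul])
    refine ⟨⟨v (e i), hv _, ?_⟩, ⟨v (e i), hv _, ?_⟩⟩
    · rw [hs.smul_right]; exact mul_ne_zero ((map_ne_zero σ).2 hc) (haniso _)
    · rw [hs.smul_left]; exact mul_ne_zero hc (haniso _)
  · intro x hx y hy
    obtain ⟨a, rfl⟩ := hline _ x hx
    obtain ⟨b, rfl⟩ := hline _ y hy
    have h0 : f (v (e i)) (v (e j)) = 0 := by
      by_contra hne
      exact hij (e.injective (huniq _ _ _ (haniso _) hne))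
    rw [hs.smul_left, hs.smul_right, h0, mul_zero, mul_zero]
  · intro g hg
    obtain ⟨π, hπ⟩ := hst hg
    exact ⟨e.trans (π.trans e.symm), fun i => by simpa using hπ (e i)⟩

end CfsgLib.AschbacherUnitary
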