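import Cfsg.Agent.AschbacherUnitary.Proper
import Cfsg.Agent.AschbacherUnitary.Descent
import Cfsg.Agent.AschbacherUnitary.Reducible
import Cfsg.Agent.Aschbacher.LinearPrime

/-!
The list of maximal subgroups of the special unitary group in prime dimension at least five, up to the residual
class.
-/

set_option autoImplicit false

namespace CfsgLib.AschbacherUnitary

open Matrix CfsgLib.Aschbacher
open scoped commutatorElement

variable {n q : ℕ} {F : Type*} [Field F] [Fintype F] {σ : F ≃+* F}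

theorem pow_card_units (hF : Fintype.card F = q ^ 2) {c : F} (hc : c ≠ 0) : c ^ (q ^ 2 - 1) = 1 :=
  hF ▸ FiniteField.pow_card_sub_one_eq_one c hc

/-- A Heisenberg group in a scalar extension of a group of isometries consists of isometries. -/
theorem heisenberg_le_GU (hF : Fintype.card F = q ^ 2) (h : IsConj q σ) (hp : n.Prime) (hn : 3 ≤ n)
    {H R : Subgroup (GL (Fin n) F)} (hH : H ≤ SUn n F q) {ω : F} (hR : IsHeisenberg n R ω)
    (hRH : R ≤ H ⊔ Cfsg.Geo.scalars (Fin n) F) : n ∣ q + 1 ∧ R ≤ Cfsg.GU n F q := by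
  haveI : NeZero n := ⟨hp.ne_zero⟩
  haveI : Fact n.Prime := ⟨hp⟩
  have hsplit : ∀ x ∈ R, ∃ y ∈ H, ∃ c : Fˣ, x = y * scalarGL c := fun x hx => by
    obtain ⟨y, hy, s, ⟨c, rfl⟩, rfl⟩ := Subgroup.mem_sup_of_normal_right.1 (hRH hx)
    exact ⟨y, hy, c, rfl⟩
  have hval : ∀ d : Fˣ, scalarGL (ι := Fin n) d ∈ Cfsg.GU n F q ↔ (d : F) * σ d = 1 := by
    intro d
    rw [h.mem_GU_iff, mat_scalarGL, Matrix.transpose_smul, Matrix.transpose_one,
      show ((d : F) • (1 : Matrix (Fin n) (Fin n) F)).map σ = σ d • 1 from by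
        ext i j; by_cases hij : i = j <;> simp [hij],
      Matrix.smul_mul, one_mul, smul_smul]
    constructor
    · intro e
      simpa using congrFun (congrFun e ⟨0, hp.pos⟩) ⟨0, hp.pos⟩
    · intro e; rw [e, one_smul]
  have hdiv : n ∣ q + 1 := by
    obtain ⟨a, ha, b, hb, hab⟩ : ∃ a ∈ R, ∃ b ∈ R, a * b ≠ b * a := by
      by_contra hall
      simp only [not_exists, not_and, not_not] at hall
      have hsc : R ≤ Cfsg.Geo.scalars (Fin n) F := fun x hx =>
        mem_scalars_of_commute hR.absIrred (hall x hx)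
      have hcen : Subgroup.center R = ⊤ := eq_top_iff.2 fun x _ => Subgroup.mem_center_iff.2 fun y =>
        Subtype.ext (hall y.1 y.2 x.1 x.2)
      have h1 := hR.card_center
      rw [hcen, Subgroup.card_top, hR.card_eq] at h1
      nlinarith [Nat.mul_lt_mul_of_pos_left hp.one_lt (Nat.mul_pos hp.pos hp.pos), hp.two_le]
    obtain ⟨y, hy, s, hys⟩ := hsplit a ha
    obtain ⟨z, hz, t, hzt⟩ := hsplit b hb
    have hk : ⁅a, b⁆ = ⁅y, z⁆ := by
      rw [hys, hzt, commutatorElement_mul_scalar (scalarGL_mem s) (scalarGL_mem t)]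
    have hkS : ⁅a, b⁆ ∈ SUn n F q := by
      rw [hk, commutatorElement_def]
      exact mul_mem (mul_mem (mul_mem (hH hy) (hH hz)) (inv_mem (hH hy))) (inv_mem (hH hz))
    obtain ⟨c, hc⟩ := (Cfsg.Geo.mem_scalars_iff _).1 (hR.comm_scalar (Subgroup.commutator_mem_commutator ha hb))
    have hne : (c : F) ≠ 1 := fun e => hab (commutatorElement_eq_one_iff_mul_comm.1
      (Units.ext (by rw [hc, e, one_smul, Units.val_one])))
    rw [Subgroup.mem_inf] at hkS
    have hkc : ⁅a, b⁆ = scalarGL c := Units.ext (hc.trans (mat_scalarGL c).symm)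
    have h1' : (c : F) * (c : F) ^ q = 1 := by
      rw [← h.eq_pow]; exact (hval c).1 (hkc ▸ hkS.1)
    have h2 := mem_specialLinear_iff.1 hkS.2
    rw [show mat ⁅a, b⁆ = (c : F) • 1 from hc, Matrix.det_smul, Matrix.det_one, mul_one, Fintype.card_fin] at h2
    have hord : orderOf (c : F) = n := orderOf_eq_prime h2 hne
    rw [← hord]
    exact orderOf_dvd_of_pow_eq_one (by rw [pow_succ']; exact h1')
  refine ⟨hdiv, fun x hx => ?_⟩
  obtain ⟨y, hy, c, rfl⟩ := hsplit x hx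
  have hyU : y ∈ Cfsg.GU n F q := (Subgroup.mem_inf.1 (hH hy)).1
  have hexp : (y * scalarGL c) ^ n = 1 := by
    have e := Monoid.pow_exponent_eq_one (⟨_, hx⟩ : R)
    rw [hR.symplecticType.exponent_eq, (Nat.coprime_two_left.2 (hp.odd_of_ne_two (by omega))).gcd_eq_one,
      mul_one] at e
    exact congrArg Subtype.val e
  have hcU : scalarGL (ι := Fin n) (c ^ n) ∈ Cfsg.GU n F q := by
    rw [(show Commute y (scalarGL c) from (scalars_comm (scalarGL_mem c) (g := y)).symm).mul_pow] at hexp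
    have e : (scalarGL (ι := Fin n) c) ^ n = (y ^ n)⁻¹ := eq_inv_of_mul_eq_one_right hexp
    rw [show scalarGL (ι := Fin n) (c ^ n) = (scalarGL c) ^ n from map_pow _ c n, e]
    exact inv_mem (pow_mem hyU n)
  refine mul_mem hyU ((hval c).2 ?_)
  have h1 := (hval (c ^ n)).1 hcU
  rw [Units.val_pow_eq_pow_val, map_pow, ← mul_pow] at h1
  set N := (c : F) * σ c
  have hN0 : N ≠ 0 := mul_ne_zero c.ne_zero ((map_ne_zero σ).2 c.ne_zero)
  have h2 : N ^ (q - 1) = 1 := by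
    have hq := h.one_lt
    have e : N = (c : F) ^ (q + 1) := by show (c : F) * σ c = _; rw [h.eq_pow, pow_succ']
    rw [e, ← pow_mul, show (q + 1) * (q - 1) = q ^ 2 - 1 by rw [← Nat.sq_sub_sq q 1, one_pow]]
    exact pow_card_units hF c.ne_zero
  have hcop : Nat.Coprime n (q - 1) := (hp.coprime_iff_not_dvd).2 fun hd => by
    have hq := h.one_lt
    have h3 : n ∣ (q + 1) - (q - 1) := Nat.dvd_sub hdiv hd
    rw [show (q + 1) - (q - 1) = 2 by omega] at h3
    have := Nat.le_of_dvd two_pos h3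
    omega
  have h3 : N ^ Nat.gcd n (q - 1) = 1 := pow_gcd_eq_one.2 ⟨h1, h2⟩
  rwa [hcop.gcd_eq_one, pow_one] at h3

/-- A Heisenberg group of isometries is realisable over a proper subfield or the field is minimal. -/
theorem heisenberg_field (hF : Fintype.card F = q ^ 2) (hp : n.Prime) (hn : 3 ≤ n)
    {R : Subgroup (GL (Fin n) F)} {ω : F} (hR : IsHeisenberg n R ω) (hdiv : n ∣ q + 1) :
    (∃ F₀ : Subfield F, F₀ ≠ ⊤ ∧ Cfsg.Geo.RealisableOver F₀ (Cfsg.Geo.matrixSet R)) ∨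
    ∃ p j : ℕ, p.Prime ∧ CharP F p ∧ q = p ^ j ∧ orderOf (p : ZMod n) = 2 * j := by
  classical
  haveI : Fact n.Prime := ⟨hp⟩
  obtain ⟨p, hchar⟩ := CharP.exists F
  haveI := hchar
  haveI : Fact p.Prime := ⟨CharP.char_is_prime F p⟩
  haveI : ExpChar F p := ExpChar.prime Fact.out
  obtain ⟨a, hpp, ha⟩ := FiniteField.card F p
  obtain ⟨j, -, hj⟩ := (Nat.dvd_prime_pow hpp).1 (show q ∣ p ^ (a : ℕ) by rw [← ha, hF]; exact dvd_pow_self q two_ne_zero)
  have ha2 : (a : ℕ) = 2 * j := Nat.pow_right_injective hpp.two_le (by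
    show p ^ (a : ℕ) = p ^ (2 * j)
    rw [← ha, hF, hj, ← pow_mul, mul_comm])
  have hω := hR.primitive
  have hcast : ∀ k : ℕ, (p : ZMod n) ^ k = 1 ↔ n ∣ p ^ k - 1 := fun k => by
    rw [← ZMod.natCast_eq_zero_iff, Nat.cast_sub (Nat.one_le_pow _ _ hpp.pos), sub_eq_zero,
      Nat.cast_pow, Nat.cast_one]
  have hdiv' : n ∣ p ^ (a : ℕ) - 1 := by
    have h1 : ω ^ (Fintype.card F - 1) = 1 :=
      FiniteField.pow_card_sub_one_eq_one ω (hω.ne_zero hp.ne_zero)
    rw [ha] at h1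
    exact hω.dvd_of_pow_eq_one _ h1
  set e := orderOf (p : ZMod n) with he
  have hea : e ∣ a := orderOf_dvd_of_pow_eq_one ((hcast a).2 hdiv')
  have he0 : 0 < e := Nat.pos_of_dvd_of_pos hea a.pos
  rcases (Nat.le_of_dvd a.pos hea).lt_or_eq with hlt | heq
  · left
    obtain ⟨B, hB⟩ := hR.monomial
    let F₀ : Subfield F := (iterateFrobenius F p e).eqLocusField (RingHom.id F)
    have hωe : ω ^ p ^ e = ω := by
      have h1 : ω ^ (p ^ e - 1) = 1 :=
        (hω.pow_eq_one_iff_dvd _).2 ((hcast e).1 (pow_orderOf_eq_one _))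
      calc ω ^ p ^ e = ω ^ (p ^ e - 1) * ω := by
            rw [← pow_succ, Nat.sub_add_cancel (Nat.one_le_pow _ _ hpp.pos)]
        _ = ω := by rw [h1, one_mul]
    have hne : F₀ ≠ ⊤ := by
      intro htop
      obtain ⟨g, hg⟩ := IsCyclic.exists_generator (α := Fˣ)
      have h1 : (g : F) ^ p ^ e = g := by
        have : (g : F) ∈ F₀ := htop ▸ trivial
        exact this
      have h2 : g ^ (p ^ e - 1) = 1 := by
        apply Units.ext
        rw [Units.val_pow_eq_pow_val, Units.val_one]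
        rw [← Nat.sub_add_cancel (Nat.one_le_pow e p hpp.pos), pow_succ] at h1
        exact (mul_eq_right₀ g.ne_zero).1 h1
      have h3 : Fintype.card F - 1 ∣ p ^ e - 1 := by
        rw [← Fintype.card_units, ← Nat.card_eq_fintype_card,
          ← orderOf_eq_card_of_forall_mem_zpowers hg]
        exact orderOf_dvd_of_pow_eq_one h2
      have h4 : 1 < p ^ e := Nat.one_lt_pow he0.ne' hpp.one_lt
      have h5 := Nat.le_of_dvd (by omega) h3
      have h6 : p ^ e < p ^ (a : ℕ) := Nat.pow_lt_pow_right hpp.one_lt hlt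
      omega
    refine ⟨F₀, hne, B, forall_matrixSet.2 fun x hx i k => ?_⟩
    obtain ⟨π, d, hd, hm⟩ := hB x hx
    show (mat B * mat x * mat B⁻¹) i k ∈ F₀
    rw [hm]
    simp only [monomialMat, Matrix.of_apply]
    split_ifs
    · obtain ⟨l, -, hl⟩ := hω.eq_pow_of_pow_eq_one (hd i)
      rw [← hl]
      exact F₀.pow_mem (show ω ∈ F₀ from hωe) l
    · exact F₀.zero_mem
  · exact Or.inr ⟨p, j, hpp, hchar, hj, heq.trans ha2⟩

/-- The extension field commuting with a normalised group of isometries is closed under adjoints. -/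
theorem adjointClosed_commutant (h : IsConj q σ) {N : Subgroup (GL (Fin n) F)} (hN : N ≤ Cfsg.GU n F q) :
    Cfsg.Geo.IsAdjointClosedFor (Cfsg.hermForm n F q) (commutant (Cfsg.Geo.matrixSet N)) := by
  intro k hk
  refine ⟨(k.map σ)ᵀ, ?_, fun u v => ?_⟩
  · rw [mem_commutant, forall_matrixSet] at hk ⊢
    intro x hx
    have hi : ((mat x⁻¹).map σ)ᵀ = mat x := by
      have e := congrArg Matrix.transpose (h.mem_GU_iff.1 (hN (inv_mem hx)))
      rw [Matrix.transpose_mul, Matrix.transpose_transpose, Matrix.transpose_one] at e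
      calc ((mat x⁻¹).map σ)ᵀ = ((mat x⁻¹).map σ)ᵀ * (mat x⁻¹ * mat x) := by rw [mat_inv_mul, mul_one]
        _ = mat x := by rw [← mul_assoc, e, one_mul]
    have e := congrArg (fun M : Matrix (Fin n) (Fin n) F => (M.map σ)ᵀ) (hk x⁻¹ (inv_mem hx))
    simp only [map_mat_mul, Matrix.transpose_mul, hi] at e
    exact e.symm
  · rw [h.herm_eq, h.herm_eq]
    simp only [Matrix.mulVec, dotProduct, Matrix.transpose_apply, Matrix.map_apply, map_sum, map_mul,
      h.involutive, Finset.sum_mul, Finset.mul_sum]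
    rw [Finset.sum_comm]
    exact Finset.sum_congr rfl fun a _ => Finset.sum_congr rfl fun b _ => by ring

/-- Maximal subgroups of the special unitary group in prime dimension at least five. -/
theorem unitary_prime_cases (hF : Fintype.card F = q ^ 2) (hp : n.Prime) (h5 : 5 ≤ n)
    {H : Subgroup (GL (Fin n) F)} (hH : Cfsg.Geo.IsMaximalIn (SUn n F q) H) :
    (∃ W : Submodule F (Fin n → F), W ≠ ⊥ ∧ Cfsg.Geo.IsTotallySingularFor (Cfsg.hermForm n F q) W ∧
      H = Cfsg.Geo.subspaceStabilizer W ⊓ SUn n F q) ∨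
    (∃ W : Submodule F (Fin n → F), W ≠ ⊥ ∧ Cfsg.Geo.IsNondegenerateOn (Cfsg.hermForm n F q) W ∧
      2 * Module.finrank F W < n ∧ H = Cfsg.Geo.subspaceStabilizer W ⊓ SUn n F q) ∨
    (∃ D : Fin n → Submodule F (Fin n → F),
      Cfsg.Geo.IsNondegenerateMDecomposition (Cfsg.hermForm n F q) 1 D ∧
      H = Cfsg.Geo.decompositionStabilizer D ⊓ SUn n F q) ∨
    (∃ K : Subalgebra F (Matrix (Fin n) (Fin n) F), Cfsg.Geo.IsFieldSubalgebra n K ∧
      Cfsg.Geo.IsAdjointClosedFor (Cfsg.hermForm n F q) K ∧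
      H = Cfsg.Geo.subalgebraNormalizer K ⊓ SUn n F q) ∨
    (∃ (F₀ : Subfield F) (r : ℕ) (P : GL (Fin n) F), r.Prime ∧ Odd r ∧ Fintype.card F = Nat.card F₀ ^ r ∧
      Cfsg.Geo.IsFormRationalStructure (Cfsg.hermForm n F q) F₀ 1 P ∧
      H = Cfsg.Geo.subfieldSubgroup F₀ P ⊓ SUn n F q) ∨
    (Odd q ∧ ∃ (F₀ : Subfield F) (P : GL (Fin n) F), Fintype.card F = Nat.card F₀ ^ 2 ∧
      Cfsg.Geo.IsFormRationalStructure (Cfsg.hermForm n F q) F₀ 1 P ∧
      H = Cfsg.Geo.subfieldSubgroup F₀ P ⊓ SUn n F q) ∨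
    (∃ (p j : ℕ) (R : Subgroup (GL (Fin n) F)), p.Prime ∧ CharP F p ∧ q = p ^ j ∧
      orderOf (p : ZMod n) = 2 * j ∧ Cfsg.Geo.IsSymplecticTypeGroup n R ∧
      Cfsg.Geo.ActsAbsolutelyIrreducibly (Cfsg.Geo.matrixSet R) ∧ R ≤ Cfsg.GU n F q ∧
      Nat.card R = n ^ 3 ∧ Nat.card (Subgroup.center R) = n ∧
      H = Cfsg.Geo.subgroupNormalizer R ⊓ SUn n F q) ∨
    Cfsg.Geo.InUnitaryResidualClass H := by
  classical
  obtain ⟨σ, h⟩ := exists_isConj (F := F) hF
  haveI : NeZero n := ⟨hp.ne_zero⟩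
  have hodd : Odd n := hp.odd_of_ne_two (by omega)
  have hHU : H ≤ Cfsg.GU n F q := hH.1.le.trans inf_le_left
  by_cases hirr : Cfsg.Geo.ActsIrreducibly (Cfsg.Geo.matrixSet H)
  swap
  · rcases reducible_cases h hodd hHU hirr with ⟨W, h0, h1, hts, hle⟩ | ⟨W, h0, h1, hnd, hd, hle⟩
    · exact Or.inl ⟨W, h0, hts, eq_inf_of_maximal hH hle (not_le_subspaceStabilizer hF h h5 h0 h1)⟩
    · exact Or.inr (Or.inl ⟨W, h0, hnd, hd,
        eq_inf_of_maximal hH hle (not_le_subspaceStabilizer hF h h5 h0 h1)⟩)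
  right; right
  have hcard : Fintype.card (Fin n) = n := Fintype.card_fin n
  have hdescent : ∀ {F₀ : Subfield F}, F₀ ≠ ⊤ → ∀ {R : Subgroup (GL (Fin n) F)}, Normalizes H R →
      R ≤ Cfsg.GU n F q → Cfsg.Geo.ActsAbsolutelyIrreducibly (Cfsg.Geo.matrixSet R) →
      Cfsg.Geo.RealisableOver F₀ (Cfsg.Geo.matrixSet R) →
    (∃ (F₀ : Subfield F) (r : ℕ) (P : GL (Fin n) F), r.Prime ∧ Odd r ∧ Fintype.card F = Nat.card F₀ ^ r ∧
      Cfsg.Geo.IsFormRationalStructure (Cfsg.hermForm n F q) F₀ 1 P ∧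
      H = Cfsg.Geo.subfieldSubgroup F₀ P ⊓ SUn n F q) ∨
    (Odd q ∧ ∃ (F₀ : Subfield F) (P : GL (Fin n) F), Fintype.card F = Nat.card F₀ ^ 2 ∧
      Cfsg.Geo.IsFormRationalStructure (Cfsg.hermForm n F q) F₀ 1 P ∧
      H = Cfsg.Geo.subfieldSubgroup F₀ P ⊓ SUn n F q) := by
    intro F₀ h0 R hnorm hRU hR hreal
    rcases exists_unitary_subfield hF h hodd (by omega) h0 hnorm hRU hR hreal with
      ⟨F₁, r, P, hr, hro, hc, hP, hle⟩ | ⟨hq, F₁, P, hc, hP, hle⟩
    · exact Or.inl ⟨F₁, r, P, hr, hro, hc, hP,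
        eq_inf_of_maximal hH hle (not_le_subfieldSubgroup hF h h5 hr hc P)⟩
    · exact Or.inr ⟨hq, F₁, P, hc, hP,
        eq_inf_of_maximal hH hle (not_le_subfieldSubgroup hF h h5 Nat.prime_two hc P)⟩
  rcases aschbacher_prime (ι := Fin n) (by rwa [hcard]) (by omega) (hH.1.le.trans inf_le_right) hirr with
    ⟨N, hNH, χ, -, hχ, hD, hst⟩ | ⟨N, hNH, -, hK, hle⟩ | ⟨R, ω, hR, hnorm, hRH⟩ | ⟨P, hP⟩
  · obtain ⟨D, hD', hle⟩ := unitary_monomial h hodd hHU hNH hirr hχ hD hst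
    exact Or.inl ⟨D, hD', eq_inf_of_maximal hH hle (not_le_decompositionStabilizer h h5 hD')⟩
  · rw [hcard] at hK
    exact Or.inr (Or.inl ⟨_, hK, adjointClosed_commutant h (hNH.trans hHU),
      eq_inf_of_maximal hH hle (not_le_subalgebraNormalizer hF h h5 hp.two_le hK)⟩)
  · rw [hcard] at hR
    obtain ⟨hdiv, hRU⟩ := heisenberg_le_GU hF h hp (by omega) hH.1.le hR hRH
    rcases heisenberg_field hF hp (by omega) hR hdiv with ⟨F₀, h0, hreal⟩ | ⟨p, j, hp', hchar, hq, hord⟩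
    · rcases hdescent h0 hnorm hRU hR.absIrred hreal with h1 | h1
      · exact Or.inr (Or.inr (Or.inl h1))
      · exact Or.inr (Or.inr (Or.inr (Or.inl h1)))
    · refine Or.inr (Or.inr (Or.inr (Or.inr (Or.inl ⟨p, j, R, hp', hchar, hq, hord, hR.symplecticType,
        hR.absIrred, hRU, hR.card_eq, hR.card_center,
        eq_inf_of_maximal hH (fun g hg => mem_subgroupNormalizer_of (hnorm g hg)) fun hle => ?_⟩))))
      exact not_normalizes h h5 hR.absIrred hR.comm_scalar fun g hg x hx =>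
        (Subgroup.mem_set_normalizer_iff.1 (hle hg) x).1 hx
  · have hPU : P ≤ Cfsg.GU n F q := hP.le.trans hHU
    by_cases hreal : ∃ F₀ : Subfield F, F₀ ≠ ⊤ ∧ Cfsg.Geo.RealisableOver F₀ (Cfsg.Geo.matrixSet P)
    · obtain ⟨F₀, h0, hr⟩ := hreal
      rcases hdescent h0 hP.normal hPU hP.absIrred hr with h1 | h1
      · exact Or.inr (Or.inr (Or.inl h1))
      · exact Or.inr (Or.inr (Or.inr (Or.inl h1)))
    · refine Or.inr (Or.inr (Or.inr (Or.inr (Or.inr ⟨P, hP.toResidualCore fun F₀ h0 hr => hreal ⟨F₀, h0, hr⟩,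
        ?_, ?_⟩))))
      · rintro ⟨Q, hQ, hfix⟩
        exact hreal (realisable_of_quadratic hodd h hP.absIrred hPU hQ hfix)
      · rintro ⟨f, hf, -⟩
        exact no_symplectic_of_odd hf (by rwa [hcard])

end CfsgLib.AschbacherUnitary
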