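import Cfsg.Agent.AschbacherTwelve.Unitary
import Cfsg.Agent.Linear.SmallFields

/-!
In the special unitary group of degree six over four elements monomial groups are not maximal: they stabilise a
set of isotropic vectors which a further transvection stabilises as well.
-/

set_option autoImplicit false
set_option maxHeartbeats 1000000

namespace CfsgLib.AschbacherUnitary.SixTwo

open Matrix CfsgLib.Aschbacher CfsgLib.AschbacherForms CfsgLib.AschbacherUnitary CfsgLib.Linear
attribute [-simp] RingEquiv.coe_refl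

variable {F : Type*} [Field F] [Fintype F] {σ : F ≃+* F}

/-- The distinguished vectors: two non-zero coordinates, or six with product one. -/
def InS [DecidableEq F] (x : Fin 6 → F) : Prop :=
  (Finset.univ.filter fun i => x i ≠ 0).card = 2 ∨ ∏ i, x i = 1

instance [DecidableEq F] (x : Fin 6 → F) : Decidable (InS x) := by unfold InS; infer_instance

theorem closed_table : ∀ a b c d e f : GF4, InS ![a, b, c, d, e, f] →
    InS (fun i => ![a, b, c, d, e, f] i + (a + b + c + d + e + f)) := by decide +kernel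

theorem closed_gf4 (x : Fin 6 → GF4) (h : InS x) : InS (fun i => x i + ∑ j, x j) := by
  have hx : x = ![x 0, x 1, x 2, x 3, x 4, x 5] := by funext i; fin_cases i <;> rfl
  rw [hx] at h ⊢
  have := closed_table _ _ _ _ _ _ h
  simpa [Fin.sum_univ_six] using this

theorem closed [DecidableEq F] (hF : Fintype.card F = 4) (x : Fin 6 → F) (h : InS x) :
    InS (fun i => x i + ∑ j, x j) := by
  let e : F ≃+* GF4 := FiniteField.ringEquivOfCardEq (by rw [card_gf4, hF])
  have htr : ∀ y : Fin 6 → F, InS (fun i => e (y i)) ↔ InS y := fun y => by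
    simp [InS, ← map_prod]
  have h1 := closed_gf4 (fun i => e (x i)) ((htr x).2 h)
  rw [← htr]
  simpa [map_sum] using h1

theorem two_eq_zero (hF : Fintype.card F = 4) : (2 : F) = 0 := by
  have h' := FiniteField.cast_card_eq_zero F
  rw [hF] at h'
  have h4 : (2 : F) * 2 = 0 := by
    rw [show (2 : F) * 2 = ((4 : ℕ) : F) by norm_num]; exact h'
  exact mul_self_eq_zero.mp h4

/-- A monomial group in dimension six over four elements is not maximal. -/
theorem not_maximal_monomial (hF : Fintype.card F = 4) (h : IsConj 2 σ) {H : Subgroup (GL (Fin 6) F)}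
    (hH : H ≤ SUn 6 F 2) {B : GL (Fin 6) F} (hB : B ∈ Cfsg.GU 6 F 2)
    (hmon : ∀ g ∈ H, ∀ j, ∃ k, ∃ c : F, mat g *ᵥ (mat B *ᵥ Pi.single j 1) = c • (mat B *ᵥ Pi.single k 1)) :
    ∃ L : Subgroup (GL (Fin 6) F), H < L ∧ L < SUn 6 F 2 := by
  classical
  have h2 := two_eq_zero hF
  have hneg : ∀ x : F, -x = x := fun x => by linear_combination (-x) * h2
  have hu := h.unitary (n := 6)
  have hs := MaxSub.sesqForm_of_unitary hu
  let y : GL (Fin 6) F → (Fin 6 → F) → (Fin 6 → F) := fun g x => mat (B⁻¹ * g * B) *ᵥ x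
  let L : Subgroup (GL (Fin 6) F) :=
    { carrier := {g | g ∈ SUn 6 F 2 ∧ ∀ x, InS (y g x) ↔ InS x}
      one_mem' := ⟨one_mem _, fun x => by simp [y, mat]⟩
      mul_mem' := fun {a b} ha hb => ⟨mul_mem ha.1 hb.1, fun x => by
        have e : y (a * b) x = y a (y b x) := by
          show mat _ *ᵥ x = mat _ *ᵥ (mat _ *ᵥ x)
          rw [Matrix.mulVec_mulVec, ← Units.val_mul,
            show B⁻¹ * a * B * (B⁻¹ * b * B) = B⁻¹ * (a * b) * B by group]
        rw [e, ha.2, hb.2]⟩
      inv_mem' := fun {a} ha => ⟨inv_mem ha.1, fun x => by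
        have e : y a (y a⁻¹ x) = x := by
          show mat _ *ᵥ (mat _ *ᵥ x) = x
          rw [Matrix.mulVec_mulVec, ← Units.val_mul,
            show B⁻¹ * a * B * (B⁻¹ * a⁻¹ * B) = 1 by group]
          simp
        conv_rhs => rw [← e]
        exact (ha.2 _).symm⟩ }
  have hHL : H ≤ L := by
    intro g hg
    refine ⟨hH hg, fun x => ?_⟩
    choose k c hkc using hmon g hg
    let M := B⁻¹ * g * B
    have hcol : ∀ j, mat M *ᵥ Pi.single j 1 = c j • (Pi.single (k j) 1 : Fin 6 → F) := by
      intro j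
      refine mulVec_injective B ?_
      show mat B *ᵥ (mat M *ᵥ Pi.single j 1) = mat B *ᵥ (c j • Pi.single (k j) 1)
      rw [Matrix.mulVec_smul, ← hkc, Matrix.mulVec_mulVec, Matrix.mulVec_mulVec, ← Units.val_mul, ← Units.val_mul]
      simp [M, mul_assoc]
    have hk : Function.Injective k := by
      intro i j hij
      by_contra hne
      have e : mat M *ᵥ (c j • Pi.single i 1 - c i • (Pi.single j 1 : Fin 6 → F)) = mat M *ᵥ 0 := by
        rw [Matrix.mulVec_sub, Matrix.mulVec_smul, Matrix.mulVec_smul, hcol, hcol, hij, smul_smul, smul_smul,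
          mul_comm (c i), sub_self, Matrix.mulVec_zero]
      have e2 : c j • Pi.single i 1 - c i • (Pi.single j 1 : Fin 6 → F) = 0 := mulVec_injective M e
      have e3 := congrFun e2 i
      simp [hne] at e3
      have e4 := hcol j
      rw [e3, zero_smul] at e4
      have e5 : (Pi.single j 1 : Fin 6 → F) = 0 := mulVec_injective M (e4.trans (Matrix.mulVec_zero _).symm)
      simpa using congrFun e5 j
    let π : Equiv.Perm (Fin 6) := Equiv.ofBijective k (Finite.injective_iff_bijective.1 hk)
    have hM : mat M = monomialMat π.symm (fun i => c (π.symm i)) := by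
      refine Matrix.ext fun i j => ?_
      have e := congrFun (hcol j) i
      rw [Matrix.mulVec_single_one] at e
      rw [show mat M i j = c j * (Pi.single (k j) 1 : Fin 6 → F) i from e]
      by_cases hij : j = π.symm i
      · subst hij
        have : k (π.symm i) = i := π.apply_symm_apply i
        simp [monomialMat, this]
      · have hne : i ≠ k j := fun e' => hij (by rw [e']; exact (π.symm_apply_apply j).symm)
        simp [monomialMat, hij, hne]
    have hy : ∀ i, y g x i = c (π.symm i) * x (π.symm i) := fun i => by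
      show (mat M *ᵥ x) i = _
      rw [hM]
      simp [monomialMat, Matrix.mulVec, dotProduct]
    have hdet : ∏ i, c i = 1 := by
      have e : (mat M).det = 1 := by
        show (mat (B⁻¹ * g * B)).det = 1
        rw [show mat (B⁻¹ * g * B) = mat B⁻¹ * mat g * mat B from rfl, Matrix.det_units_conj']
        exact mem_specialLinear_iff.1 (Subgroup.mem_inf.1 (hH hg)).2
      have hdec : mat M = Matrix.diagonal (fun i => c (π.symm i)) * Equiv.Perm.permMatrix F π.symm := by
        rw [hM]
        refine Matrix.ext fun i j => ?_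
        by_cases hij : j = π.symm i <;>
          simp [monomialMat, Matrix.diagonal_mul, Equiv.Perm.permMatrix, PEquiv.toMatrix_apply, hij, eq_comm]
      rw [hdec, Matrix.det_mul, Matrix.det_diagonal, Matrix.det_permutation, Equiv.prod_comp π.symm c] at e
      rcases Int.units_eq_one_or (Equiv.Perm.sign π.symm) with hsg | hsg <;> rw [hsg] at e
      · simpa using e
      · simpa [hneg] using e
    have hc0 : ∀ i, c i ≠ 0 := fun i hi =>
      zero_ne_one ((Finset.prod_eq_zero (Finset.mem_univ i) hi).symm.trans hdet)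
    have h1 : ∏ i, y g x i = ∏ i, x i := by
      simp only [hy, Finset.prod_mul_distrib, Equiv.prod_comp π.symm c, hdet, one_mul, Equiv.prod_comp π.symm x]
    have h2' : (Finset.univ.filter fun i => y g x i ≠ 0).card = (Finset.univ.filter fun i => x i ≠ 0).card := by
      refine Finset.card_bij' (fun i _ => π.symm i) (fun i _ => π i) ?_ ?_ ?_ ?_ <;>
        simp [hy, hc0]
    simp only [InS, h1, h2']
  -- the further transvection
  let r : Fin 6 → F := fun _ => 1
  have hherm : ∀ u v : Fin 6 → F, Cfsg.hermForm 6 F 2 (mat B *ᵥ u) (mat B *ᵥ v) = Cfsg.hermForm 6 F 2 u v :=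
    fun u v => MaxSub.mem_GU_iff_forall.1 hB u v
  have hσ1 : σ (1 : F) = -1 := by rw [map_one, hneg]
  have htv : ∀ v : Fin 6 → F, Cfsg.hermForm 6 F 2 v v = 0 → ∃ t ∈ SUn 6 F 2,
      ∀ x, y t x = x + Cfsg.hermForm 6 F 2 x v • v := by
    intro v hv
    have hw : Cfsg.hermForm 6 F 2 (mat B *ᵥ v) (mat B *ᵥ v) = 0 := by rw [hherm, hv]
    refine ⟨_, MaxSub.hermTv_mem hu hw hσ1, fun x => ?_⟩
    have h0 : MaxSub.leftVec (Cfsg.hermForm 6 F 2) (mat B *ᵥ v) ⬝ᵥ ((1 : F) • (mat B *ᵥ v)) = 0 := by
      rw [dotProduct_smul, hs.dot_leftVec, hw, smul_zero]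
    refine mulVec_injective B ?_
    show mat B *ᵥ (mat _ *ᵥ x) = mat B *ᵥ _
    rw [Matrix.mulVec_mulVec, ← Units.val_mul, mul_assoc B⁻¹, mul_inv_cancel_left, Units.val_mul,
      ← Matrix.mulVec_mulVec, MaxSub.tv_mulVec h0, hs.dot_leftVec, hherm, Matrix.mulVec_add, Matrix.mulVec_smul,
      one_smul]
  obtain ⟨t, ht, hty⟩ := htv r (by
    rw [h.herm_eq]; simp [r]
    linear_combination (3 : F) * h2)
  have hyt : ∀ x i, y t x i = x i + ∑ j, x j := fun x i => by
    rw [hty]; simp [h.herm_eq, r]
  have htL : t ∈ L := by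
    refine ⟨ht, fun x => ⟨fun hx => ?_, fun hx => ?_⟩⟩
    · have e := closed hF _ hx
      refine cast (congrArg InS (funext fun i => ?_)) e
      simp only [hyt, Finset.sum_add_distrib, Finset.sum_const, Finset.card_univ, Fintype.card_fin, nsmul_eq_mul]
      push_cast
      linear_combination (4 * ∑ j, x j) * h2
    · rw [show y t x = fun i => x i + ∑ j, x j from funext (hyt x)]
      exact closed hF x hx
  refine ⟨L, lt_of_le_of_ne hHL fun e => ?_, lt_of_le_of_ne (fun g hg => hg.1) fun e => ?_⟩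
  · obtain ⟨k, c, hkc⟩ := hmon t (e ▸ htL) 0
    have e1 : y t (Pi.single 0 1) = c • (Pi.single k 1 : Fin 6 → F) := by
      refine mulVec_injective B ?_
      show mat B *ᵥ (mat _ *ᵥ _) = mat B *ᵥ _
      rw [Matrix.mulVec_smul, ← hkc, Matrix.mulVec_mulVec, Matrix.mulVec_mulVec, ← Units.val_mul, ← Units.val_mul]
      simp [mul_assoc]
    have e2 : ∀ i, y t (Pi.single 0 1) i = (if i = k then c else 0) := fun i => by
      rw [e1]; by_cases hik : i = k <;> simp [hik]
    by_cases hk1 : k = 1
    · have := e2 2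
      rw [hyt, hk1] at this
      simp at this
    · have := e2 1
      rw [hyt, if_neg (Ne.symm hk1)] at this
      simp at this
  · let v : Fin 6 → F := ![1, 1, 1, 1, 0, 0]
    obtain ⟨t', ht', hty'⟩ := htv v (by
      rw [h.herm_eq]; simp [v, Fin.sum_univ_six]
      linear_combination (2 : F) * h2)
    have hx : InS (![1, 0, 0, 0, 1, 0] : Fin 6 → F) := by
      refine Or.inl ?_
      rw [show (Finset.univ.filter fun i => (![1, 0, 0, 0, 1, 0] : Fin 6 → F) i ≠ 0) = {0, 4} from ?_]
      · rfl
      · ext i; fin_cases i <;> simp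
    have hmem : t' ∈ L := e ▸ ht'
    have hbad := (hmem.2 _).2 hx
    rw [hty', h.herm_eq] at hbad
    have e11 : (1 : F) + 1 = 0 := by linear_combination h2
    have hyv : (![1, 0, 0, 0, 1, 0] : Fin 6 → F) + (∑ i, (![1, 0, 0, 0, 1, 0] : Fin 6 → F) i * σ (v i)) • v =
        ![0, 1, 1, 1, 1, 0] := by
      funext i
      fin_cases i <;> simp [v, Fin.sum_univ_six, e11]
    rw [hyv] at hbad
    rcases hbad with hc | hc
    · rw [show (Finset.univ.filter fun i => (![0, 1, 1, 1, 1, 0] : Fin 6 → F) i ≠ 0) = {1, 2, 3, 4} from ?_] at hc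
      · simp at hc
      · ext i; fin_cases i <;> simp
    · rw [Finset.prod_eq_zero (Finset.mem_univ 0) (by simp)] at hc
      exact zero_ne_one hc

/-- Six orthogonal lines are not maximal. -/
theorem not_maximal_lines (hF : Fintype.card F = 4) (h : IsConj 2 σ) {D : Fin 6 → Submodule F (Fin 6 → F)}
    (hD : Cfsg.Geo.IsNondegenerateMDecomposition (Cfsg.hermForm 6 F 2) 1 D) :
    ∃ L : Subgroup (GL (Fin 6) F), Cfsg.Geo.decompositionStabilizer D ⊓ SUn 6 F 2 < L ∧ L < SUn 6 F 2 := by
  obtain ⟨B, hB, hBD⟩ := exists_orthonormal h hD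
  refine not_maximal_monomial hF h inf_le_right hB fun g hg j => ?_
  obtain ⟨π, hπ⟩ := hg.1
  have h1 := map_le_iff.1 (hπ j).le (mat B *ᵥ Pi.single j 1) (hBD j ▸ Submodule.mem_span_singleton_self _)
  rw [hBD] at h1
  obtain ⟨c, hc⟩ := Submodule.mem_span_singleton.1 h1
  exact ⟨π j, c, hc.symm⟩

/-- Three orthogonal planes are not maximal. -/
theorem not_maximal_planes (hF : Fintype.card F = 4) (h : IsConj 2 σ) {D : Fin 3 → Submodule F (Fin 6 → F)}
    (hD : Cfsg.Geo.IsNondegenerateMDecomposition (Cfsg.hermForm 6 F 2) 2 D) :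
    ∃ L : Subgroup (GL (Fin 6) F), Cfsg.Geo.decompositionStabilizer D ⊓ SUn 6 F 2 < L ∧ L < SUn 6 F 2 := by
  classical
  have h2 := two_eq_zero hF
  have hu := h.unitary (n := 6)
  have hf := isReflexive_unitary hu
  have hfixed : ∀ x : F, σ x = x → x = 0 ∨ x = 1 := fun x hx => by
    rw [h.eq_pow] at hx
    have h1 : x * (x - 1) = 0 := by linear_combination hx
    rcases mul_eq_zero.1 h1 with h3 | h3
    · exact Or.inl h3
    · exact Or.inr (sub_eq_zero.1 h3)
  have hcube : ∀ c : F, c ≠ 0 → c * c ^ 2 = 1 := fun c hc => by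
    have := FiniteField.pow_card_sub_one_eq_one c hc
    rw [hF] at this
    linear_combination this
  have hpair : ∀ i, ∃ u : Fin 2 → Fin 6 → F, (∀ r, u r ∈ D i) ∧
      (∀ r s, Cfsg.hermForm 6 F 2 (u r) (u s) = if r = s then 1 else 0) ∧
      ∀ x ∈ D i, Cfsg.hermForm 6 F 2 x x = 1 → ∃ r, ∃ c : F, x = c • u r := by
    intro i
    obtain ⟨a, ha, haa⟩ : ∃ a ∈ D i, Cfsg.hermForm 6 F 2 a a ≠ 0 := by
      by_contra hcon
      push Not at hcon
      obtain ⟨z, hz, hz0⟩ := (Submodule.ne_bot_iff _).1 (fun e => by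
        have := hD.decomp.finrank_eq i
        rw [e, finrank_bot] at this
        omega : D i ≠ ⊥)
      obtain ⟨⟨t, ht, htz⟩, -⟩ := hD.nondegenerate i z hz hz0
      obtain ⟨m, hm⟩ := MaxSub.trace_surjective hu.ne_refl hu.involutive (a := (1 : F)) (map_one σ)
      have e := hcon ((m / Cfsg.hermForm 6 F 2 t z) • t + z) ((D i).add_mem ((D i).smul_mem _ ht) hz)
      rw [hf.sesq.add_left, hf.sesq.add_right, hf.sesq.add_right, hf.sesq.smul_left, hf.sesq.smul_left,
        hf.sesq.smul_right, hf.sesq.smul_right, hcon t ht, hcon z hz, mul_zero, mul_zero, zero_add, add_zero,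
        hu.herm z t, ← map_mul, div_mul_cancel₀ _ htz, hm] at e
      exact one_ne_zero e
    have ha1 : Cfsg.hermForm 6 F 2 a a = 1 := (hfixed _ (hu.herm a a).symm).resolve_left haa
    obtain ⟨x, hx, hxa⟩ : ∃ x ∈ D i, ∀ c : F, x ≠ c • a := by
      by_contra hall
      push Not at hall
      have h1 := Submodule.finrank_mono (show D i ≤ Submodule.span F {a} from fun z hz => by
        obtain ⟨c, rfl⟩ := hall z hz
        exact Submodule.smul_mem _ _ (Submodule.mem_span_singleton_self _))
      have h3 := finrank_span_le_card (R := F) ({a} : Set (Fin 6 → F))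
      simp at h3
      rw [hD.decomp.finrank_eq i] at h1
      omega
    let b := x - Cfsg.hermForm 6 F 2 x a • a
    have hbD : b ∈ D i := Submodule.sub_mem _ hx (Submodule.smul_mem _ _ ha)
    have hb0 : b ≠ 0 := fun e => hxa _ (sub_eq_zero.1 e)
    have hba : Cfsg.hermForm 6 F 2 b a = 0 := by
      show Cfsg.hermForm 6 F 2 (x - _) a = 0
      rw [sub_eq_add_neg, ← neg_smul, hf.sesq.add_left, hf.sesq.smul_left, ha1, mul_one, add_neg_cancel]
    have hab := hf.orth_comm hba
    have hspan : ∀ z ∈ D i, ∃ p q : F, z = p • a + q • b := by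
      intro z hz
      have hli : LinearIndependent F ![(⟨a, ha⟩ : D i), ⟨b, hbD⟩] := by
        rw [LinearIndependent.pair_iff]
        intro p q hpq
        have e := congrArg Subtype.val hpq
        simp only [Submodule.coe_add, SetLike.val_smul, Submodule.coe_zero] at e
        have e1 := congrArg (fun w => Cfsg.hermForm 6 F 2 w a) e
        simp only [hf.sesq.add_left, hf.sesq.smul_left, ha1, hba, hf.zero_left, mul_one, mul_zero, add_zero] at e1
        rw [e1, zero_smul, zero_add] at e
        exact ⟨e1, (smul_eq_zero.1 e).resolve_right hb0⟩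
      let bb := basisOfLinearIndependentOfCardEqFinrank hli (by rw [hD.decomp.finrank_eq i]; rfl)
      refine ⟨bb.repr ⟨z, hz⟩ 0, bb.repr ⟨z, hz⟩ 1, ?_⟩
      have e := congrArg Subtype.val (bb.sum_repr ⟨z, hz⟩).symm
      simpa [bb, Fin.sum_univ_two] using e
    have hb1 : Cfsg.hermForm 6 F 2 b b = 1 := by
      refine (hfixed _ (hu.herm b b).symm).resolve_left fun h0 => ?_
      obtain ⟨⟨z, hz, hzb⟩, -⟩ := hD.nondegenerate i b hbD hb0
      obtain ⟨p, q, rfl⟩ := hspan z hz
      exact hzb (by rw [hf.sesq.add_left, hf.sesq.smul_left, hf.sesq.smul_left, hab, h0, mul_zero, mul_zero, add_zero])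
    refine ⟨![a, b], fun r => ?_, fun r s => ?_, fun z hz hzz => ?_⟩
    · fin_cases r
      · exact ha
      · exact hbD
    · fin_cases r <;> fin_cases s <;> simp [ha1, hb1, hab, hba]
    obtain ⟨p, q, rfl⟩ := hspan z hz
    by_cases hp : p = 0
    · exact ⟨1, q, by simp [hp]⟩
    by_cases hq : q = 0
    · exact ⟨0, p, by simp [hq]⟩
    exfalso
    rw [hf.sesq.add_left, hf.sesq.add_right, hf.sesq.add_right, hf.sesq.smul_left, hf.sesq.smul_left,
      hf.sesq.smul_left, hf.sesq.smul_left, hf.sesq.smul_right, hf.sesq.smul_right, hf.sesq.smul_right,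
      hf.sesq.smul_right, ha1, hb1, hab, hba, h.eq_pow, h.eq_pow] at hzz
    exact one_ne_zero (show (1 : F) = 0 by linear_combination -hzz + hcube p hp + hcube q hq + h2)
  choose u huD huu hufr using hpair
  let idx : Fin 3 × Fin 2 ≃ Fin 6 := finProdFinEquiv
  let col : Fin 6 → Fin 6 → F := fun j => u (idx.symm j).1 (idx.symm j).2
  have hcc : ∀ j k, Cfsg.hermForm 6 F 2 (col j) (col k) = if j = k then 1 else 0 := by
    intro j k
    rcases eq_or_ne (idx.symm j).1 (idx.symm k).1 with he | he
    · show Cfsg.hermForm 6 F 2 (u _ _) (u _ _) = _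
      rw [he, huu]
      refine if_congr ?_ rfl rfl
      exact ⟨fun e => idx.symm.injective (Prod.ext he e), fun e => by rw [e]⟩
    · rw [hD.orthogonal _ _ he _ (huD _ _) _ (huD _ _), if_neg]
      rintro rfl
      exact he rfl
  let Bm : Matrix (Fin 6) (Fin 6) F := Matrix.of fun r j => col j r
  have horth : Bmᵀ * Bm.map σ = 1 := by
    refine Matrix.ext fun a b => ?_
    rw [Matrix.mul_apply]
    simp only [Matrix.transpose_apply, Matrix.map_apply, Bm, Matrix.of_apply]
    rw [← h.herm_eq, hcc, Matrix.one_apply]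
  have hBu : IsUnit Bm := (Matrix.isUnit_transpose Bm).1 (IsUnit.of_mul_eq_one _ horth)
  have hBcol : ∀ j, mat hBu.unit *ᵥ Pi.single j 1 = col j := fun j => by
    funext r; simp [show mat hBu.unit = Bm from rfl, Bm, Matrix.mulVec_single_one]
  refine not_maximal_monomial hF h inf_le_right (B := hBu.unit) (h.mem_GU_iff.2 horth) fun g hg j => ?_
  obtain ⟨π, hπ⟩ := hg.1
  have hgU := MaxSub.mem_GU_iff_forall.1 (Subgroup.mem_inf.1 hg.2).1
  obtain ⟨r, c, hrc⟩ := hufr (π (idx.symm j).1) _ (map_le_iff.1 (hπ (idx.symm j).1).le (col j) (huD _ _)) (by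
    show Cfsg.hermForm 6 F 2 (mat g *ᵥ col j) (mat g *ᵥ col j) = 1
    rw [show Cfsg.hermForm 6 F 2 (mat g *ᵥ col j) (mat g *ᵥ col j) = Cfsg.hermForm 6 F 2 (col j) (col j) from
      hgU _ _, hcc, if_pos rfl])
  refine ⟨idx (π (idx.symm j).1, r), c, ?_⟩
  rw [hBcol, hBcol]
  show _ = c • u _ _
  rw [Equiv.symm_apply_apply]
  exact hrc

end CfsgLib.AschbacherUnitary.SixTwo
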