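import Cfsg.Agent.AschbacherUnitary.SixTwoFieldBasis

/-!
In the special unitary group of degree six over four elements the normaliser of a cubic field is not maximal: it
lies in a symplectic similarity group.
-/

set_option autoImplicit false
set_option maxHeartbeats 1000000

namespace CfsgLib.AschbacherUnitary.SixTwoField

open Matrix CfsgLib.Aschbacher CfsgLib.AschbacherForms CfsgLib.AschbacherUnitary CfsgLib.Linear
attribute [-simp] RingEquiv.coe_refl

variable {F : Type*} [Field F] [Fintype F] {σ : F ≃+* F}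

/-- The coordinates. -/
def ix (i : Fin 3) (j : Fin 2) : Fin 6 := finProdFinEquiv (j, i)

/-- Two blocks of a matrix. -/
def blk (g : Matrix (Fin 6) (Fin 6) F) (a b : Fin 2) : Matrix (Fin 3) (Fin 3) F :=
  Matrix.of fun i j => g (ix i a) (ix j b)

omit [Fintype F] in
theorem blk_mul (g g' : Matrix (Fin 6) (Fin 6) F) (a b : Fin 2) :
    blk (g * g') a b = blk g a 0 * blk g' 0 b + blk g a 1 * blk g' 1 b := by
  refine Matrix.ext fun i j => ?_
  simp only [blk, Matrix.of_apply, Matrix.mul_apply, Matrix.add_apply]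
  rw [← Equiv.sum_comp (finProdFinEquiv (m := 2) (n := 3)), Fintype.sum_prod_type, Fin.sum_univ_two]
  rfl

/-- The matrix `1 ⊗ N` in the coordinates. -/
def big (F : Type*) [Field F] : Matrix (Fin 6) (Fin 6) F :=
  !![0, 1, 0, 0, 0, 0; 1, 0, 1, 0, 0, 0; 0, 1, 1, 0, 0, 0; 0, 0, 0, 0, 1, 0; 0, 0, 0, 1, 0, 1; 0, 0, 0, 0, 1, 1]

omit [Fintype F] in
theorem blk_big (a b : Fin 2) : blk (big F) a b = if a = b then N F else 0 := by
  refine Matrix.ext fun i j => ?_
  fin_cases a <;> fin_cases b <;> fin_cases i <;> fin_cases j <;> simp [blk, big, ix, N, finProdFinEquiv] <;> rfl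

omit [Fintype F] in
theorem commute_poly {A : Matrix (Fin 3) (Fin 3) F} (h : A * N F = N F * A) :
    A = poly (A 0 0 - A 2 0) (A 1 0) (A 2 0) := by
  have hc : ∀ i, A i 1 = (N F * A) i 0 := fun i => by
    have := congrFun (congrFun h i) 0
    simp [Matrix.mul_apply, Fin.sum_univ_three, N] at this ⊢
    exact this
  have hd : ∀ i, A i 0 + A i 2 = (N F * A) i 1 := fun i => by
    have := congrFun (congrFun h i) 1
    simp [Matrix.mul_apply, Fin.sum_univ_three, N] at this ⊢
    exact this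
  refine Matrix.ext fun i j => ?_
  have c0 := hc 0
  have c1 := hc 1
  have c2 := hc 2
  have d0 := hd 0
  have d1 := hd 1
  have d2 := hd 2
  simp [Matrix.mul_apply, Fin.sum_univ_three, N] at c0 c1 c2 d0 d1 d2
  fin_cases i <;> fin_cases j <;>
    simp [poly, Matrix.mul_apply, Fin.sum_univ_three, N, c0, c1, c2] <;>
    first
      | linear_combination d0 + c1
      | linear_combination d1 + c0 + c2
      | linear_combination d2 + c1 + c2
      | ring

theorem poly_of_map (e : F ≃+* GF4) (a b c : F) : (poly a b c).map e = poly (e a) (e b) (e c) := by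
  refine Matrix.ext fun i j => ?_
  fin_cases i <;> fin_cases j <;> simp [poly, N, Matrix.mul_apply, Fin.sum_univ_three]

theorem unit_scalar (hF : Fintype.card F = 4) {a b c : F} (hd : (poly a b c).det = 1)
    (h : poly a b c * poly (a * a) (b * b) (c * c) = 1) : b = 0 ∧ c = 0 := by
  let e : F ≃+* GF4 := FiniteField.ringEquivOfCardEq (by rw [card_gf4, hF])
  have h1 : (poly (e a) (e b) (e c)).det = 1 := by
    rw [← poly_of_map, show ((poly a b c).map e).det = e (poly a b c).det from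
      (RingHom.map_det e.toRingHom _).symm, hd, map_one]
  have h2 : poly (e a) (e b) (e c) * poly (e a * e a) (e b * e b) (e c * e c) = 1 := by
    rw [← map_mul e a a, ← map_mul e b b, ← map_mul e c c, ← poly_of_map, ← poly_of_map, ← Matrix.map_mul, h,
      Matrix.map_one _ (map_zero e) (map_one e)]
  obtain ⟨h3, h4⟩ := unit_table _ _ _ h1 h2
  exact ⟨e.injective (h3.trans (map_zero e).symm), e.injective (h4.trans (map_zero e).symm)⟩

theorem det_ne_zero_or (hF : Fintype.card F = 4) (a b c : F) :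
    (poly a b c).det ≠ 0 ∨ poly a b c = 0 := by
  refine or_iff_not_imp_left.2 fun hd => ?_
  rw [not_not] at hd
  let e : F ≃+* GF4 := FiniteField.ringEquivOfCardEq (by rw [card_gf4, hF])
  have h1 : (poly (e a) (e b) (e c)).det = 0 := by
    rw [← poly_of_map, show ((poly a b c).map e).det = e (poly a b c).det from
      (RingHom.map_det e.toRingHom _).symm, hd, map_zero]
  obtain ⟨ha, hb, hc⟩ := det_zero_table _ _ _ h1
  rw [show a = 0 from e.injective (ha.trans (map_zero e).symm), show b = 0 from e.injective (hb.trans (map_zero e).symm),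
    show c = 0 from e.injective (hc.trans (map_zero e).symm)]
  simp [poly]

/-- The alternating form pairing the two blocks. -/
def alt (x y : Fin 6 → F) : F := ∑ i : Fin 3, (x (ix i 0) * y (ix i 1) - x (ix i 1) * y (ix i 0))

omit [Fintype F] in
theorem mulVec_blk (g : Matrix (Fin 6) (Fin 6) F) (x : Fin 6 → F) (a : Fin 2) (i : Fin 3) :
    (g *ᵥ x) (ix i a) = (blk g a 0 *ᵥ fun j => x (ix j 0)) i + (blk g a 1 *ᵥ fun j => x (ix j 1)) i := by
  show ∑ l, g (ix i a) l * x l = _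
  rw [← Equiv.sum_comp (finProdFinEquiv (m := 2) (n := 3)), Fintype.sum_prod_type, Fin.sum_univ_two]
  rfl

/-- A determinant-one isometry commuting with `1 ⊗ N` preserves the pairing. -/
theorem alt_of_commute (hF : Fintype.card F = 4) (h : IsConj 2 σ) {g : GL (Fin 6) F} (hg : g ∈ SUn 6 F 2)
    (hc : mat g * big F = big F * mat g) :
    ∃ c : F, c ≠ 0 ∧ ∀ x y, alt (mat g *ᵥ x) (mat g *ᵥ y) = c * alt x y := by
  classical
  have h2 := SixTwo.two_eq_zero hF
  have hneg : ∀ x : F, -x = x := fun x => by linear_combination (-x) * h2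
  have hcb : ∀ a b, blk (mat g) a b * N F = N F * blk (mat g) a b := by
    intro a b
    have e := congrArg (fun M => blk M a b) hc
    simp only [blk_mul, blk_big] at e
    fin_cases a <;> fin_cases b <;> simpa using e
  have hcoef : ∀ a b, ∃ p : F × F × F, blk (mat g) a b = poly p.1 p.2.1 p.2.2 :=
    fun a b => ⟨(_, _, _), commute_poly (hcb a b)⟩
  -- the commutative ring of polynomials
  let φ : Polynomial F →ₐ[F] Matrix (Fin 3) (Fin 3) F := Polynomial.aeval (N F)
  have hrange : ∀ p : F × F × F, poly p.1 p.2.1 p.2.2 ∈ φ.range := fun p =>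
    ⟨Polynomial.C p.1 + Polynomial.C p.2.1 * Polynomial.X + Polynomial.C p.2.2 * (Polynomial.X * Polynomial.X), by
      simp [φ, poly, Algebra.algebraMap_eq_smul_one]⟩
  have hcomm : ∀ {p q}, p ∈ φ.range → q ∈ φ.range → p * q = q * p := by
    rintro _ _ ⟨p, rfl⟩ ⟨q, rfl⟩
    show φ p * φ q = φ q * φ p
    rw [← map_mul, ← map_mul, mul_comm]
  have hconj : ∀ p : F × F × F, (poly p.1 p.2.1 p.2.2).map σ = poly (p.1 * p.1) (p.2.1 * p.2.1) (p.2.2 * p.2.2) := by
    intro p
    refine Matrix.ext fun i j => ?_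
    fin_cases i <;> fin_cases j <;> simp [poly, N, Matrix.mul_apply, Fin.sum_univ_three, h.eq_pow, pow_two] <;>
      first
      | ring1
      | (ring_nf; simp [h2, show (4 : F) = 0 by linear_combination 2 * h2])
  have hsymm : ∀ p : F × F × F, (poly p.1 p.2.1 p.2.2)ᵀ = poly p.1 p.2.1 p.2.2 := by
    intro p
    refine Matrix.ext fun i j => ?_
    fin_cases i <;> fin_cases j <;> simp [poly, N, Matrix.mul_apply, Fin.sum_univ_three]
  choose p hp using hcoef
  let R := φ.range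
  letI : CommRing R := { (inferInstance : Ring R) with mul_comm := fun a b => Subtype.ext (hcomm a.2 b.2) }
  let A : Fin 2 → Fin 2 → R := fun a b => ⟨_, hrange (p a b)⟩
  let A' : Fin 2 → Fin 2 → R := fun a b =>
    ⟨_, hrange (((p a b).1 * (p a b).1, (p a b).2.1 * (p a b).2.1, (p a b).2.2 * (p a b).2.2))⟩
  -- unitarity in blocks
  have hun : ∀ a b, A 0 a * A' 0 b + A 1 a * A' 1 b = if a = b then 1 else 0 := by
    intro a b
    apply Subtype.ext
    have e := congrArg (fun M => blk M a b) (h.mem_GU_iff.1 (Subgroup.mem_inf.1 hg).1)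
    rw [blk_mul] at e
    have ht : ∀ c d, blk (mat g)ᵀ c d = blk (mat g) d c := by
      intro c d
      calc blk (mat g)ᵀ c d = (blk (mat g) d c)ᵀ := Matrix.ext fun i j => rfl
        _ = _ := by rw [hp, hsymm]
    have hm : ∀ c d, blk ((mat g).map σ) c d = (blk (mat g) c d).map σ := fun c d => rfl
    rw [ht, ht, hm, hm, hp, hp, hp, hp, hconj, hconj] at e
    refine Eq.trans (show ((A 0 a * A' 0 b + A 1 a * A' 1 b : R) : Matrix (Fin 3) (Fin 3) F) = _ from e) ?_
    fin_cases a <;> fin_cases b <;>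
    · refine Matrix.ext fun i j => ?_
      simp [blk, ix, Matrix.one_apply]
      try fin_cases i <;> fin_cases j <;> rfl
  let d : R := A 0 0 * A 1 1 - A 0 1 * A 1 0
  let d' : R := A' 0 0 * A' 1 1 - A' 0 1 * A' 1 0
  have hdd : d * d' = 1 := by
    have e00 := hun 0 0
    have e01 := hun 0 1
    have e10 := hun 1 0
    have e11 := hun 1 1
    simp at e00 e01 e10 e11
    linear_combination (A 0 1 * A' 0 1 + A 1 1 * A' 1 1) * e00 + e11 - (A 0 1 * A' 0 0 + A 1 1 * A' 1 0) * e01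
  -- coefficients of the determinant
  obtain ⟨q, hq⟩ : ∃ q : F × F × F, d.1 = poly q.1 q.2.1 q.2.2 := by
    refine ⟨(_, _, _), commute_poly (hcomm d.2 ?_)⟩
    exact ⟨Polynomial.X, by simp [φ]⟩
  have hq' : d'.1 = poly (q.1 * q.1) (q.2.1 * q.2.1) (q.2.2 * q.2.2) := by
    rw [← hconj, ← hq]
    show (A' 0 0).1 * (A' 1 1).1 - (A' 0 1).1 * (A' 1 0).1 = ((A 0 0).1 * (A 1 1).1 - (A 0 1).1 * (A 1 0).1).map σ
    simp only [A, A']
    rw [Matrix.map_sub _ (map_sub σ), Matrix.map_mul, Matrix.map_mul, hconj, hconj, hconj, hconj]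
  have hdet : d.1.det = 1 := by
    have hgdet := mem_specialLinear_iff.1 (Subgroup.mem_inf.1 hg).2
    let e : Fin 3 ⊕ Fin 3 ≃ Fin 6 :=
      { toFun := Sum.elim (fun i => ix i 0) (fun i => ix i 1)
        invFun := fun l => if ((finProdFinEquiv (m := 2) (n := 3)).symm l).1 = (0 : Fin 2) then Sum.inl ((finProdFinEquiv (m := 2) (n := 3)).symm l).2
          else Sum.inr ((finProdFinEquiv (m := 2) (n := 3)).symm l).2
        left_inv := by intro x; revert x; decide
        right_inv := by intro x; revert x; decide }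
    have hsub : (mat g).submatrix e e = Matrix.fromBlocks (A 0 0).1 (A 0 1).1 (A 1 0).1 (A 1 1).1 := by
      refine Matrix.ext fun i j => ?_
      rcases i with i | i <;> rcases j with j | j <;>
        simp only [Matrix.fromBlocks_apply₁₁, Matrix.fromBlocks_apply₁₂, Matrix.fromBlocks_apply₂₁,
          Matrix.fromBlocks_apply₂₂, A] <;>
        · rw [← hp]; rfl
    have hdet6 : (Matrix.fromBlocks (A 0 0).1 (A 0 1).1 (A 1 0).1 (A 1 1).1).det = 1 := by
      rw [← hsub, Matrix.det_submatrix_equiv_self, hgdet]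
    rcases det_ne_zero_or hF (p 1 1).1 (p 1 1).2.1 (p 1 1).2.2 with hD | hD
    · have e2 : Matrix.fromBlocks (A 0 0).1 (A 0 1).1 (A 1 0).1 (A 1 1).1 *
          Matrix.fromBlocks (A 1 1).1 0 (-(A 1 0).1) 1 = Matrix.fromBlocks d.1 (A 0 1).1 0 (A 1 1).1 := by
        rw [Matrix.fromBlocks_multiply]
        congr 1
        · show _ = (A 0 0).1 * (A 1 1).1 - (A 0 1).1 * (A 1 0).1
          rw [mul_neg, ← sub_eq_add_neg]
        · simp
        · rw [mul_neg, ← sub_eq_add_neg, hcomm (A 1 0).2 (A 1 1).2, sub_self]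
        · simp
      have e3 := congrArg Matrix.det e2
      rw [Matrix.det_mul, hdet6, Matrix.det_fromBlocks_zero₁₂, Matrix.det_fromBlocks_zero₂₁, Matrix.det_one,
        one_mul, mul_one] at e3
      exact mul_right_cancel₀ hD (e3.symm.trans (one_mul _).symm)
    · have hD' : (A 1 1).1 = 0 := hD
      let J : Matrix (Fin 3 ⊕ Fin 3) (Fin 3 ⊕ Fin 3) F := Matrix.fromBlocks 0 1 1 0
      have e2 : Matrix.fromBlocks (A 0 0).1 (A 0 1).1 (A 1 0).1 (A 1 1).1 * J =
          Matrix.fromBlocks (A 0 1).1 (A 0 0).1 0 (A 1 0).1 := by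
        simp [J, Matrix.fromBlocks_multiply, hD']
      have hJ : J.det = 1 := by
        have e4 : J * J = 1 := by simp [J, Matrix.fromBlocks_multiply]
        have e5 := congrArg Matrix.det e4
        rw [Matrix.det_mul, Matrix.det_one] at e5
        rcases mul_self_eq_one_iff.1 e5 with e6 | e6
        · exact e6
        · rw [e6, hneg]
      have e3 := congrArg Matrix.det e2
      rw [Matrix.det_mul, hdet6, hJ, one_mul, Matrix.det_fromBlocks_zero₂₁] at e3
      show ((A 0 0).1 * (A 1 1).1 - (A 0 1).1 * (A 1 0).1).det = 1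
      rw [hD', mul_zero, zero_sub, Matrix.det_neg, Matrix.det_mul, hneg 1, one_pow, one_mul, ← e3]
  have hddv : d.1 * d'.1 = 1 := congrArg Subtype.val hdd
  rw [hq] at hdet
  rw [hq, hq'] at hddv
  obtain ⟨hb, hc'⟩ := unit_scalar hF hdet hddv
  have hdq : d.1 = q.1 • 1 := by rw [hq, hb, hc']; simp [poly]
  have hq0 : q.1 ≠ 0 := fun e => by
    rw [← hq, hdq, e, zero_smul] at hdet
    simp at hdet
  refine ⟨q.1, hq0, fun x y => ?_⟩
  have e1 : ∀ u v : Fin 6 → F, alt u v =
      (fun i => u (ix i 0)) ⬝ᵥ (fun i => v (ix i 1)) - (fun i => u (ix i 1)) ⬝ᵥ (fun i => v (ix i 0)) := fun u v => by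
    simp [alt, dotProduct, Finset.sum_sub_distrib]
  have e2 : ∀ (z : Fin 6 → F) (a : Fin 2), (fun i => (mat g *ᵥ z) (ix i a)) =
      (A a 0).1 *ᵥ (fun j => z (ix j 0)) + (A a 1).1 *ᵥ (fun j => z (ix j 1)) := fun z a => by
    funext i
    rw [mulVec_blk, hp, hp]
    rfl
  have e3 : ∀ (a b c e : Fin 2) (u v : Fin 3 → F),
      ((A a b).1 *ᵥ u) ⬝ᵥ ((A c e).1 *ᵥ v) = u ⬝ᵥ ((A a b * A c e : R).1 *ᵥ v) := by
    intro a b c e u v
    show _ = u ⬝ᵥ ((((A a b).1 * (A c e).1)) *ᵥ v)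
    rw [← Matrix.mulVec_mulVec, Matrix.dotProduct_mulVec u, ← Matrix.mulVec_transpose,
      show ((A a b).1)ᵀ = (A a b).1 from hsymm _]
  rw [e1, e1, e2, e2, e2, e2]
  simp only [add_dotProduct, dotProduct_add, e3]
  have k00 : A 0 0 * A 1 0 = A 1 0 * A 0 0 := mul_comm _ _
  have k11 : A 0 1 * A 1 1 = A 1 1 * A 0 1 := mul_comm _ _
  rw [k00, k11]
  have kd : ((A 0 0 * A 1 1 : R)).1 = d.1 + (A 1 0 * A 0 1 : R).1 := by
    rw [← AddMemClass.coe_add, show d + A 1 0 * A 0 1 = A 0 0 * A 1 1 from by simp only [d]; ring]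
  have kd' : ((A 1 1 * A 0 0 : R)).1 = d.1 + (A 0 1 * A 1 0 : R).1 := by
    rw [← AddMemClass.coe_add, show d + A 0 1 * A 1 0 = A 1 1 * A 0 0 from by simp only [d]; ring]
  simp only [kd, kd', hdq, Matrix.add_mulVec, dotProduct_add, Matrix.smul_mulVec, Matrix.one_mulVec,
    dotProduct_smul, smul_eq_mul]
  ring

/-- The cyclic permutation within the blocks. -/
def shift : Equiv.Perm (Fin 6) := Equiv.swap 0 1 * Equiv.swap 1 2 * (Equiv.swap 3 4 * Equiv.swap 4 5)

/-- A transposition within each block. -/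
def flip2 : Equiv.Perm (Fin 6) := Equiv.swap 0 1 * Equiv.swap 3 4

theorem shift_table : ∃ π : Equiv.Perm (Fin 6), (π = shift ∨ π = shift⁻¹) ∧
    (Matrix.of fun i j : Fin 6 => if j = π⁻¹ i then (1 : ZMod 2) else 0) * big (ZMod 2) =
      big (ZMod 2) ^ 2 * Matrix.of fun i j : Fin 6 => if j = π⁻¹ i then (1 : ZMod 2) else 0 := by
  decide +kernel

theorem flip_table :
    let M := Matrix.of fun i j : Fin 6 => if j = flip2⁻¹ i then (1 : ZMod 2) else 0
    M * big (ZMod 2) ≠ big (ZMod 2) * M ∧ M * big (ZMod 2) ≠ big (ZMod 2) ^ 2 * M ∧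
      M * big (ZMod 2) ≠ big (ZMod 2) ^ 4 * M := by decide +kernel

theorem big_root : big (ZMod 2) ^ 3 + big (ZMod 2) ^ 2 + 1 = 0 := by decide +kernel

theorem perm_pairing : ∀ π : Equiv.Perm (Fin 6), π ∈ [shift, shift⁻¹, flip2] → ∃ τ : Equiv.Perm (Fin 3),
    ∀ i a, π⁻¹ (ix i a) = ix (τ i) a := by decide +kernel

theorem perm_even : ∀ π : Equiv.Perm (Fin 6), π ∈ [shift, shift⁻¹, flip2] → Equiv.Perm.sign π = 1 := by
  decide +kernel

omit [Fintype F] in
theorem alt_perm {π : Equiv.Perm (Fin 6)} (hπ : π ∈ [shift, shift⁻¹, flip2]) (x y : Fin 6 → F) :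
    alt (mat (permGL 6 F π) *ᵥ x) (mat (permGL 6 F π) *ᵥ y) = alt x y := by
  obtain ⟨τ, hτ⟩ := perm_pairing π hπ
  simp only [alt, permGL_mulVec, hτ]
  exact Equiv.sum_comp τ fun i => x (ix i 0) * y (ix i 1) - x (ix i 1) * y (ix i 0)

/-- The normaliser of a cubic field is not maximal. -/
theorem not_maximal (hF : Fintype.card F = 4) (h : IsConj 2 σ) {K : Subalgebra F (Matrix (Fin 6) (Fin 6) F)}
    (hK : Cfsg.Geo.IsFieldSubalgebra 3 K) (hadj : Cfsg.Geo.IsAdjointClosedFor (Cfsg.hermForm 6 F 2) K) :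
    ∃ L : Subgroup (GL (Fin 6) F), Cfsg.Geo.subalgebraNormalizer K ⊓ SUn 6 F 2 < L ∧ L < SUn 6 F 2 := by
  classical
  have h2 := SixTwo.two_eq_zero hF
  haveI : CharP F 2 := CharTwo.of_one_ne_zero_of_two_eq_zero one_ne_zero h2
  let ι₂ : ZMod 2 →+* F := ZMod.castHom (dvd_refl 2) F
  have hι : Function.Injective ι₂ := ι₂.injective
  have hu := h.unitary (n := 6)
  have hf := isReflexive_unitary hu
  obtain ⟨m, hmK, hpm, hms⟩ := exists_root hF h hK hadj
  have hnd_top : Cfsg.Geo.IsNondegenerateOn (Cfsg.hermForm 6 F 2) ⊤ := fun w _ hw => by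
    obtain ⟨⟨x, hx⟩, ⟨y, hy⟩⟩ := hu.nondegenerate w hw
    exact ⟨⟨x, trivial, hx⟩, ⟨y, trivial, hy⟩⟩
  obtain ⟨e₁, -, he₁⟩ := exists_triple hF h hpm hms ⊤ (fun _ _ => trivial) hnd_top (by
    intro e
    exact absurd (congrArg (fun W : Submodule F (Fin 6 → F) => Module.finrank F W) e) (by simp))
  let nn : (Fin 6 → F) → Fin 3 → (Fin 6 → F) := fun e i => m ^ (2 ^ i.1) *ᵥ e
  have hm3 : m ^ 3 = m ^ 2 + 1 := by
    rw [add_assoc, add_eq_zero_iff_eq_neg] at hpm
    rw [hpm, neg_eq hF]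
  have hm4 : m * m ^ 4 = m ^ 2 + m ^ 4 := by
    have a4 : m ^ 4 = m ^ 3 + m := by rw [pow_succ' m 3, hm3, mul_add, ← pow_succ', mul_one, hm3]
    calc m * m ^ 4 = m * (m ^ 3 + m) := by rw [← a4]
      _ = m ^ 4 + m ^ 2 := by rw [mul_add, ← pow_succ', ← pow_two]
      _ = _ := add_comm _ _
  have hm2 : m * m ^ 2 = m + m ^ 4 := by
    have a4 : m ^ 4 = m ^ 3 + m := by rw [pow_succ' m 3, hm3, mul_add, ← pow_succ', mul_one, hm3]
    rw [a4, ← pow_succ']
    have e : m + (m ^ 3 + m) = m ^ 3 + (m + m) := by abel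
    rw [e, show m + m = 0 by rw [add_eq_zero_iff_eq_neg, neg_eq hF], add_zero]
  have hmn : ∀ e i, m *ᵥ nn e i = if i = 0 then nn e 1 else if i = 1 then nn e 0 + nn e 2 else nn e 1 + nn e 2 := by
    intro e i
    fin_cases i
    · simp [nn, pow_two]
    · simp [nn, ← Matrix.add_mulVec, hm2]
    · simp [nn, ← Matrix.add_mulVec, hm4]
  let W : Submodule F (Fin 6 → F) :=
    { carrier := {w | ∀ i, Cfsg.hermForm 6 F 2 w (nn e₁ i) = 0}
      add_mem' := fun {a b} ha hb i => by rw [hf.sesq.add_left, ha i, hb i, add_zero]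
      zero_mem' := fun i => hf.zero_left _
      smul_mem' := fun c a ha i => by rw [hf.sesq.smul_left, ha i, mul_zero] }
  have hsa : ∀ u v, Cfsg.hermForm 6 F 2 (m *ᵥ u) v = Cfsg.hermForm 6 F 2 u (m *ᵥ v) := by
    intro u v
    rw [h.herm_eq, h.herm_eq]
    simp only [Matrix.mulVec, dotProduct, map_sum, map_mul, Finset.sum_mul, Finset.mul_sum]
    rw [Finset.sum_comm]
    refine Finset.sum_congr rfl fun a _ => Finset.sum_congr rfl fun b _ => ?_
    have e : σ (m a b) = m b a := congrFun (congrFun hms b) a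
    rw [e]
    ring
  have hW : ∀ w ∈ W, m *ᵥ w ∈ W := fun w hw i => by
    rw [hsa, hmn]
    fin_cases i <;> simp [hf.sesq.add_right, hw 0, hw 1, hw 2]
  have hproj : ∀ u : Fin 6 → F, u - ∑ i, Cfsg.hermForm 6 F 2 u (nn e₁ i) • nn e₁ i ∈ W := by
    intro u j
    rw [sub_eq_add_neg, hf.sesq.add_left, ← neg_one_smul F, hf.sesq.smul_left, hf.sesq.sum_left,
      Finset.sum_eq_single j (fun i _ hij => by rw [hf.sesq.smul_left, he₁, if_neg hij, mul_zero])
        (fun hh => absurd (Finset.mem_univ _) hh), hf.sesq.smul_left, he₁, if_pos rfl]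
    ring
  have hW0 : W ≠ ⊥ := by
    intro e
    have hle : (⊤ : Submodule F (Fin 6 → F)) ≤ Submodule.span F (Set.range (nn e₁)) := fun u _ => by
      have := hproj u
      rw [e, Submodule.mem_bot, sub_eq_zero] at this
      rw [this]
      exact Submodule.sum_mem _ fun i _ => Submodule.smul_mem _ _ (Submodule.subset_span ⟨i, rfl⟩)
    have h1 := Submodule.finrank_mono hle
    have h3 := finrank_range_le_card (R := F) (nn e₁)
    rw [finrank_top, Module.finrank_fin_fun] at h1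
    rw [Set.finrank, Fintype.card_fin] at h3
    omega
  have hWnd : Cfsg.Geo.IsNondegenerateOn (Cfsg.hermForm 6 F 2) W := by
    intro w hw hw0
    obtain ⟨⟨x, hx⟩, -⟩ := hu.nondegenerate w hw0
    have key : Cfsg.hermForm 6 F 2 (x - ∑ i, Cfsg.hermForm 6 F 2 x (nn e₁ i) • nn e₁ i) w ≠ 0 := by
      rw [sub_eq_add_neg, hf.sesq.add_left, ← neg_one_smul F, hf.sesq.smul_left, hf.sesq.sum_left,
        Finset.sum_eq_zero fun i _ => by rw [hf.sesq.smul_left, hf.orth_comm (hw i), mul_zero], mul_zero, add_zero]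
      exact hx
    exact ⟨⟨_, hproj x, key⟩, ⟨_, hproj x, fun e => key (hf.orth_comm e)⟩⟩
  obtain ⟨e₂, he₂W, he₂⟩ := exists_triple hF h hpm hms W hW hWnd hW0
  have hcross : ∀ i j, Cfsg.hermForm 6 F 2 (nn e₂ i) (nn e₁ j) = 0 := by
    have hWt : ∀ (t : ℕ), m ^ t *ᵥ e₂ ∈ W := by
      intro t
      induction t with
      | zero => simpa using he₂W
      | succ t ih => rw [pow_succ', ← Matrix.mulVec_mulVec]; exact hW _ ih
    exact fun i j => hWt _ j
  let col : Fin 6 → Fin 6 → F := fun l =>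
    nn (![e₁, e₂] ((finProdFinEquiv (m := 2) (n := 3)).symm l).1) ((finProdFinEquiv (m := 2) (n := 3)).symm l).2
  let Um : Matrix (Fin 6) (Fin 6) F := Matrix.of fun r l => col l r
  have hcc : ∀ j k, Cfsg.hermForm 6 F 2 (col j) (col k) = if j = k then 1 else 0 := by
    intro j k
    obtain ⟨⟨a, i⟩, rfl⟩ := (finProdFinEquiv (m := 2) (n := 3)).surjective j
    obtain ⟨⟨b, i'⟩, rfl⟩ := (finProdFinEquiv (m := 2) (n := 3)).surjective k
    simp only [col, Equiv.symm_apply_apply, finProdFinEquiv.injective.eq_iff, Prod.mk.injEq]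
    fin_cases a <;> fin_cases b
    · simpa [nn] using he₁ i i'
    · simpa [nn] using hf.orth_comm (hcross i' i)
    · simpa [nn] using hcross i i'
    · simpa [nn] using he₂ i i'
  have horth : Umᵀ * Um.map σ = 1 := by
    refine Matrix.ext fun a b => ?_
    rw [Matrix.mul_apply]
    simp only [Matrix.transpose_apply, Matrix.map_apply, Um, Matrix.of_apply]
    rw [← h.herm_eq, hcc, Matrix.one_apply]
  have hUu : IsUnit Um := (Matrix.isUnit_transpose Um).1 (IsUnit.of_mul_eq_one _ horth)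
  let U : GL (Fin 6) F := hUu.unit
  have hU : U ∈ Cfsg.GU 6 F 2 := h.mem_GU_iff.2 horth
  have hmU : m * mat U = mat U * big F := by
    refine Matrix.ext fun r l => ?_
    have e1 : (m * mat U) r l = (m *ᵥ col l) r := rfl
    rw [e1]
    obtain ⟨⟨a, i⟩, rfl⟩ := (finProdFinEquiv (m := 2) (n := 3)).surjective l
    show (m *ᵥ col (finProdFinEquiv (a, i))) r = (Um * big F) r (finProdFinEquiv (a, i))
    rw [show col (finProdFinEquiv (a, i)) = nn (![e₁, e₂] a) i by simp [col], hmn, Matrix.mul_apply,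
      ← Equiv.sum_comp (finProdFinEquiv (m := 2) (n := 3)), Fintype.sum_prod_type, Fin.sum_univ_two,
      Fin.sum_univ_three, Fin.sum_univ_three]
    fin_cases a <;> fin_cases i <;> simp [Um, col, big, finProdFinEquiv, nn] <;> rfl
  have hbigmap : (big (ZMod 2)).map ι₂ = big F := by
    refine Matrix.ext fun i j => ?_
    fin_cases i <;> fin_cases j <;> simp [big, ι₂]
  have hbigp : big F ^ 3 + big F ^ 2 + 1 = 0 := by
    have e := congrArg ι₂.mapMatrix big_root
    simp only [map_add, map_pow, map_one, map_zero, RingHom.mapMatrix_apply, hbigmap] at e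
    exact e
  have hperm : ∀ π : Equiv.Perm (Fin 6),
      (Matrix.of fun i j : Fin 6 => if j = π⁻¹ i then (1 : ZMod 2) else 0).map ι₂ = mat (permGL 6 F π) := fun π => by
    refine Matrix.ext fun i j => ?_
    show ι₂ (if j = π⁻¹ i then 1 else 0) = if j = π⁻¹ i then (1 : F) else 0
    split_ifs <;> simp
  -- the similarity group of the pairing, moved by the frame
  let X : Subgroup (GL (Fin 6) F) :=
    { carrier := {g | g ∈ SUn 6 F 2 ∧ ∃ c : F, c ≠ 0 ∧
        ∀ x y, alt (mat (U⁻¹ * g * U) *ᵥ x) (mat (U⁻¹ * g * U) *ᵥ y) = c * alt x y}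
      one_mem' := ⟨one_mem _, 1, one_ne_zero, fun x y => by simp [mat]⟩
      mul_mem' := fun {a b} ⟨ha, c, hc, ha'⟩ ⟨hb, d, hd, hb'⟩ => ⟨mul_mem ha hb, c * d, mul_ne_zero hc hd, fun x y => by
        rw [show U⁻¹ * (a * b) * U = (U⁻¹ * a * U) * (U⁻¹ * b * U) by group,
          show mat (U⁻¹ * a * U * (U⁻¹ * b * U)) = mat (U⁻¹ * a * U) * mat (U⁻¹ * b * U) from Units.val_mul _ _,
          ← Matrix.mulVec_mulVec, ← Matrix.mulVec_mulVec, ha', hb', mul_assoc]⟩
      inv_mem' := fun {a} ⟨ha, c, hc, ha'⟩ => ⟨inv_mem ha, c⁻¹, inv_ne_zero hc, fun x y => by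
        have e := ha' (mat (U⁻¹ * a⁻¹ * U) *ᵥ x) (mat (U⁻¹ * a⁻¹ * U) *ᵥ y)
        rw [Matrix.mulVec_mulVec, Matrix.mulVec_mulVec, ← Units.val_mul,
          show U⁻¹ * a * U * (U⁻¹ * a⁻¹ * U) = 1 by group, Units.val_one, Matrix.one_mulVec, Matrix.one_mulVec] at e
        rw [e, inv_mul_cancel_left₀ hc]⟩ }
  have hconjSU : ∀ g ∈ SUn 6 F 2, U⁻¹ * g * U ∈ SUn 6 F 2 := fun g hg => by
    have e := mat_mem_of_conj (inv_mem hU) hg
    rwa [inv_inv] at e
  have hconjSU' : ∀ g ∈ SUn 6 F 2, U * g * U⁻¹ ∈ SUn 6 F 2 := fun g hg => mat_mem_of_conj hU hg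
  have hmemX : ∀ {π : Equiv.Perm (Fin 6)}, π ∈ [shift, shift⁻¹, flip2] → U * permGL 6 F π * U⁻¹ ∈ X := by
    intro π hπ
    refine ⟨hconjSU' _ (permGL_mem h (Equiv.Perm.mem_alternatingGroup.2 (perm_even π hπ))), 1, one_ne_zero,
      fun x y => ?_⟩
    rw [show U⁻¹ * (U * permGL 6 F π * U⁻¹) * U = permGL 6 F π by group, alt_perm hπ, one_mul]
  -- elements of the normaliser in the coordinates
  have hnorm : ∀ g ∈ Cfsg.Geo.subalgebraNormalizer K, mat (U⁻¹ * g * U) * big F = big F * mat (U⁻¹ * g * U) ∨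
      mat (U⁻¹ * g * U) * big F = big F ^ 2 * mat (U⁻¹ * g * U) ∨
      mat (U⁻¹ * g * U) * big F = big F ^ 4 * mat (U⁻¹ * g * U) := by
    intro g hg
    have hz : mat g * m * mat g⁻¹ ∈ K := (hg m).1 hmK
    have hz2 : (mat g * m * mat g⁻¹) ^ 3 + (mat g * m * mat g⁻¹) ^ 2 + 1 = 0 := by
      rw [show (mat g * m * mat g⁻¹) ^ 3 = mat g * m ^ 3 * mat g⁻¹ from Units.conj_pow g m 3,
        show (mat g * m * mat g⁻¹) ^ 2 = mat g * m ^ 2 * mat g⁻¹ from Units.conj_pow g m 2,
        show (1 : Matrix (Fin 6) (Fin 6) F) = mat g * 1 * mat g⁻¹ by rw [mul_one, mat_mul_inv],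
        ← add_mul, ← add_mul, ← mul_add, ← mul_add, hpm, mul_zero, zero_mul]
    have hb : big F = mat U⁻¹ * m * mat U := by rw [mul_assoc, hmU, ← mul_assoc, mat_inv_mul, one_mul]
    have hpw : ∀ k : ℕ, big F ^ k = mat U⁻¹ * m ^ k * mat U := fun k => by
      rw [hb]
      exact (Units.conj_pow' U m k)
    have hfin : ∀ k : ℕ, mat g * m * mat g⁻¹ = m ^ k →
        mat (U⁻¹ * g * U) * big F = big F ^ k * mat (U⁻¹ * g * U) := by
      intro k hk
      rw [hpw, ← hk, hb]
      simp only [mat, Units.val_mul, Matrix.mul_assoc, Units.mul_inv_cancel_left, Units.inv_mul_cancel_left]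
    rcases root_cases hF hK hmK hz hpm hz2 with e | e | e
    · exact Or.inl (by simpa using hfin 1 (e.trans (pow_one m).symm))
    · exact Or.inr (Or.inl (hfin 2 e))
    · exact Or.inr (Or.inr (hfin 4 e))
  obtain ⟨π, hπ, hπt⟩ := shift_table
  have hπ' : π ∈ [shift, shift⁻¹, flip2] := by rcases hπ with rfl | rfl <;> simp
  have hΦ : mat (permGL 6 F π) * big F = big F ^ 2 * mat (permGL 6 F π) := by
    have e := congrArg ι₂.mapMatrix hπt
    simp only [map_mul, map_pow, RingHom.mapMatrix_apply, hbigmap, hperm] at e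
    exact e
  have hΦ2 : mat (permGL 6 F π) * big F ^ 2 = big F ^ 4 * mat (permGL 6 F π) := by
    rw [pow_two, ← mul_assoc, hΦ, mul_assoc, hΦ, ← mul_assoc, ← pow_add]
  have hbig8 : big F ^ 8 = big F := by
    have hb3 : big F ^ 3 = big F ^ 2 + 1 := by
      have e := hbigp
      rw [add_assoc, add_eq_zero_iff_eq_neg] at e
      rw [e, neg_eq hF]
    have hb7 : big F ^ 7 = 1 := by
      have hstep : ∀ t, big F ^ (t + 3) = big F ^ (t + 2) + big F ^ t := fun t => by
        rw [pow_add, hb3, mul_add, ← pow_add, mul_one]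
      have hdbl : ∀ M : Matrix (Fin 6) (Fin 6) F, M + M = 0 := fun M => by rw [add_eq_zero_iff_eq_neg, neg_eq hF]
      rw [show big F ^ 7 = big F ^ 6 + big F ^ 4 from hstep 4, show big F ^ 6 = big F ^ 5 + big F ^ 3 from hstep 3,
        show big F ^ 5 = big F ^ 4 + big F ^ 2 from hstep 2, hb3]
      calc big F ^ 4 + big F ^ 2 + (big F ^ 2 + 1) + big F ^ 4
          = (big F ^ 4 + big F ^ 4) + (big F ^ 2 + big F ^ 2) + 1 := by abel
        _ = 1 := by rw [hdbl, hdbl, zero_add, zero_add]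
    rw [pow_succ, hb7, one_mul]
  have hΦ4 : mat (permGL 6 F π) * big F ^ 4 = big F * mat (permGL 6 F π) := by
    rw [show 4 = 2 + 2 from rfl, pow_add, ← mul_assoc, hΦ2, mul_assoc, hΦ2, ← mul_assoc, ← pow_add, hbig8]
  have hmid : ∀ G : Matrix (Fin 6) (Fin 6) F, G * big F = big F ^ 4 * G →
      mat (permGL 6 F π) * G * big F = big F * (mat (permGL 6 F π) * G) := fun G hG => by
    rw [mul_assoc, hG, ← mul_assoc, hΦ4, mul_assoc]
  have htwo : ∀ G : Matrix (Fin 6) (Fin 6) F, G * big F = big F ^ 2 * G →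
      mat (permGL 6 F π) * (mat (permGL 6 F π) * G) * big F =
        big F * (mat (permGL 6 F π) * (mat (permGL 6 F π) * G)) := fun G hG => by
    refine hmid _ ?_
    rw [mul_assoc, hG, ← mul_assoc, hΦ2, mul_assoc]
  have hle : Cfsg.Geo.subalgebraNormalizer K ⊓ SUn 6 F 2 ≤ X := by
    rintro g ⟨hgN, hgS⟩
    rcases hnorm g hgN with e | e | e
    · obtain ⟨c, hc, hc'⟩ := alt_of_commute hF h (hconjSU g hgS) e
      exact ⟨hgS, c, hc, hc'⟩
    · -- multiply by the square of the shift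
      have hP := hmemX hπ'
      have e2 : mat (U⁻¹ * (U * permGL 6 F π * U⁻¹ * (U * permGL 6 F π * U⁻¹) * g) * U) * big F =
          big F * mat (U⁻¹ * (U * permGL 6 F π * U⁻¹ * (U * permGL 6 F π * U⁻¹) * g) * U) := by
        rw [show U⁻¹ * (U * permGL 6 F π * U⁻¹ * (U * permGL 6 F π * U⁻¹) * g) * U =
          permGL 6 F π * (permGL 6 F π * (U⁻¹ * g * U)) by group]
        simp only [mat, Units.val_mul] at e htwo ⊢
        exact htwo _ e
      have hS2 : U * permGL 6 F π * U⁻¹ * (U * permGL 6 F π * U⁻¹) * g ∈ SUn 6 F 2 :=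
        mul_mem (mul_mem hP.1 hP.1) hgS
      obtain ⟨c, hc, hc'⟩ := alt_of_commute hF h (hconjSU _ hS2) e2
      exact (Subgroup.mul_mem_cancel_left X (mul_mem hP hP)).1 ⟨hS2, c, hc, hc'⟩
    · have hP := hmemX hπ'
      have e2 : mat (U⁻¹ * (U * permGL 6 F π * U⁻¹ * g) * U) * big F =
          big F * mat (U⁻¹ * (U * permGL 6 F π * U⁻¹ * g) * U) := by
        rw [show U⁻¹ * (U * permGL 6 F π * U⁻¹ * g) * U = permGL 6 F π * (U⁻¹ * g * U) by group]
        simp only [mat, Units.val_mul] at e hmid ⊢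
        exact hmid _ e
      have hS2 : U * permGL 6 F π * U⁻¹ * g ∈ SUn 6 F 2 := mul_mem hP.1 hgS
      obtain ⟨c, hc, hc'⟩ := alt_of_commute hF h (hconjSU _ hS2) e2
      exact (Subgroup.mul_mem_cancel_left X hP).1 ⟨hS2, c, hc, hc'⟩
  refine ⟨X, lt_of_le_of_ne hle fun e => ?_, lt_of_le_of_ne (fun g hg => hg.1) fun e => ?_⟩
  · have hmem := hmemX (π := flip2) (by simp)
    rw [← e] at hmem
    have h3 := hnorm _ hmem.1
    rw [show U⁻¹ * (U * permGL 6 F flip2 * U⁻¹) * U = permGL 6 F flip2 by group, ← hperm, ← hbigmap] at h3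
    obtain ⟨f1, f2, f4⟩ := flip_table
    simp only [← RingHom.mapMatrix_apply, ← map_mul, ← map_pow] at h3
    have hinj : Function.Injective (ι₂.mapMatrix (m := Fin 6)) := fun A B hAB => Matrix.ext fun i j =>
      hι (congrFun (congrFun hAB i) j)
    rcases h3 with e' | e' | e'
    · exact f1 (hinj e')
    · exact f2 (hinj e')
    · exact f4 (hinj e')
  · obtain ⟨a, ha, hord⟩ := exists_normOne (F := F) (q := 2) (by rw [hF]; norm_num) h
    have hmem := torus_mem_SU h ha (i := (0 : Fin 6)) (j := 1) (by decide)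
    obtain ⟨-, c, -, hcc'⟩ : U * diagGL (torusVec (0 : Fin 6) 1 a) * U⁻¹ ∈ X := e ▸ hconjSU' _ hmem
    rw [show U⁻¹ * (U * diagGL (torusVec (0 : Fin 6) 1 a) * U⁻¹) * U = diagGL (torusVec (0 : Fin 6) 1 a) by group] at hcc'
    have h1 := hcc' (Pi.single 0 1) (Pi.single 3 1)
    have h2' := hcc' (Pi.single 1 1) (Pi.single 4 1)
    rw [mat_diagGL] at h1 h2'
    simp [alt, ix, Fin.sum_univ_three, torusVec, Matrix.mulVec_diagonal, finProdFinEquiv, Pi.single_apply] at h1 h2'
    have e3 : (a : F) * a = 1 := by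
      rw [← h1] at h2'
      rw [h.eq_pow, pow_two] at ha
      first
        | (rw [← h2'] at ha; linear_combination ha)
        | (field_simp at h2'; linear_combination -h2')
    exact normOne_sq_ne_one h.one_lt hord e3

end CfsgLib.AschbacherUnitary.SixTwoField
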