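import Cfsg.Agent.Linear.SmallFields

/-!
Tables for the field of sixty-four elements acting on three coordinates over the field of four elements.
-/

set_option autoImplicit false

namespace CfsgLib.AschbacherUnitary.SixTwoField

open Matrix CfsgLib.Linear

/-- Multiplication by a root of `x ^ 3 + x ^ 2 + 1` in its self-dual normal basis. -/
def N (R : Type*) [Zero R] [One R] : Matrix (Fin 3) (Fin 3) R := !![0, 1, 0; 1, 0, 1; 0, 1, 1]

/-- A polynomial in `N`. -/
def poly {R : Type*} [CommRing R] (a b c : R) : Matrix (Fin 3) (Fin 3) R := a • 1 + b • N R + c • (N R * N R)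

/-- The linear recurrence of the traces. -/
def rec3 (l : Fin 3 → ZMod 2) : ℕ → ZMod 2
  | 0 => l 0
  | 1 => l 1
  | 2 => l 2
  | t + 3 => rec3 l (t + 2) + rec3 l t

theorem rescale_table : ∀ l : Fin 3 → ZMod 2, l ≠ 0 → ∃ c : Fin 3 → ZMod 2, ∀ i j : Fin 3,
    ∑ s : Fin 3, ∑ t : Fin 3, c s * c t * rec3 l (2 ^ i.1 + 2 ^ j.1 + s.1 + t.1) = if i = j then 1 else 0 := by
  decide +kernel

theorem unit_table : ∀ a b c : GF4, (poly a b c).det = 1 →
    poly a b c * poly (a * a) (b * b) (c * c) = 1 → b = 0 ∧ c = 0 := by decide +kernel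

theorem det_zero_table : ∀ a b c : GF4, (poly a b c).det = 0 → a = 0 ∧ b = 0 ∧ c = 0 := by decide +kernel

end CfsgLib.AschbacherUnitary.SixTwoField
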