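import Cfsg.Agent.AschbacherUnitary.SixTwo
import Cfsg.Agent.AschbacherUnitary.SixTwoFieldData

/-!
A cubic field closed under adjoints in dimension six over four elements has an orthonormal basis in which it acts
by two copies of a fixed symmetric matrix.
-/

set_option autoImplicit false
set_option maxHeartbeats 1000000

namespace CfsgLib.AschbacherUnitary.SixTwoField

open Matrix CfsgLib.Aschbacher CfsgLib.AschbacherForms CfsgLib.AschbacherUnitary
attribute [-simp] RingEquiv.coe_refl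

variable {F : Type*} [Field F] [Fintype F] {σ : F ≃+* F}

theorem neg_eq (hF : Fintype.card F = 4) {M : Type*} [AddCommGroup M] [Module F M] (x : M) : -x = x := by
  rw [← neg_one_smul F x, show (-1 : F) = 1 by linear_combination (-1 : F) * SixTwo.two_eq_zero hF, one_smul]

/-- The roots of `z ^ 3 + z ^ 2 + 1` in a field subalgebra are the conjugates of one of them. -/
theorem root_cases (hF : Fintype.card F = 4) {n r : ℕ} {K : Subalgebra F (Matrix (Fin n) (Fin n) F)}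
    (hK : Cfsg.Geo.IsFieldSubalgebra r K) {m z : Matrix (Fin n) (Fin n) F} (hm : m ∈ K) (hz : z ∈ K)
    (hpm : m ^ 3 + m ^ 2 + 1 = 0) (hpz : z ^ 3 + z ^ 2 + 1 = 0) : z = m ∨ z = m ^ 2 ∨ z = m ^ 4 := by
  letI : CommRing K := { (inferInstance : Ring K) with mul_comm := fun a b => Subtype.ext (hK.comm a a.2 b b.2) }
  let M : K := ⟨m, hm⟩
  let Z : K := ⟨z, hz⟩
  have hM : M ^ 3 + M ^ 2 + 1 = 0 := Subtype.ext hpm
  have hZ : Z ^ 3 + Z ^ 2 + 1 = 0 := Subtype.ext hpz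
  have h2 : (2 : K) = 0 := by
    rw [show (2 : K) = algebraMap F K 2 from (map_ofNat _ 2).symm, SixTwo.two_eq_zero hF, map_zero]
  have e : (Z - M) * (Z - M ^ 2) * (Z - M ^ 4) = 0 := by
    linear_combination (1 : K) * hZ + (1 + M ^ 2 + M ^ 3 + M ^ 4 + M ^ 3 * Z + (1 + M) * Z ^ 2) * hM
      - (1 + M ^ 2 + M ^ 3 + M ^ 4 + M ^ 5 + M ^ 6 + M ^ 7 + Z ^ 2 + M * Z ^ 2 + M ^ 2 * Z ^ 2 + M ^ 3 * Z ^ 2
        + M ^ 4 * Z ^ 2) * h2
  have inv : ∀ a : K, a.1 ≠ 0 → ∀ b, a * b = 0 → b = 0 := fun a ha b hab => by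
    obtain ⟨y, hy, hay⟩ := hK.inv a.1 a.2 ha
    calc b = (⟨y, hy⟩ * a) * b := by rw [mul_comm ⟨y, hy⟩ a, show a * ⟨y, hy⟩ = 1 from Subtype.ext hay, one_mul]
      _ = 0 := by rw [mul_assoc, hab, mul_zero]
  by_cases h1 : z = m
  · exact Or.inl h1
  by_cases h4 : z = m ^ 2
  · exact Or.inr (Or.inl h4)
  refine Or.inr (Or.inr ?_)
  have e1 := inv ((Z - M) * (Z - M ^ 2)) (fun e0 => ?_) _ e
  · exact congrArg Subtype.val (sub_eq_zero.1 e1)
  · have := inv (Z - M) (fun e' => h1 (congrArg Subtype.val (sub_eq_zero.1 (Subtype.ext e' : Z - M = 0)))) _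
      (Subtype.ext e0 : (Z - M) * (Z - M ^ 2) = 0)
    exact h4 (congrArg Subtype.val (sub_eq_zero.1 this))

/-- A field of degree three has a self-adjoint root of `z ^ 3 + z ^ 2 + 1`. -/
theorem exists_root (hF : Fintype.card F = 4) (h : IsConj 2 σ) {K : Subalgebra F (Matrix (Fin 6) (Fin 6) F)}
    (hK : Cfsg.Geo.IsFieldSubalgebra 3 K) (hadj : Cfsg.Geo.IsAdjointClosedFor (Cfsg.hermForm 6 F 2) K) :
    ∃ m ∈ K, m ^ 3 + m ^ 2 + 1 = 0 ∧ (m.map σ)ᵀ = m := by
  classical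
  letI : CommRing K := { (inferInstance : Ring K) with mul_comm := fun a b => Subtype.ext (hK.comm a a.2 b b.2) }
  haveI : Nontrivial K :=
    ⟨⟨0, 1, fun e => zero_ne_one (congrArg Subtype.val e : (0 : Matrix (Fin 6) (Fin 6) F) = 1)⟩⟩
  haveI : NoZeroDivisors K := ⟨fun {a b} hab => by
    by_contra hne
    rw [not_or] at hne
    obtain ⟨a', ha', haa⟩ := hK.inv a.1 a.2 fun e => hne.1 (Subtype.ext e)
    apply hne.2
    apply Subtype.ext
    have h1 : a' * (a.1 * b.1) = 0 := by rw [show a.1 * b.1 = 0 from congrArg Subtype.val hab, mul_zero]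
    rw [← mul_assoc, hK.comm a' ha' a.1 a.2, haa, one_mul] at h1
    exact h1⟩
  haveI : IsDomain K := NoZeroDivisors.to_isDomain _
  haveI : Fintype K := Fintype.ofFinite _
  letI : Field K := Fintype.fieldOfDomain K
  have hcardK : Nat.card K = 64 := by
    rw [Module.natCard_eq_pow_finrank (K := F), hK.finrank_eq, Nat.card_eq_fintype_card, hF]
    norm_num
  haveI : Fact (Nat.Prime 7) := ⟨by norm_num⟩
  obtain ⟨g, hg⟩ : ∃ g : Kˣ, orderOf g = 7 :=
    exists_prime_orderOf_dvd_card' 7 (by rw [Nat.card_units, hcardK]; norm_num)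
  have h7 : (g : K) ^ 7 = 1 := by rw [← Units.val_pow_eq_pow_val, ← hg, pow_orderOf_eq_one, Units.val_one]
  have hne1 : (g : K) ≠ 1 := fun e => by
    rw [Units.val_eq_one] at e
    rw [e, orderOf_one] at hg
    norm_num at hg
  have h2 : (2 : K) = 0 := by
    rw [show (2 : K) = algebraMap F K 2 from (map_ofNat _ 2).symm, SixTwo.two_eq_zero hF, map_zero]
  obtain ⟨y, hy7, hy1, hy⟩ : ∃ y : K, y ^ 7 = 1 ∧ y ≠ 1 ∧ y ^ 3 + y ^ 2 + 1 = 0 := by
    set a := (g : K)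
    have e : (a - 1) * ((a ^ 3 + a + 1) * (a ^ 3 + a ^ 2 + 1)) = 0 := by
      linear_combination h7 + (a ^ 4 - a ^ 3) * h2
    rcases mul_eq_zero.1 ((mul_eq_zero.1 e).resolve_left (sub_ne_zero.2 hne1)) with h1 | h1
    · refine ⟨a ^ 6, by rw [← pow_mul, mul_comm, pow_mul, h7, one_pow], fun e' => hne1 ?_, ?_⟩
      · calc a = a * a ^ 6 := by rw [e', mul_one]
          _ = 1 := by rw [← h7]; ring
      · have ha0 : a ≠ 0 := g.ne_zero
        have e2 : a ^ 3 * ((a ^ 6) ^ 3 + (a ^ 6) ^ 2 + 1) = 0 := by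
          linear_combination h1 + ((a ^ 7) ^ 2 + a ^ 7 + 1 + a * (a ^ 7 + 1)) * h7
        exact (mul_eq_zero.1 e2).resolve_left (pow_ne_zero _ ha0)
    · exact ⟨a, h7, hne1, h1⟩
  have hy' : (y.1) ^ 3 + (y.1) ^ 2 + 1 = 0 := by
    have e := congrArg Subtype.val hy
    simpa using e
  refine ⟨y.1, y.2, hy', ?_⟩
  have hadjK : (y.1.map σ)ᵀ ∈ K := by
    obtain ⟨k', hk', e⟩ := hadj y.1 y.2
    rw [show (y.1.map σ)ᵀ = k' from ?_]
    · exact hk'
    refine Matrix.ext fun a b => ?_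
    have e1 := e (Pi.single a 1) (Pi.single b 1)
    rw [h.herm_eq, h.herm_eq, Matrix.mulVec_single_one, Matrix.mulVec_single_one] at e1
    simp [Pi.single_apply, apply_ite σ] at e1
    show σ (y.1 b a) = k' a b
    rw [e1, h.involutive]
  have hst : ∀ a : Matrix (Fin 6) (Fin 6) F, ((a * a).map σ)ᵀ = (a.map σ)ᵀ * (a.map σ)ᵀ := fun a => by
    rw [Matrix.map_mul, Matrix.transpose_mul]
  have hroot : ((y.1.map σ)ᵀ) ^ 3 + ((y.1.map σ)ᵀ) ^ 2 + 1 = 0 := by
    have e := congrArg (fun M : Matrix (Fin 6) (Fin 6) F => (M.map σ)ᵀ) hy'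
    simp only [Matrix.map_add _ (map_add σ), Matrix.map_one _ (map_zero σ) (map_one σ), Matrix.transpose_add,
      Matrix.transpose_one, Matrix.map_zero _ (map_zero σ), Matrix.transpose_zero] at e
    rw [pow_succ, pow_two, Matrix.map_mul, Matrix.transpose_mul, hst] at e
    rw [pow_succ', pow_two]
    exact e
  have hinv : ∀ a : Matrix (Fin 6) (Fin 6) F, (((a.map σ)ᵀ).map σ)ᵀ = a := fun a =>
    Matrix.ext fun i j => h.involutive _
  have hcontra : ∀ k : ℕ, 1 < k → ¬ 7 ∣ (k - 1) → y.1 ^ k ≠ y.1 := by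
    intro k hk hd e
    have e2 : y ^ k = y := Subtype.ext (by rw [SubmonoidClass.coe_pow]; exact e)
    have hy0 : y ≠ 0 := fun e0 => by rw [e0, zero_pow (by norm_num)] at hy7; exact zero_ne_one hy7
    have e3 : y ^ (k - 1) = 1 := mul_right_cancel₀ hy0 (by rw [← pow_succ, Nat.sub_add_cancel hk.le, e2, one_mul])
    exact hd (orderOf_eq_prime hy7 hy1 ▸ orderOf_dvd_of_pow_eq_one e3)
  rcases root_cases hF hK y.2 hadjK hy' hroot with e | e | e
  · exact e
  · exfalso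
    refine hcontra 4 (by norm_num) (by norm_num) ?_
    have e2 := congrArg (fun M : Matrix (Fin 6) (Fin 6) F => (M.map σ)ᵀ) e
    simp only [hinv, pow_two, hst] at e2
    rw [e] at e2
    calc y.1 ^ 4 = y.1 ^ 2 * y.1 ^ 2 := by rw [← pow_add]
      _ = _ := by simp only [pow_two] at e2 ⊢; exact e2.symm
  · exfalso
    refine hcontra 16 (by norm_num) (by norm_num) ?_
    have e2 := congrArg (fun M : Matrix (Fin 6) (Fin 6) F => (M.map σ)ᵀ) e
    simp only [hinv] at e2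
    rw [show y.1 ^ 4 = (y.1 * y.1) * (y.1 * y.1) by simp [pow_succ, mul_assoc], hst, hst, e] at e2
    conv_rhs => rw [e2]
    simp [← pow_add]

/-- The sums of the orthonormal system attached to a self-adjoint root. -/
theorem exists_triple (hF : Fintype.card F = 4) (h : IsConj 2 σ) {m : Matrix (Fin 6) (Fin 6) F}
    (hp : m ^ 3 + m ^ 2 + 1 = 0) (hm : (m.map σ)ᵀ = m) (W : Submodule F (Fin 6 → F)) (hW : ∀ w ∈ W, m *ᵥ w ∈ W)
    (hnd : Cfsg.Geo.IsNondegenerateOn (Cfsg.hermForm 6 F 2) W) (h0 : W ≠ ⊥) :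
    ∃ e ∈ W, ∀ i j : Fin 3, Cfsg.hermForm 6 F 2 (m ^ (2 ^ i.1) *ᵥ e) (m ^ (2 ^ j.1) *ᵥ e) =
      if i = j then 1 else 0 := by
  classical
  have h2 := SixTwo.two_eq_zero hF
  have hu := h.unitary (n := 6)
  have hf := isReflexive_unitary hu
  haveI : CharP F 2 := CharTwo.of_one_ne_zero_of_two_eq_zero one_ne_zero h2
  let ι₂ : ZMod 2 →+* F := ZMod.castHom (dvd_refl 2) F
  have hfixed : ∀ x : F, σ x = x → ∃ b : ZMod 2, x = ι₂ b := fun x hx => by
    rw [h.eq_pow] at hx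
    have h1 : x * (x - 1) = 0 := by linear_combination hx
    rcases mul_eq_zero.1 h1 with h3 | h3
    · exact ⟨0, by rw [h3, map_zero]⟩
    · exact ⟨1, by rw [sub_eq_zero.1 h3, map_one]⟩
  have hsa : ∀ u v, Cfsg.hermForm 6 F 2 (m *ᵥ u) v = Cfsg.hermForm 6 F 2 u (m *ᵥ v) := by
    intro u v
    rw [h.herm_eq, h.herm_eq]
    simp only [Matrix.mulVec, dotProduct, map_sum, map_mul, Finset.sum_mul, Finset.mul_sum]
    rw [Finset.sum_comm]
    refine Finset.sum_congr rfl fun a _ => Finset.sum_congr rfl fun b _ => ?_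
    have e : σ (m a b) = m b a := congrFun (congrFun hm b) a
    rw [e]
    ring
  have hsat : ∀ (t : ℕ) u v, Cfsg.hermForm 6 F 2 (m ^ t *ᵥ u) v = Cfsg.hermForm 6 F 2 u (m ^ t *ᵥ v) := by
    intro t
    induction t with
    | zero => intro u v; simp
    | succ t ih =>
      intro u v
      conv_lhs => rw [pow_succ, ← Matrix.mulVec_mulVec, ih, hsa, Matrix.mulVec_mulVec, ← pow_succ']
  have hWt : ∀ (t : ℕ), ∀ w ∈ W, m ^ t *ᵥ w ∈ W := by
    intro t
    induction t with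
    | zero => intro w hw; simpa
    | succ t ih => intro w hw; rw [pow_succ', ← Matrix.mulVec_mulVec]; exact hW _ (ih w hw)
  -- a vector with a non-zero functional
  obtain ⟨e₀, he₀, t₀, ht₀⟩ : ∃ e ∈ W, ∃ t : Fin 3, Cfsg.hermForm 6 F 2 (m ^ t.1 *ᵥ e) e ≠ 0 := by
    by_contra hcon
    push Not at hcon
    obtain ⟨z, hz, hz0⟩ := (Submodule.ne_bot_iff _).1 h0
    obtain ⟨⟨t, ht, htz⟩, -⟩ := hnd z hz hz0
    obtain ⟨c, hc⟩ := MaxSub.trace_surjective hu.ne_refl hu.involutive (a := (1 : F)) (map_one σ)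
    have hdiag : ∀ x ∈ W, Cfsg.hermForm 6 F 2 x x = 0 := fun x hx => by
      simpa using hcon x hx 0
    have e := hdiag ((c / Cfsg.hermForm 6 F 2 t z) • t + z) (W.add_mem (W.smul_mem _ ht) hz)
    rw [hf.sesq.add_left, hf.sesq.add_right, hf.sesq.add_right, hf.sesq.smul_left, hf.sesq.smul_left,
      hf.sesq.smul_right, hf.sesq.smul_right, hdiag t ht, hdiag z hz, mul_zero, mul_zero, zero_add, add_zero,
      hu.herm z t, ← map_mul, div_mul_cancel₀ _ htz, hc] at e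
    exact one_ne_zero e
  have hself : ∀ t, σ (Cfsg.hermForm 6 F 2 (m ^ t *ᵥ e₀) e₀) = Cfsg.hermForm 6 F 2 (m ^ t *ᵥ e₀) e₀ := fun t => by
    rw [← hu.herm e₀ (m ^ t *ᵥ e₀)]
    exact (hsat t _ _).symm
  choose l hl using fun t : Fin 3 => hfixed _ (hself t.1)
  have hm3 : ∀ t, m ^ (t + 3) = m ^ (t + 2) + m ^ t := fun t => by
    have e3 : m ^ 3 = m ^ 2 + 1 := by
      rw [add_assoc, add_eq_zero_iff_eq_neg] at hp
      rw [hp, neg_eq hF]
    rw [pow_add, e3, mul_add, ← pow_add, mul_one]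
  have hrec : ∀ t, Cfsg.hermForm 6 F 2 (m ^ t *ᵥ e₀) e₀ = ι₂ (rec3 l t) := by
    intro t
    induction t using Nat.strong_induction_on with
    | _ t ih =>
      match t with
      | 0 => rw [rec3]; exact hl 0
      | 1 => rw [rec3]; exact hl 1
      | 2 => rw [rec3]; exact hl 2
      | t + 3 =>
        rw [rec3, map_add, hm3, Matrix.add_mulVec, hf.sesq.add_left, ih _ (by omega), ih _ (by omega)]
  obtain ⟨c, hc⟩ := rescale_table l fun e => by
    apply ht₀
    rw [hl t₀, e]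
    simp
  let e := ∑ s : Fin 3, ι₂ (c s) • (m ^ s.1 *ᵥ e₀)
  have heW : e ∈ W := Submodule.sum_mem _ fun s _ => W.smul_mem _ (hWt _ _ he₀)
  have hσι : ∀ b, σ (ι₂ b) = ι₂ b := fun b => by
    rw [h.eq_pow, ← map_pow]
    congr 1
    revert b
    decide
  refine ⟨e, heW, fun i j => ?_⟩
  have e1 : ∀ k : ℕ, m ^ k *ᵥ e = ∑ s : Fin 3, ι₂ (c s) • (m ^ (k + s.1) *ᵥ e₀) := fun k => by
    simp only [e, Matrix.mulVec_sum, Matrix.mulVec_smul, Matrix.mulVec_mulVec, ← pow_add]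
  rw [e1, e1, hf.sesq.sum_left]
  have e2 : ∀ (a b : ℕ), Cfsg.hermForm 6 F 2 (m ^ a *ᵥ e₀) (m ^ b *ᵥ e₀) = ι₂ (rec3 l (b + a)) := fun a b => by
    rw [← hsat b, Matrix.mulVec_mulVec, ← pow_add, hrec]
  rw [show (if i = j then (1 : F) else 0) = ι₂ (if i = j then 1 else 0) by rw [apply_ite ι₂, map_one, map_zero],
    ← hc i j, map_sum]
  refine Finset.sum_congr rfl fun s _ => ?_
  rw [hf.sesq.smul_left, hf.sesq.sum_right, Finset.mul_sum, map_sum]
  refine Finset.sum_congr rfl fun t _ => ?_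
  rw [hf.sesq.smul_right, hσι, e2, map_mul, map_mul, show 2 ^ j.1 + t.1 + (2 ^ i.1 + s.1) = 2 ^ i.1 + 2 ^ j.1 + s.1 + t.1 by ring]
  ring

end CfsgLib.AschbacherUnitary.SixTwoField
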