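import Cfsg.Agent.AschbacherUnitary.Prime
import Cfsg.Agent.AschbacherUnitary.NotLeFour
import Cfsg.Agent.MaxSub.QuadraticBasic

/-!
The maximal subgroups of the three-dimensional special unitary groups over at least nine elements, up to the
residual class and before the small exceptions are removed.
-/

set_option autoImplicit false
set_option linter.unusedSectionVars false
set_option linter.style.haveILetI false

namespace CfsgLib.AschbacherUnitary

open Matrix CfsgLib.Aschbacher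
open scoped commutatorElement

variable {n q : ℕ} {F : Type*} [Field F] [Fintype F] {σ : F ≃+* F}

/-- An isotropic transvection in the special unitary group. -/
theorem exists_tvElt (h : IsConj q σ) {v : Fin n → F} (hv : Cfsg.hermForm n F q v v = 0) {c : F}
    (hc : σ c = -c) :
    ∃ g ∈ SUn n F q, mat g = 1 + c • vecMulVec v (fun i => σ (v i)) := by
  have hmem := CfsgLib.MaxSub.hermTv_mem h.unitary hv hc
  have hsesq := CfsgLib.MaxSub.sesqForm_of_unitary (h.unitary (n := n))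
  have h0 : CfsgLib.MaxSub.leftVec (Cfsg.hermForm n F q) v ⬝ᵥ (c • v) = 0 := by
    rw [dotProduct_smul, hsesq.dot_leftVec, hv, smul_zero]
  refine ⟨_, hmem, ?_⟩
  show ((CfsgLib.MaxSub.tv (c • v) (CfsgLib.MaxSub.leftVec (Cfsg.hermForm n F q) v) : GL (Fin n) F) :
    Matrix (Fin n) (Fin n) F) = _
  rw [CfsgLib.MaxSub.tv_coe h0, ← Matrix.smul_vecMulVec]
  congr
  funext i
  show Cfsg.hermForm n F q (Pi.single i 1) v = σ (v i)
  rw [h.herm_eq, Fintype.sum_eq_single i (fun j hj => by rw [Pi.single_eq_of_ne hj, zero_mul]),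
    Pi.single_eq_same, one_mul]

theorem vecMulVec_herm_sq (h : IsConj q σ) {v : Fin n → F} (hv : Cfsg.hermForm n F q v v = 0) :
    vecMulVec v (fun i => σ (v i)) * vecMulVec v (fun i => σ (v i)) = 0 := by
  rw [Matrix.vecMulVec_mul_vecMulVec, show (fun i => σ (v i)) ⬝ᵥ v = 0 by rw [dotProduct_comm, ← hv, h.herm_eq]; rfl]
  simp

/-- Unipotent elements of a subfield group are rational. -/
theorem unipotent_rational {F₁ : Subfield F} {P g : GL (Fin n) F} (hn : 0 < n)
    (hg : g ∈ Cfsg.Geo.subfieldSubgroup F₁ P) {N : Matrix (Fin n) (Fin n) F} (hgN : mat g = 1 + N)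
    (hN : N * N = 0) : ∀ i j, (mat P⁻¹ * mat g * mat P) i j ∈ F₁ := by
  classical
  obtain ⟨c, hc, hcg⟩ := exists_smul_of_mem_subfieldSubgroup hg
  obtain ⟨p, hchar⟩ := CharP.exists F
  haveI := hchar
  haveI : Fact p.Prime := ⟨CharP.char_is_prime F p⟩
  set M := mat P⁻¹ * mat g * mat P with hM
  set X : Matrix (Fin n) (Fin n) F₁ := Matrix.of fun i j => ⟨c * M i j, hcg i j⟩ with hX
  have hXM : X.map F₁.subtype = c • M := by ext i j; rfl
  have hMp : M ^ p = 1 := by
    have e : ∀ m : ℕ, (1 + N) ^ m = 1 + (m : F) • N := by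
      intro m
      induction m with
      | zero => simp
      | succ m ih =>
        rw [pow_succ, ih, add_mul, one_mul, mul_add, mul_one, Matrix.smul_mul, hN, smul_zero, add_zero,
          Nat.cast_succ, add_smul, one_smul]
        abel
    have hg' : mat g ^ p = 1 := by rw [hgN, e, CharP.cast_eq_zero, zero_smul, add_zero]
    have hconj : ∀ m : ℕ, M ^ m = mat P⁻¹ * mat g ^ m * mat P := by
      intro m
      induction m with
      | zero => simp [mat]
      | succ m ih =>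
        rw [pow_succ, ih, hM, pow_succ]
        simp only [Matrix.mul_assoc]
        rw [← Matrix.mul_assoc (mat P), mat_mul_inv, Matrix.one_mul]
    rw [hconj, hg', mul_one, mat_inv_mul]
  have hcp : c ^ p ∈ F₁ := by
    have e : (c • M) ^ p = (c ^ p) • 1 := by rw [smul_pow, hMp]
    rw [← hXM, ← RingHom.mapMatrix_apply, ← map_pow, RingHom.mapMatrix_apply] at e
    have e2 := congrFun (congrFun e ⟨0, hn⟩) ⟨0, hn⟩
    simp at e2
    rw [← e2]
    exact Subtype.mem _
  haveI : CharP F₁ p := (F₁.subtype.charP_iff_charP p).2 hchar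
  haveI : ExpChar F₁ p := ExpChar.prime Fact.out
  haveI : ExpChar F p := ExpChar.prime Fact.out
  obtain ⟨y, hy⟩ := (Finite.injective_iff_surjective.1 (frobenius_inj F₁ p)) ⟨c ^ p, hcp⟩
  have hyc : (y : F) = c := frobenius_inj F p (congrArg Subtype.val hy)
  intro i j
  have e : M i j = (y : F)⁻¹ * (c * M i j) := by rw [hyc, inv_mul_cancel_left₀ hc]
  rw [e]
  exact F₁.mul_mem (F₁.inv_mem y.2) (hcg i j)

/-- The trace of a product of two transvections. -/
theorem trace_tv_mul (h : IsConj q σ) {v w : Fin n → F} (c d : F)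
    (hv : Cfsg.hermForm n F q v v = 0) (hw : Cfsg.hermForm n F q w w = 0) :
    ((1 + c • vecMulVec v (fun i => σ (v i))) * (1 + d • vecMulVec w (fun i => σ (w i)))).trace =
      (n : F) + c * d * (Cfsg.hermForm n F q w v * Cfsg.hermForm n F q v w) := by
  have hdot : ∀ x y : Fin n → F, (fun i => σ (x i)) ⬝ᵥ y = Cfsg.hermForm n F q y x := fun x y => by
    rw [dotProduct_comm, h.herm_eq]; rfl
  rw [add_mul, mul_add, mul_add, one_mul, one_mul, mul_one, Matrix.smul_mul, Matrix.mul_smul,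
    Matrix.vecMulVec_mul_vecMulVec, hdot]
  simp only [Matrix.trace_add, Matrix.trace_one, Matrix.trace_smul, Matrix.trace_vecMulVec, Fintype.card_fin,
    smul_eq_mul, dotProduct_comm v, dotProduct_comm w, hdot, hv, hw]
  simp only [smul_dotProduct, smul_eq_mul, hdot]
  ring

theorem exists_fixed_sq_ne_one (hF : Fintype.card F = q ^ 2) (h : IsConj q σ) (hq : 4 ≤ q) :
    ∃ l : F, σ l = l ∧ l ≠ 0 ∧ l * l ≠ 1 := by
  classical
  obtain ⟨g, hg⟩ := IsCyclic.exists_generator (α := Fˣ)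
  have hord : orderOf g = q ^ 2 - 1 := by
    rw [orderOf_eq_card_of_forall_mem_zpowers hg, Nat.card_eq_fintype_card, Fintype.card_units, hF]
  have e : q ^ 2 - 1 = (q + 1) * (q - 1) := by
    have := Nat.sq_sub_sq q 1
    simpa using this
  have hl : orderOf (g ^ (q + 1)) = q - 1 := by
    rw [orderOf_pow_of_dvd (by omega) (by rw [hord, e]; exact dvd_mul_right _ _), hord, e,
      Nat.mul_div_cancel_left _ (by omega)]
  refine ⟨((g ^ (q + 1) : Fˣ) : F), ?_, Units.ne_zero _, fun h1 => ?_⟩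
  · rw [h.eq_pow, ← Units.val_pow_eq_pow_val, Units.val_inj,
      show (g ^ (q + 1)) ^ q = (g ^ (q + 1)) ^ (q - 1) * g ^ (q + 1) by rw [← pow_succ]; congr 1; omega,
      ← hl, pow_orderOf_eq_one, one_mul]
  · have h2 : (g ^ (q + 1)) ^ 2 = 1 := by rw [pow_two]; exact Units.ext h1
    have := Nat.le_of_dvd two_pos (hl ▸ orderOf_dvd_of_pow_eq_one h2)
    omega

/-- A non-scalar element of a derived torus of `SU₃`. -/
theorem torus_three_mem_commutator (h : IsConj q σ) {b : Fˣ} (hb : (b : F) * σ b = 1) :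
    diagGL ![b⁻¹, b * b, b⁻¹] ∈ ⁅SUn 3 F q, SUn 3 F q⁆ := by
  let π : Equiv.Perm (Fin 3) := Equiv.swap 0 1 * Equiv.swap 1 2
  have hπ : π ∈ alternatingGroup (Fin 3) := swap_swap_mem_alternating (by decide) (by decide)
  have key : ⁅permGL 3 F π, diagGL (torusVec (0 : Fin 3) 1 b)⁆ = diagGL ![b⁻¹, b * b, b⁻¹] := by
    rw [commutatorElement_def, ← map_inv]
    refine Units.ext ?_
    apply Matrix.toLin'.injective
    apply LinearMap.ext
    intro v
    funext x
    simp only [Units.val_mul, Matrix.toLin'_mul, LinearMap.comp_apply, Matrix.toLin'_apply,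
      permGL_mulVec, mat_diagGL]
    rw [show ((diagGL (torusVec (0 : Fin 3) 1 b))⁻¹ : GL (Fin 3) F).1 =
      Matrix.diagonal fun i => ((torusVec (0 : Fin 3) 1 b i)⁻¹ : Fˣ).1 from rfl]
    simp only [Matrix.mulVec_diagonal]
    fin_cases x <;> simp [π, torusVec, Equiv.swap_apply_def] <;> ring
  rw [← key]
  exact Subgroup.commutator_mem_commutator (permGL_mem h hπ) (torus_mem_SU h hb (by decide))

section three

variable (hF : Fintype.card F = q ^ 2) (h : IsConj q σ) (hq : 3 ≤ q)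
include hF h

/-- Two non-orthogonal isotropic vectors. -/
theorem exists_iso_three : ∃ (l : F) (v w : Fin 3 → F), l ≠ 0 ∧ v = ![1, l, 0] ∧ w = ![0, 1, l] ∧
    Cfsg.hermForm 3 F q v v = 0 ∧ Cfsg.hermForm 3 F q w w = 0 ∧ Cfsg.hermForm 3 F q v w = l := by
  obtain ⟨l, hl⟩ := CfsgLib.MaxSub.norm_surjective h.ne_refl h.involutive (a := -1) (by simp)
  have hl0 : l ≠ 0 := by rintro rfl; simp at hl
  refine ⟨l, _, _, hl0, rfl, rfl, ?_, ?_, ?_⟩ <;> rw [h.herm_eq] <;> simp [Fin.sum_univ_three, hl]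

include hq

theorem not_le_lines_three {D : Fin 3 → Submodule F (Fin 3 → F)}
    (hD : Cfsg.Geo.IsNondegenerateMDecomposition (Cfsg.hermForm 3 F q) 1 D) :
    ¬ SUn 3 F q ≤ Cfsg.Geo.decompositionStabilizer D := by
  intro hle
  obtain ⟨B, hB, hBD⟩ := exists_orthonormal h hD
  obtain ⟨l, v, -, hl0, rfl, -, hv, -, -⟩ := exists_iso_three hF h
  obtain ⟨z, hz0, hz⟩ := CfsgLib.MaxSub.exists_traceZero h.ne_refl h.involutive
  have hzσ : σ z = -z := hz
  obtain ⟨c, hc0, hc1, hc⟩ : ∃ c : F, c ≠ 0 ∧ 1 + c ≠ 0 ∧ σ c = -c := by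
    by_cases h1 : 1 + z = 0
    · rcases (show q = 3 ∨ 4 ≤ q by omega) with rfl | h4
      · exfalso
        have h2 : (2 : F) ≠ 0 := CfsgLib.MaxSub.two_ne_zero_of_odd (by rw [hF]; decide)
        have e : z = -1 := by linear_combination h1
        subst e
        simp at hzσ
        exact h2 (by linear_combination hzσ.symm)
      · obtain ⟨m, hm, hm0, hm1⟩ := exists_fixed_sq_ne_one hF h h4
        refine ⟨m * z, mul_ne_zero hm0 hz0, fun e => hm1 ?_, by rw [map_mul, hm, hzσ, mul_neg]⟩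
        have em : m = 1 := by linear_combination -e + m * h1
        rw [em, mul_one]
    · exact ⟨z, hz0, h1, hzσ⟩
  obtain ⟨g, hg, hgm⟩ := exists_tvElt h hv hc
  obtain ⟨π, hπ⟩ := hle (mat_mem_of_conj hB hg)
  have h1 := map_le_iff.1 (hπ 0).le (mat B *ᵥ Pi.single 0 1) (hBD 0 ▸ Submodule.mem_span_singleton_self _)
  rw [hBD (π 0)] at h1
  obtain ⟨d, hd⟩ := Submodule.mem_span_singleton.1 h1
  have h2 : mat (B * g * B⁻¹) *ᵥ (mat B *ᵥ Pi.single 0 1) = mat B *ᵥ (mat g *ᵥ Pi.single 0 1) := by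
    simp only [Matrix.mulVec_mulVec, mat, ← Units.val_mul]
    rw [inv_mul_cancel_right]
  rw [h2, ← Matrix.mulVec_smul] at hd
  have h3 := mulVec_injective B hd
  have e0 : (mat g *ᵥ Pi.single (0 : Fin 3) (1 : F)) 0 ≠ 0 := by
    rw [Matrix.mulVec_single_one, hgm]
    show (1 : Matrix (Fin 3) (Fin 3) F) 0 0 + c * ((1 : F) * σ 1) ≠ 0
    simp [hc1]
  have e1 : (mat g *ᵥ Pi.single (0 : Fin 3) (1 : F)) 1 ≠ 0 := by
    rw [Matrix.mulVec_single_one, hgm]
    show (1 : Matrix (Fin 3) (Fin 3) F) 1 0 + c * (l * σ 1) ≠ 0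
    simp [hc0, hl0]
  rcases eq_or_ne (π 0) 0 with e | e
  · exact e1 (by rw [← h3, e]; simp)
  · exact e0 (by rw [← h3]; simp [Ne.symm e])

theorem not_le_subfield_three {F₁ : Subfield F} {r : ℕ} (hr : r.Prime)
    (hcard : Fintype.card F = Nat.card F₁ ^ r) (P : GL (Fin 3) F) :
    ¬ SUn 3 F q ≤ Cfsg.Geo.subfieldSubgroup F₁ P := by
  classical
  intro hle
  haveI : Fintype F₁ := Fintype.ofFinite _
  have hfix : ∀ x ∈ F₁, x ^ Nat.card F₁ = x := fun x hx => by
    have := FiniteField.pow_card (⟨x, hx⟩ : F₁)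
    rw [Nat.card_eq_fintype_card]
    exact congrArg Subtype.val this
  rcases hr.eq_two_or_odd' with rfl | hodd
  · obtain ⟨a, haN, hord⟩ := exists_normOne hF h
    have hq0 : Nat.card F₁ = q := Nat.pow_left_injective two_ne_zero (hcard.symm.trans hF)
    have hmem := trace_mem_of_le_subfield hle (torus_three_mem_commutator h haN)
    rw [mat_diagGL, Matrix.trace_diagonal, Fin.sum_univ_three] at hmem
    simp at hmem
    have h1 := hfix _ hmem
    rw [hq0, ← h.eq_pow] at h1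
    have hsa : σ (a : F) = (a : F)⁻¹ := eq_inv_of_mul_eq_one_right haN
    have ha0 : (a : F) ≠ 0 := a.ne_zero
    simp [hsa] at h1
    field_simp at h1
    have h2 : ((a : F) - 1) ^ 2 * ((a : F) * a - 1) = 0 := by
      first
        | linear_combination h1
        | linear_combination -h1
    rcases mul_eq_zero.1 h2 with h3 | h3
    · exact normOne_ne_one (by omega) hord (sub_eq_zero.1 (pow_eq_zero_iff two_ne_zero |>.1 h3))
    · exact normOne_sq_ne_one (by omega) hord (sub_eq_zero.1 h3)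
  · obtain ⟨l, v, w, hl0, -, -, hv, hw, hvw⟩ := exists_iso_three hF h
    obtain ⟨z, hz0, hz⟩ := CfsgLib.MaxSub.exists_traceZero h.ne_refl h.involutive
    have hzσ : σ z = -z := hz
    have hsub : ∀ c d : F, σ c = -c → σ d = -d →
        c * d * (Cfsg.hermForm 3 F q w v * Cfsg.hermForm 3 F q v w) ∈ F₁ := by
      intro c d hc hd
      obtain ⟨g, hg, hgm⟩ := exists_tvElt h hv hc
      obtain ⟨g', hg', hgm'⟩ := exists_tvElt h hw hd
      have r1 := unipotent_rational (by norm_num) (hle hg) hgm (by rw [Matrix.smul_mul, Matrix.mul_smul,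
        vecMulVec_herm_sq h hv, smul_zero, smul_zero])
      have r2 := unipotent_rational (by norm_num) (hle hg') hgm' (by rw [Matrix.smul_mul, Matrix.mul_smul,
        vecMulVec_herm_sq h hw, smul_zero, smul_zero])
      have htr : ((mat g) * (mat g')).trace ∈ F₁ := by
        have e : mat g * mat g' =
            mat P * ((mat P⁻¹ * mat g * mat P) * (mat P⁻¹ * mat g' * mat P)) * mat P⁻¹ := by
          simp [mat, Matrix.mul_assoc]
        rw [e, Matrix.trace_mul_comm, ← Matrix.mul_assoc, mat_inv_mul, Matrix.one_mul]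
        refine F₁.sum_mem fun i _ => ?_
        rw [Matrix.diag_apply, Matrix.mul_apply]
        exact F₁.sum_mem fun j _ => F₁.mul_mem (r1 i j) (r2 j i)
      rw [hgm, hgm', trace_tv_mul h c d hv hw] at htr
      have h3 := F₁.sub_mem htr (natCast_mem F₁ 3)
      simpa using h3
    have hq0 : q ≤ Nat.card F₁ := by
      -- every fixed element is rational
      obtain ⟨γ, hγ⟩ := IsCyclic.exists_generator (α := Fˣ)
      set μ : F := ((γ ^ (q + 1) : Fˣ) : F) with hμ
      have hq2 : (γ ^ (q + 1)) ^ (q - 1) = 1 := by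
        rw [← pow_mul, show (q + 1) * (q - 1) = Fintype.card Fˣ by
          rw [Fintype.card_units, hF]; have := Nat.sq_sub_sq q 1; simpa using this.symm]
        exact pow_card_eq_one
      have hμσ : σ μ = μ := by
        rw [h.eq_pow, hμ, ← Units.val_pow_eq_pow_val, show q = q - 1 + 1 by omega, pow_succ]
        rw [show q - 1 + 1 + 1 = q + 1 by omega, hq2, one_mul]
      set k := Cfsg.hermForm 3 F q w v * Cfsg.hermForm 3 F q v w with hk
      have hk0 : k ≠ 0 := by
        have e : Cfsg.hermForm 3 F q w v = σ l := by rw [← hvw]; exact (h.unitary (n := 3)).herm w v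
        rw [hk, e, hvw]
        exact mul_ne_zero (fun e => hl0 (by rw [← h.involutive l, e, map_zero])) hl0
      have h1 := hsub z z hzσ hzσ
      have h2 := hsub (μ * z) z (by rw [map_mul, hμσ, hzσ, mul_neg]) hzσ
      have hμ1 : μ ∈ F₁ := by
        have e : μ = (μ * z * z * k) / (z * z * k) := by field_simp
        rw [e]
        exact F₁.div_mem h2 h1
      have hord : orderOf (γ ^ (q + 1)) = q - 1 := by
        have hg2 : orderOf γ = (q + 1) * (q - 1) := by
          rw [orderOf_eq_card_of_forall_mem_zpowers hγ, Nat.card_eq_fintype_card, Fintype.card_units, hF]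
          have := Nat.sq_sub_sq q 1; simpa using this
        rw [orderOf_pow_of_dvd (by omega) (hg2 ▸ dvd_mul_right _ _), hg2, Nat.mul_div_cancel_left _ (by omega)]
      have h5 : (γ ^ (q + 1)) ^ (Nat.card F₁ - 1) = 1 := by
        apply Units.ext
        rw [Units.val_pow_eq_pow_val, Units.val_one, ← hμ]
        refine mul_right_cancel₀ (show μ ≠ 0 from Units.ne_zero _) ?_
        rw [← pow_succ, Nat.sub_add_cancel Finite.one_lt_card.le, one_mul]
        exact hfix μ hμ1
      have := Nat.le_of_dvd (by have := Finite.one_lt_card (α := F₁); omega) (hord ▸ orderOf_dvd_of_pow_eq_one h5)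
      omega
    have hr3 : 3 ≤ r := by
      have := hr.two_le
      rcases hodd with ⟨t, rfl⟩
      omega
    have h1 : q ^ 2 < Nat.card F₁ ^ r :=
      lt_of_le_of_lt (Nat.pow_le_pow_left hq0 2) (Nat.pow_lt_pow_right (by omega) (by omega))
    omega

theorem not_le_subalgebraNormalizer_three {K : Subalgebra F (Matrix (Fin 3) (Fin 3) F)}
    (hK : Cfsg.Geo.IsFieldSubalgebra 3 K) : ¬ SUn 3 F q ≤ Cfsg.Geo.subalgebraNormalizer K := by
  classical
  intro hle
  have hcent : ∀ x ∈ ⁅SUn 3 F q, SUn 3 F q⁆, ∀ k ∈ K, mat x * k = k * mat x := by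
    intro x hx k hk
    let C : Subgroup (GL (Fin 3) F) :=
      { carrier := {x | ∀ k ∈ K, mat x * k = k * mat x}
        one_mem' := fun k _ => by simp [mat]
        mul_mem' := fun {a b} ha hb k hk => by
          simp only [mat, Units.val_mul] at *
          rw [mul_assoc, hb k hk, ← mul_assoc, ha k hk, mul_assoc]
        inv_mem' := fun {a} ha k hk => by
          have h1 : mat a⁻¹ * (mat a * k) * mat a⁻¹ = mat a⁻¹ * (k * mat a) * mat a⁻¹ := by
            rw [ha k hk]
          simpa [mat, mul_assoc] using h1.symm }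
    have hC : ⁅SUn 3 F q, SUn 3 F q⁆ ≤ C := by
      rw [Subgroup.commutator_le]
      intro a ha b hb k hk
      let φ := conjEquiv (hle ha)
      let ψ := conjEquiv (hle hb)
      have e := congrArg Subtype.val (conj_comm (by omega) hK φ ψ (φ.symm (ψ.symm ⟨k, hk⟩)))
      simp only [AlgEquiv.apply_symm_apply] at e
      have hsym : (φ.symm (ψ.symm ⟨k, hk⟩)).1 = mat a⁻¹ * (mat b⁻¹ * k * mat b) * mat a := rfl
      have e1 : ∀ z : K, (φ (ψ z)).1 = mat a * (mat b * z.1 * mat b⁻¹) * mat a⁻¹ := fun z => rfl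
      rw [e1, hsym] at e
      have e2 : mat a * (mat b * (mat a⁻¹ * (mat b⁻¹ * k * mat b) * mat a) * mat b⁻¹) * mat a⁻¹ =
          mat ⁅a, b⁆ * k * mat ⁅a, b⁆⁻¹ := by
        simp [mat, commutatorElement_def, mul_assoc]
      rw [e2] at e
      calc mat ⁅a, b⁆ * k = mat ⁅a, b⁆ * k * (mat ⁅a, b⁆⁻¹ * mat ⁅a, b⁆) := by rw [mat_inv_mul, mul_one]
        _ = _ := by rw [← mul_assoc, e]
    exact hC hx k hk
  obtain ⟨a, haN, hord⟩ := exists_normOne hF h
  have hne : (a : F) * a * a ≠ 1 := by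
    intro e
    have h1 : a ^ 3 = 1 := Units.ext (by rw [Units.val_pow_eq_pow_val, Units.val_one]; linear_combination e)
    have := Nat.le_of_dvd (by norm_num) (hord ▸ orderOf_dvd_of_pow_eq_one h1)
    omega
  let π : Equiv.Perm (Fin 3) := Equiv.swap 0 1 * Equiv.swap 1 2
  have hπ : π ∈ alternatingGroup (Fin 3) := swap_swap_mem_alternating (by decide) (by decide)
  have hT := torus_three_mem_commutator h haN
  have hnorm : ∀ g ∈ SUn 3 F q, ∀ x ∈ ⁅SUn 3 F q, SUn 3 F q⁆,
      g * x * g⁻¹ ∈ ⁅SUn 3 F q, SUn 3 F q⁆ := by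
    intro g hg x hx
    have hle' : ⁅SUn 3 F q, SUn 3 F q⁆.map (MulAut.conj g).toMonoidHom ≤ ⁅SUn 3 F q, SUn 3 F q⁆ := by
      rw [Subgroup.map_commutator]
      refine Subgroup.commutator_mono ?_ ?_ <;>
        · rintro _ ⟨y, hy, rfl⟩
          exact mul_mem (mul_mem hg hy) (inv_mem hg)
    exact hle' ⟨x, hx, rfl⟩
  have hS := hnorm _ (permGL_mem (q := q) h hπ) _ hT
  have hdiag : ∀ k ∈ K, ∀ i j, i ≠ j → k i j = 0 := by
    intro k hk i j hij
    have e1 := congrFun (congrFun (hcent _ hT k hk) i) j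
    rw [mat_diagGL, Matrix.diagonal_mul, Matrix.mul_diagonal] at e1
    have e2 := congrFun (congrFun (hcent _ hS k hk) i) j
    have hm : mat (permGL 3 F π * diagGL ![a⁻¹, a * a, a⁻¹] * (permGL 3 F π)⁻¹) =
        Matrix.diagonal fun x => ((![a⁻¹, a * a, a⁻¹] : Fin 3 → Fˣ) (π⁻¹ x) : F) := by
      rw [← map_inv]
      apply Matrix.toLin'.injective
      apply LinearMap.ext
      intro v
      funext x
      simp only [mat, Units.val_mul, Matrix.toLin'_mul, LinearMap.comp_apply, Matrix.toLin'_apply,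
        permGL_mulVec]
      rw [show ((diagGL ![a⁻¹, a * a, a⁻¹] : GL (Fin 3) F) : Matrix (Fin 3) (Fin 3) F) = _ from mat_diagGL _]
      simp only [Matrix.mulVec_diagonal]
      simp
    rw [hm, Matrix.diagonal_mul, Matrix.mul_diagonal] at e2
    by_contra hk0
    have f1 : ((![a⁻¹, a * a, a⁻¹] : Fin 3 → Fˣ) i : F) = (![a⁻¹, a * a, a⁻¹] : Fin 3 → Fˣ) j :=
      mul_right_cancel₀ hk0 (by linear_combination e1)
    have f2 : ((![a⁻¹, a * a, a⁻¹] : Fin 3 → Fˣ) (π⁻¹ i) : F) = (![a⁻¹, a * a, a⁻¹] : Fin 3 → Fˣ) (π⁻¹ j) :=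
      mul_right_cancel₀ hk0 (by linear_combination e2)
    have hd : ((a⁻¹ : Fˣ) : F) ≠ ((a * a : Fˣ) : F) := fun e => hne (by
      rw [Units.val_inv_eq_inv_val, Units.val_mul, inv_eq_one_div, div_eq_iff a.ne_zero] at e
      linear_combination -e)
    have h0 : π⁻¹ 0 = 2 ∧ π⁻¹ 1 = 0 ∧ π⁻¹ 2 = 1 := by decide
    fin_cases i <;> fin_cases j <;>
      first
        | exact hij rfl
        | (simp [h0.1, h0.2.1, h0.2.2] at f1 f2; done)
        | (simp [h0.1, h0.2.1, h0.2.2] at f1 f2; first | exact hd (by simpa using f1) | exact hd (by simpa using f1.symm) | exact hd (by simpa using f2) | exact hd (by simpa using f2.symm))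
  let Φ : K →ₗ[F] (Fin 3 → F) :=
    { toFun := fun k i => k.1 i i, map_add' := fun _ _ => rfl, map_smul' := fun _ _ => rfl }
  have hΦ : Function.Injective Φ := fun k k' e => Subtype.ext (Matrix.ext fun i j => by
    rcases eq_or_ne i j with rfl | hij
    · exact congrFun e i
    · rw [hdiag k k.2 i j hij, hdiag k' k'.2 i j hij])
  have hsurj : Function.Surjective Φ :=
    (LinearMap.injective_iff_surjective_of_finrank_eq_finrank
      (by rw [Module.finrank_fin_fun]; exact hK.finrank_eq)).1 hΦ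
  obtain ⟨k, hk⟩ := hsurj ![1, 0, 0]
  have hk0 : k.1 ≠ 0 := fun e => by
    have h1 : k.1 0 0 = 1 := congrFun hk 0
    rw [e] at h1
    exact zero_ne_one h1
  obtain ⟨k', hk', hkk⟩ := hK.inv _ k.2 hk0
  have h1 := congrFun (congrFun hkk 1) 1
  have h00 : k.1 1 1 = 0 := congrFun hk 1
  simp [Matrix.mul_apply, Fin.sum_univ_three, hdiag _ k.2 1 0 (by decide), hdiag _ k.2 1 2 (by decide),
    h00] at h1

theorem not_normalizes_three (h3 : q ≠ 3) {R : Subgroup (GL (Fin 3) F)}
    (hR : Cfsg.Geo.ActsAbsolutelyIrreducibly (Cfsg.Geo.matrixSet R))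
    (hRU : R ≤ Cfsg.GU 3 F q) (hcomm : ⁅R, R⁆ ≤ Cfsg.Geo.scalars (Fin 3) F) : ¬ Normalizes (SUn 3 F q) R := by
  classical
  intro hnorm
  obtain ⟨l, v, -, hl0, hvdef, -, hv, -, -⟩ := exists_iso_three hF h
  obtain ⟨z, hz0, hz⟩ := CfsgLib.MaxSub.exists_traceZero h.ne_refl h.involutive
  have hzσ : σ z = -z := hz
  obtain ⟨m, hm, hm0, hm1⟩ := exists_fixed_sq_ne_one hF h (by omega)
  have hv0 : v ≠ 0 := fun e => one_ne_zero (α := F) (by simpa [hvdef] using congrFun e 0)
  -- an element moving the vector out of its polar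
  obtain ⟨x, hx, hxv⟩ : ∃ x ∈ R, Cfsg.hermForm 3 F q (mat x *ᵥ v) v ≠ 0 := by
    by_contra hall
    push Not at hall
    let W := Submodule.span F (Set.range fun x : R => mat x.1 *ᵥ v)
    have hW : ∀ g ∈ R, g ∈ Cfsg.Geo.subspaceStabilizer W := fun g hg => mem_subspaceStabilizer_iff.2 fun u hu => by
      refine Submodule.span_induction ?_ ?_ ?_ ?_ hu (p := fun u _ => mat g *ᵥ u ∈ W)
      · rintro _ ⟨y, rfl⟩
        refine Submodule.subset_span ⟨⟨g * y.1, mul_mem hg y.2⟩, ?_⟩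
        simp [mat, Matrix.mulVec_mulVec]
      · rw [Matrix.mulVec_zero]; exact W.zero_mem
      · intro a b _ _ ha hb; rw [Matrix.mulVec_add]; exact W.add_mem ha hb
      · intro a b _ hb; rw [Matrix.mulVec_smul]; exact W.smul_mem _ hb
    rcases actsIrreducibly_iff.1 hR.1 W hW with h0 | h1
    · have hvW : v ∈ W := Submodule.subset_span ⟨⟨1, one_mem R⟩, by simp [mat]⟩
      rw [h0, Submodule.mem_bot] at hvW
      exact hv0 hvW
    · have hker : ∀ u ∈ W, Cfsg.hermForm 3 F q u v = 0 := fun u hu => by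
        refine Submodule.span_induction ?_ ?_ ?_ ?_ hu (p := fun u _ => Cfsg.hermForm 3 F q u v = 0)
        · rintro _ ⟨y, rfl⟩; exact hall y.1 y.2
        · simp [h.herm_eq]
        · intro a b _ _ ha hb; rw [(h.unitary (n := 3)).add_left, ha, hb, add_zero]
        · intro a b _ hb; rw [(h.unitary (n := 3)).smul_left, hb, mul_zero]
      have h2 := hker (Pi.single 0 1) (h1 ▸ Submodule.mem_top)
      rw [h.herm_eq] at h2
      simp [Fin.sum_univ_three, hvdef] at h2
  set φ : Fin 3 → F := fun i => σ (v i) with hφ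
  have hdot : ∀ y : Fin 3 → F, φ ⬝ᵥ y = Cfsg.hermForm 3 F q y v := fun y => by
    rw [dotProduct_comm, h.herm_eq]; rfl
  set k := (φ ⬝ᵥ (mat x *ᵥ v)) * (φ ⬝ᵥ (mat x⁻¹ *ᵥ v)) with hk
  -- values of the trace
  have key : ∀ c : F, σ c = -c → c ≠ 0 → (3 : F) - c * c * k = 0 := by
    intro c hc hc0
    obtain ⟨g, hg, hgm⟩ := exists_tvElt h hv hc
    have hgi : mat g⁻¹ = 1 - c • vecMulVec v φ := by
      have e : mat g * (1 - c • vecMulVec v φ) = 1 := by
        rw [hgm, add_mul, one_mul, mul_sub, mul_one, Matrix.smul_mul, Matrix.mul_smul, hφ, vecMulVec_herm_sq h hv]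
        simp
      calc mat g⁻¹ = mat g⁻¹ * (mat g * (1 - c • vecMulVec v φ)) := by rw [e, mul_one]
        _ = _ := by rw [← mul_assoc, mat_inv_mul, one_mul]
    set w := g * x * g⁻¹ * x⁻¹ with hw
    have hwR : w ∈ R := mul_mem (hnorm g hg x hx) (inv_mem hx)
    have htr : (mat w).trace = 3 - c * c * k := by
      have hexp : mat w = (mat x + c • (vecMulVec v φ * mat x)) * (mat x⁻¹ - c • (vecMulVec v φ * mat x⁻¹)) := by
        simp only [hw, mat, Units.val_mul] at hgi ⊢
        rw [show ((g : Matrix (Fin 3) (Fin 3) F)) = _ from hgm, hgi]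
        simp only [hφ, add_mul, sub_mul, one_mul, Matrix.smul_mul, mul_assoc]
      rw [hexp, Matrix.vecMulVec_mul, Matrix.vecMulVec_mul, add_mul, mul_sub, mul_sub, mat_mul_inv,
        Matrix.mul_smul, Matrix.smul_mul, Matrix.smul_mul, Matrix.mul_smul,
        Matrix.mul_vecMulVec, Matrix.vecMulVec_mul, Matrix.vecMulVec_mul_vecMulVec]
      simp only [Matrix.trace_sub, Matrix.trace_add, Matrix.trace_one, Matrix.trace_smul, Matrix.trace_vecMulVec,
        Fintype.card_fin, smul_eq_mul, Matrix.vecMul_vecMul, mat_mul_inv, Matrix.vecMul_one, dotProduct_smul,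
        ← Matrix.dotProduct_mulVec, hk]
      rw [dotProduct_comm (mat x *ᵥ v) (φ ᵥ* mat x⁻¹), ← Matrix.dotProduct_mulVec, Matrix.mulVec_mulVec,
        mat_inv_mul, Matrix.one_mulVec, dotProduct_comm v φ, hdot v, hv,
        dotProduct_comm v (φ ᵥ* mat x⁻¹), ← Matrix.dotProduct_mulVec]
      push_cast
      ring
    rw [← htr]
    have hnsc : w ∉ Cfsg.Geo.scalars (Fin 3) F := by
      intro hs
      obtain ⟨d, hd⟩ := (Cfsg.Geo.mem_scalars_iff w).1 hs
      have hgx : mat g * mat x = (d : F) • (mat x * mat g) := by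
        have e : g * x = w * (x * g) := by rw [hw]; group
        have e' := congrArg mat e
        simp only [mat, Units.val_mul] at e' ⊢
        rw [e', hd, Matrix.smul_mul, one_mul]
      have e1 := congrArg (· *ᵥ v) hgx
      simp only [← Matrix.mulVec_mulVec, Matrix.smul_mulVec] at e1
      have hgv : mat g *ᵥ v = v := by
        rw [hgm, Matrix.add_mulVec, Matrix.one_mulVec, Matrix.smul_mulVec, Matrix.vecMulVec_mulVec,
          show (fun i => σ (v i)) ⬝ᵥ v = 0 from (hdot v).trans hv]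
        simp
      rw [hgv, hgm, Matrix.add_mulVec, Matrix.one_mulVec, Matrix.smul_mulVec, Matrix.vecMulVec_mulVec,
        op_smul_eq_smul, smul_smul, show (fun i => σ (v i)) ⬝ᵥ (mat x *ᵥ v) = _ from hdot _] at e1
      have e2 := congrArg (fun u => Cfsg.hermForm 3 F q u v) e1
      simp only [(h.unitary (n := 3)).add_left, (h.unitary (n := 3)).smul_left, hv, mul_zero, add_zero] at e2
      have hd1 : (d : F) = 1 := mul_right_cancel₀ hxv (by rw [one_mul]; exact e2.symm)
      rw [hd1, one_smul, add_eq_left, smul_eq_zero] at e1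
      exact mul_ne_zero hc0 hxv (e1.resolve_right hv0)
    obtain ⟨y, hy, hwy⟩ : ∃ y ∈ R, w * y ≠ y * w := by
      by_contra hall
      push Not at hall
      exact hnsc (mem_scalars_of_commute hR hall)
    obtain ⟨d, hd⟩ := (Cfsg.Geo.mem_scalars_iff _).1 (hcomm (Subgroup.commutator_mem_commutator hwR hy))
    have hd1 : (d : F) ≠ 1 := fun e => hwy (by
      have h1 : ⁅w, y⁆ = 1 := Units.ext (by rw [hd, e, one_smul, Units.val_one])
      exact commutatorElement_eq_one_iff_mul_comm.1 h1)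
    have hwy' : mat w * mat y = (d : F) • (mat y * mat w) := by
      have e : w * y = ⁅w, y⁆ * (y * w) := by rw [commutatorElement_def]; group
      have e' := congrArg mat e
      simp only [mat, Units.val_mul] at e' ⊢
      rw [e', hd, Matrix.smul_mul, one_mul]
    have e := congrArg (fun M => (M * mat y⁻¹).trace) hwy'
    simp only [Matrix.mul_assoc, mat_mul_inv, mul_one, Matrix.smul_mul, Matrix.trace_smul, smul_eq_mul] at e
    rw [Matrix.trace_mul_comm (mat y), Matrix.mul_assoc, mat_inv_mul, mul_one] at e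
    have : (1 - (d : F)) * (mat w).trace = 0 := by linear_combination e
    exact (mul_eq_zero.1 this).resolve_left (sub_ne_zero.2 (Ne.symm hd1))
  have h1 := key z hzσ hz0
  have h2 := key (m * z) (by rw [map_mul, hm, hzσ, mul_neg]) (mul_ne_zero hm0 hz0)
  have hk0 : k ≠ 0 := by
    refine mul_ne_zero (by rw [hdot]; exact hxv) ?_
    rw [hdot]
    intro e0
    have e1 := CfsgLib.MaxSub.mem_GU_iff_forall.1 (hRU hx) (mat x⁻¹ *ᵥ v) v
    change Cfsg.hermForm 3 F q (mat x *ᵥ (mat x⁻¹ *ᵥ v)) (mat x *ᵥ v) = _ at e1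
    rw [e0, Matrix.mulVec_mulVec, mat_mul_inv, Matrix.one_mulVec] at e1
    exact hxv (by rw [(h.unitary (n := 3)).herm, e1, map_zero])
  have : z * z * k * (1 - m * m) = 0 := by linear_combination h2 - h1
  rcases mul_eq_zero.1 this with e | e
  · exact mul_ne_zero (mul_ne_zero hz0 hz0) hk0 e
  · exact hm1 (by linear_combination -e)

end three

/-- Maximal subgroups of the special unitary group in dimension three, before removing the exceptions. -/
theorem three_cases {q : ℕ} (hF : Fintype.card F = q ^ 2) (hq3 : 3 ≤ q)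
    {H : Subgroup (GL (Fin 3) F)} (hH : Cfsg.Geo.IsMaximalIn (SUn 3 F q) H) :
    (∃ W : Submodule F (Fin 3 → F), W ≠ ⊥ ∧ Cfsg.Geo.IsTotallySingularFor (Cfsg.hermForm 3 F q) W ∧
      H = Cfsg.Geo.subspaceStabilizer W ⊓ SUn 3 F q) ∨
    (∃ W : Submodule F (Fin 3 → F), W ≠ ⊥ ∧ Cfsg.Geo.IsNondegenerateOn (Cfsg.hermForm 3 F q) W ∧
      2 * Module.finrank F W < 3 ∧ H = Cfsg.Geo.subspaceStabilizer W ⊓ SUn 3 F q) ∨
    (∃ D : Fin 3 → Submodule F (Fin 3 → F),
      Cfsg.Geo.IsNondegenerateMDecomposition (Cfsg.hermForm 3 F q) 1 D ∧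
      H = Cfsg.Geo.decompositionStabilizer D ⊓ SUn 3 F q) ∨
    (∃ K : Subalgebra F (Matrix (Fin 3) (Fin 3) F), Cfsg.Geo.IsFieldSubalgebra 3 K ∧
      Cfsg.Geo.IsAdjointClosedFor (Cfsg.hermForm 3 F q) K ∧
      H = Cfsg.Geo.subalgebraNormalizer K ⊓ SUn 3 F q) ∨
    (∃ (F₀ : Subfield F) (r : ℕ) (P : GL (Fin 3) F), r.Prime ∧ Odd r ∧ Fintype.card F = Nat.card F₀ ^ r ∧
      Cfsg.Geo.IsFormRationalStructure (Cfsg.hermForm 3 F q) F₀ 1 P ∧
      H = Cfsg.Geo.subfieldSubgroup F₀ P ⊓ SUn 3 F q) ∨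
    (Odd q ∧ ∃ (F₀ : Subfield F) (P : GL (Fin 3) F), Fintype.card F = Nat.card F₀ ^ 2 ∧
      Cfsg.Geo.IsFormRationalStructure (Cfsg.hermForm 3 F q) F₀ 1 P ∧
      H = Cfsg.Geo.subfieldSubgroup F₀ P ⊓ SUn 3 F q) ∨
    (∃ (p j : ℕ) (R : Subgroup (GL (Fin 3) F)), p.Prime ∧ CharP F p ∧ q = p ^ j ∧
      orderOf (p : ZMod 3) = 2 * j ∧ Cfsg.Geo.IsSymplecticTypeGroup 3 R ∧
      Cfsg.Geo.ActsAbsolutelyIrreducibly (Cfsg.Geo.matrixSet R) ∧ R ≤ Cfsg.GU 3 F q ∧
      Nat.card R = 27 ∧ Nat.card (Subgroup.center R) = 3 ∧ ⁅R, R⁆ ≤ Cfsg.Geo.scalars (Fin 3) F ∧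
      H = Cfsg.Geo.subgroupNormalizer R ⊓ SUn 3 F q) ∨
    Cfsg.Geo.InUnitaryResidualClass H := by
  classical
  obtain ⟨σ, h⟩ := exists_isConj (F := F) hF
  have hp : Nat.Prime 3 := Nat.prime_three
  have hodd : Odd 3 := by decide
  have hHU : H ≤ Cfsg.GU 3 F q := hH.1.le.trans inf_le_left
  by_cases hirr : Cfsg.Geo.ActsIrreducibly (Cfsg.Geo.matrixSet H)
  swap
  · rcases reducible_cases h hodd hHU hirr with ⟨W, h0, h1, hts, hle⟩ | ⟨W, h0, h1, hnd, hd, hle⟩
    · exact Or.inl ⟨W, h0, hts, eq_inf_of_maximal hH hle (not_le_subspace_four hF h le_rfl h0 h1)⟩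
    · exact Or.inr (Or.inl ⟨W, h0, hnd, hd,
        eq_inf_of_maximal hH hle (not_le_subspace_four hF h le_rfl h0 h1)⟩)
  right; right
  have hcard : Fintype.card (Fin 3) = 3 := Fintype.card_fin 3
  have hdescent : ∀ {F₀ : Subfield F}, F₀ ≠ ⊤ → ∀ {R : Subgroup (GL (Fin 3) F)}, Normalizes H R →
      R ≤ Cfsg.GU 3 F q → Cfsg.Geo.ActsAbsolutelyIrreducibly (Cfsg.Geo.matrixSet R) →
      Cfsg.Geo.RealisableOver F₀ (Cfsg.Geo.matrixSet R) →
    (∃ (F₀ : Subfield F) (r : ℕ) (P : GL (Fin 3) F), r.Prime ∧ Odd r ∧ Fintype.card F = Nat.card F₀ ^ r ∧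
      Cfsg.Geo.IsFormRationalStructure (Cfsg.hermForm 3 F q) F₀ 1 P ∧
      H = Cfsg.Geo.subfieldSubgroup F₀ P ⊓ SUn 3 F q) ∨
    (Odd q ∧ ∃ (F₀ : Subfield F) (P : GL (Fin 3) F), Fintype.card F = Nat.card F₀ ^ 2 ∧
      Cfsg.Geo.IsFormRationalStructure (Cfsg.hermForm 3 F q) F₀ 1 P ∧
      H = Cfsg.Geo.subfieldSubgroup F₀ P ⊓ SUn 3 F q) := by
    intro F₀ h0 R hnorm hRU hR hreal
    rcases exists_unitary_subfield hF h hodd (by norm_num) h0 hnorm hRU hR hreal with
      ⟨F₁, r, P, hr, hro, hc, hP, hle⟩ | ⟨hq, F₁, P, hc, hP, hle⟩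
    · exact Or.inl ⟨F₁, r, P, hr, hro, hc, hP,
        eq_inf_of_maximal hH hle (not_le_subfield_three hF h hq3 hr hc P)⟩
    · exact Or.inr ⟨hq, F₁, P, hc, hP,
        eq_inf_of_maximal hH hle (not_le_subfield_three hF h hq3 Nat.prime_two hc P)⟩
  rcases aschbacher_prime (ι := Fin 3) (by rw [hcard]; norm_num) (by omega) (hH.1.le.trans inf_le_right) hirr with
    ⟨N, hNH, χ, -, hχ, hD, hst⟩ | ⟨N, hNH, -, hK, hle⟩ | ⟨R, ω, hR, hnorm, hRH⟩ | ⟨P, hP⟩
  · obtain ⟨D, hD', hle⟩ := unitary_monomial h hodd hHU hNH hirr hχ hD hst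
    exact Or.inl ⟨D, hD', eq_inf_of_maximal hH hle (not_le_lines_three hF h hq3 hD')⟩
  · rw [hcard] at hK
    exact Or.inr (Or.inl ⟨_, hK, adjointClosed_commutant h (hNH.trans hHU),
      eq_inf_of_maximal hH hle (not_le_subalgebraNormalizer_three hF h hq3 hK)⟩)
  · rw [hcard] at hR
    obtain ⟨hdiv, hRU⟩ := heisenberg_le_GU hF h hp le_rfl hH.1.le hR hRH
    rcases heisenberg_field hF hp le_rfl hR hdiv with ⟨F₀, h0, hreal⟩ | ⟨p, j, hp', hchar, hq, hord⟩
    · rcases hdescent h0 hnorm hRU hR.absIrred hreal with h1 | h1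
      · exact Or.inr (Or.inr (Or.inl h1))
      · exact Or.inr (Or.inr (Or.inr (Or.inl h1)))
    · refine Or.inr (Or.inr (Or.inr (Or.inr (Or.inl ⟨p, j, R, hp', hchar, hq, hord, hR.symplecticType,
        hR.absIrred, hRU, hR.card_eq, hR.card_center, hR.comm_scalar,
        eq_inf_of_maximal hH (fun g hg => mem_subgroupNormalizer_of (hnorm g hg)) fun hle => ?_⟩))))
      exact not_normalizes_three hF h hq3 (fun e => by subst e; norm_num at hdiv) hR.absIrred hRU hR.comm_scalar fun g hg x hx =>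
        (Subgroup.mem_set_normalizer_iff.1 (hle hg) x).1 hx
  · have hPU : P ≤ Cfsg.GU 3 F q := hP.le.trans hHU
    by_cases hreal : ∃ F₀ : Subfield F, F₀ ≠ ⊤ ∧ Cfsg.Geo.RealisableOver F₀ (Cfsg.Geo.matrixSet P)
    · obtain ⟨F₀, h0, hr⟩ := hreal
      rcases hdescent h0 hP.normal hPU hP.absIrred hr with h1 | h1
      · exact Or.inr (Or.inr (Or.inl h1))
      · exact Or.inr (Or.inr (Or.inr (Or.inl h1)))
    · refine Or.inr (Or.inr (Or.inr (Or.inr (Or.inr ⟨P, hP.toResidualCore fun F₀ h0 hr => hreal ⟨F₀, h0, hr⟩,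
        ?_, ?_⟩))))
      · rintro ⟨Q, hQ, hfix⟩
        exact hreal (realisable_of_quadratic hodd h hP.absIrred hPU hQ hfix)
      · rintro ⟨f, hf, -⟩
        exact no_symplectic_of_odd hf (by rw [hcard]; decide)

end CfsgLib.AschbacherUnitary
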