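import Cfsg.Agent.AschbacherUnitary.ThreeCodes
import Cfsg.Agent.LinearElements.TwistedForms
import Cfsg.Agent.Forms.UnitaryOrder

/-!
Certificates placing the small maximal candidates of the three-dimensional special unitary groups inside
overgroups given by point lists.
-/

set_option autoImplicit false
set_option linter.unusedSectionVars false
set_option linter.style.haveILetI false

namespace CfsgLib.AschbacherUnitary.Codes

open Matrix CfsgLib.Aschbacher CfsgLib.AschbacherUnitary

variable {p d : ℕ} {F : Type*} [Field F] [Fintype F] {σ : F ≃+* F} {w : F}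

theorem pack_lt (hp : 0 < p) (a b : ℕ) : a % p * p + b % p < p * p := by
  have h1 := Nat.mod_lt a hp
  have h2 := Nat.mod_lt b hp
  calc a % p * p + b % p < a % p * p + p := by omega
    _ = (a % p + 1) * p := by ring
    _ ≤ p * p := Nat.mul_le_mul_right _ h1

theorem addC_lt (hp : 0 < p) (i j : ℕ) : addC p i j < p * p := pack_lt hp _ _

theorem mulC_lt (hp : 0 < p) (i j : ℕ) : mulC p d i j < p * p := pack_lt hp _ _

theorem isV_mvC (hp : 0 < p) (m : M) (v : V) : isV p (mvC p d m v) = true := by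
  simp [isV, mvC, dotC, addC_lt hp]

theorem p_lt (C : Coded p d σ w) : p < p * p := lt_mul_self C.prime.one_lt

/-- Valid matrices of codes. -/
def isM (p : ℕ) (m : M) : Bool := isV p m.1 && isV p m.2.1 && isV p m.2.2

theorem isM_mmC (hp : 0 < p) (m k : M) : isM p (mmC p d m k) = true := by
  simp [isM, isV, mmC, dotC, addC_lt hp]

theorem dm_injective (C : Coded p d σ w) {m k : M} (hm : isM p m = true) (hk : isM p k = true)
    (h : dm p w m = dm p w k) : m = k := by
  simp only [isM, Bool.and_eq_true] at hm hk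
  exact Prod.ext (dv_injective C hm.1.1 hk.1.1 (congrFun h 0))
    (Prod.ext (dv_injective C hm.1.2 hk.1.2 (congrFun h 1)) (dv_injective C hm.2 hk.2 (congrFun h 2)))

theorem dm_surjective (C : Coded p d σ w) (A : Matrix (Fin 3) (Fin 3) F) :
    ∃ m, isM p m = true ∧ dm p w m = A := by
  obtain ⟨a, ha, ea⟩ := dv_surjective C (A 0)
  obtain ⟨b, hb, eb⟩ := dv_surjective C (A 1)
  obtain ⟨c, hc, ec⟩ := dv_surjective C (A 2)
  refine ⟨(a, b, c), by simp [isM, ha, hb, hc], ?_⟩
  funext i
  fin_cases i <;> simp [dm, ea, eb, ec] <;> rfl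

theorem isM_oneM (C : Coded p d σ w) : isM p (oneM p) = true := by
  simp [isM, isV, oneM, p_lt C, C.prime.pos]

/-- Codes of special unitary matrices pass the test. -/
theorem isSU_of_mem (C : Coded p d σ w) {g : GL (Fin 3) F} (hg : g ∈ SUn 3 F p) {m : M}
    (hgm : mat g = dm p w m) : isSU p d m = true := by
  simp only [isSU, Bool.and_eq_true, beq_iff_eq]
  refine ⟨dm_injective C (isM_mmC C.prime.pos _ _) (isM_oneM C) ?_, ?_⟩
  · rw [dm_mmC C, dm_starC C, dm_oneM C, ← hgm, ← inv_eq_star C hg.1, mat_inv_mul]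
  · refine dec_injective C (by rw [detC]; exact addC_lt C.prime.pos _ _) (p_lt C) ?_
    rw [← det_dec C, dec_one C, ← hgm]
    exact mem_specialLinear_iff.1 hg.2

theorem exists_code (C : Coded p d σ w) {g : GL (Fin 3) F} (hg : g ∈ SUn 3 F p) :
    ∃ m, isM p m = true ∧ isSU p d m = true ∧ mat g = dm p w m := by
  obtain ⟨m, hm, e⟩ := dm_surjective C (mat g)
  exact ⟨m, hm, isSU_of_mem C hg e.symm, e.symm⟩

/-! ### Monomial elements -/

/-- The six permutations. -/
def perms6 : List V := [(0, 1, 2), (1, 2, 0), (2, 0, 1), (1, 0, 2), (2, 1, 0), (0, 2, 1)]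

/-- A monomial matrix. -/
def monC (π e : V) : M :=
  ((if π.1 = 0 then e.1 else 0, if π.2.1 = 0 then e.2.1 else 0, if π.2.2 = 0 then e.2.2 else 0),
   (if π.1 = 1 then e.1 else 0, if π.2.1 = 1 then e.2.1 else 0, if π.2.2 = 1 then e.2.2 else 0),
   (if π.1 = 2 then e.1 else 0, if π.2.1 = 2 then e.2.1 else 0, if π.2.2 = 2 then e.2.2 else 0))

/-- Codes of norm one. -/
def unitsC (p d : ℕ) : List ℕ := (List.range (p * p)).filter fun i => mulC p d i (conjC p i) == p

/-- A test over all monomial matrices. -/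
def monAll (p d : ℕ) (P : M → Bool) : Bool :=
  perms6.all fun π => (unitsC p d).all fun i => (unitsC p d).all fun j => (unitsC p d).all fun k =>
    P (monC π (i, j, k))

/-- The monomial elements. -/
def IsMon (g : GL (Fin 3) F) : Prop :=
  ∀ i, ∃ (j : Fin 3) (c : F), mat g *ᵥ Pi.single i 1 = c • Pi.single j 1

theorem monAll_apply (C : Coded p d σ w) {P : M → Bool} (hP : monAll p d P = true) {g : GL (Fin 3) F}
    (hg : g ∈ Cfsg.GU 3 F p) (hmon : IsMon g) : ∃ m, mat g = dm p w m ∧ P m = true := by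
  classical
  choose π c hc using hmon
  have hinj : Function.Injective π := by
    intro a b e
    by_contra hab
    have h1 := CfsgLib.MaxSub.mem_GU_iff_forall.1 hg (Pi.single a (1 : F)) (Pi.single b 1)
    have h2 := CfsgLib.MaxSub.mem_GU_iff_forall.1 hg (Pi.single a (1 : F)) (Pi.single a 1)
    have h3 := CfsgLib.MaxSub.mem_GU_iff_forall.1 hg (Pi.single b (1 : F)) (Pi.single b 1)
    change Cfsg.hermForm 3 F p (mat g *ᵥ _) (mat g *ᵥ _) = _ at h1 h2 h3
    simp only [hc, C.isConj.herm_eq, e, Pi.smul_apply, Pi.single_apply, smul_eq_mul] at h1 h2 h3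
    simp [Ne.symm hab] at h1 h2 h3
    rcases h1 with h1 | h1
    · rw [h1] at h2; simp at h2
    · rw [h1] at h3; simp at h3
  have hbij : Function.Bijective π := (Finite.injective_iff_bijective).1 hinj
  have hu : ∀ i, ∃ k ∈ unitsC p d, dec p w k = c i := fun i => by
    obtain ⟨k, hk, e⟩ := dec_surjective C (c i)
    refine ⟨k, ?_, e⟩
    simp only [unitsC, List.mem_filter, List.mem_range, beq_iff_eq]
    refine ⟨hk, dec_injective C (mulC_lt C.prime.pos _ _) (p_lt C) ?_⟩
    rw [dec_mul C, dec_conj C, dec_one C, e]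
    have h2 := CfsgLib.MaxSub.mem_GU_iff_forall.1 hg (Pi.single i (1 : F)) (Pi.single i 1)
    change Cfsg.hermForm 3 F p (mat g *ᵥ _) (mat g *ᵥ _) = _ at h2
    simp only [hc, C.isConj.herm_eq, Pi.smul_apply, Pi.single_apply, smul_eq_mul] at h2
    simpa using h2
  choose k hk hkc using hu
  simp only [monAll, List.all_eq_true] at hP
  have hmem : (((π 0 : ℕ), (π 1 : ℕ), (π 2 : ℕ)) : V) ∈ perms6 := by
    have h01 : π 0 ≠ π 1 := fun e => absurd (hinj e) (by decide)
    have h02 : π 0 ≠ π 2 := fun e => absurd (hinj e) (by decide)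
    have h12 : π 1 ≠ π 2 := fun e => absurd (hinj e) (by decide)
    revert h01 h02 h12
    generalize π 0 = x, π 1 = y, π 2 = z
    revert x y z
    decide
  refine ⟨_, ?_, hP _ hmem _ (hk 0) _ (hk 1) _ (hk 2)⟩
  ext r i
  have e := congrFun (hc i) r
  rw [Matrix.mulVec_single_one] at e
  change mat g r i = _ at e
  rw [e, Pi.smul_apply, Pi.single_apply, smul_eq_mul, ← hkc i]
  fin_cases r <;> fin_cases i <;>
    simp [dm, dv, monC, Fin.ext_iff, apply_ite (dec p w), dec_zero, eq_comm]

/-- The six signed permutation matrices. -/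
def signedPerms (p d : ℕ) : List M :=
  perms6.map fun π => if detC p d (monC π (p, p, p)) == p then monC π (p, p, p)
    else monC π (negC p p, negC p p, negC p p)

/-- The diagonal special unitary codes. -/
def diagSU (p d : ℕ) : List M :=
  ((unitsC p d).flatMap fun i => (unitsC p d).map fun j =>
    monC (0, 1, 2) (i, j, conjC p (mulC p d i j)))

/-- Certificate for containing all monomial elements. -/
def monOK (p d : ℕ) (pts : List V) : Bool :=
  ((signedPerms p d) ++ (diagSU p d)).all (fun m => isSU p d m && stable p d pts m) &&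
    monAll p d fun m => !(detC p d m == p) ||
      (signedPerms p d).any fun s => (diagSU p d).any fun e => mmC p d s e == m

theorem mon_mem (C : Coded p d σ w) {pts : List V} (hpts : goodPts p pts = true) (hok : monOK p d pts = true)
    {g : GL (Fin 3) F} (hg : g ∈ SUn 3 F p) (hmon : IsMon g) : g ∈ kGrp p w pts := by
  simp only [monOK, Bool.and_eq_true, List.all_eq_true] at hok
  obtain ⟨m, hgm, hm⟩ := monAll_apply C hok.2 hg.1 hmon
  have hdet : detC p d m = p := dec_injective C (by rw [detC]; exact addC_lt C.prime.pos _ _) (p_lt C) (by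
    rw [← det_dec C, dec_one C, ← hgm]; exact mem_specialLinear_iff.1 hg.2)
  simp only [hdet, beq_self_eq_true, Bool.not_true, Bool.false_or, List.any_eq_true, beq_iff_eq] at hm
  obtain ⟨s, hs, e, he, hse⟩ := hm
  obtain ⟨gs, hgs, hgsm⟩ := exists_su C (hok.1 s (List.mem_append_left _ hs)).1
  obtain ⟨ge, hge, hgem⟩ := exists_su C (hok.1 e (List.mem_append_right _ he)).1
  have e' : g = gs * ge := Units.ext (by
    show mat g = _
    rw [hgm, ← hse, dm_mmC C, ← hgsm, ← hgem]; rfl)
  rw [e']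
  exact mul_mem (mem_kGrp C hpts hgs hgsm (hok.1 s (List.mem_append_left _ hs)).2)
    (mem_kGrp C hpts hge hgem (hok.1 e (List.mem_append_right _ he)).2)

/-- Elements of the stabiliser of a frame become monomial in its basis. -/
theorem isMon_of_frame {D : Fin 3 → Submodule F (Fin 3 → F)} {B g : GL (Fin 3) F}
    (hBD : ∀ i, D i = Submodule.span F {mat B *ᵥ Pi.single i 1})
    (hg : g ∈ Cfsg.Geo.decompositionStabilizer D) : IsMon (B⁻¹ * g * B) := by
  obtain ⟨π, hπ⟩ := hg
  intro i
  have h1 := map_le_iff.1 (hπ i).le (mat B *ᵥ Pi.single i 1) (hBD i ▸ Submodule.mem_span_singleton_self _)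
  rw [hBD (π i)] at h1
  obtain ⟨c, hc⟩ := Submodule.mem_span_singleton.1 h1
  refine ⟨π i, c, ?_⟩
  simp only [mat, Units.val_mul, ← Matrix.mulVec_mulVec] at hc ⊢
  rw [← hc, Matrix.mulVec_smul, Matrix.mulVec_mulVec, ← Units.val_mul, inv_mul_cancel, Units.val_one,
    Matrix.one_mulVec]

/-! ### Elements normalising a field -/

/-- The matrix determined by its action on the first basis vector within the powers of `X`. -/
def polyM (p d : ℕ) (X X2 Binv : M) (v : V) : M :=
  let e := mvC p d Binv v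
  let row := fun (i x y : V) => (addC p (addC p (mulC p d e.1 i.1) (mulC p d e.2.1 x.1)) (mulC p d e.2.2 y.1),
    addC p (addC p (mulC p d e.1 i.2.1) (mulC p d e.2.1 x.2.1)) (mulC p d e.2.2 y.2.1),
    addC p (addC p (mulC p d e.1 i.2.2) (mulC p d e.2.1 x.2.2)) (mulC p d e.2.2 y.2.2))
  (row (oneM p).1 X.1 X2.1, row (oneM p).2.1 X.2.1 X2.2.1, row (oneM p).2.2 X.2.2 X2.2.2)

/-- Trace. -/
def trace3 (p : ℕ) (m : M) : ℕ := addC p (addC p m.1.1 m.2.1.2.1) m.2.2.2.2

/-- The three conjugate generators. -/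
def triple (p d : ℕ) (X : M) : List M :=
  let X2 := mmC p d X X
  [mmC p d X (oneM p), X2, mmC p d X2 X2]

/-- Certificate for the normaliser of the field generated by `X`. -/
def fieldOK (p d : ℕ) (pts : List V) (X Y Binv : M) : Bool :=
  let X2 := mmC p d X X
  let n := p * p
  isSU p d X && isSU p d Y && stable p d pts Y &&
  mmC p d ((p, X.1.1, X2.1.1), (0, X.2.1.1, X2.2.1.1), (0, X.2.2.1, X2.2.2.1)) Binv == oneM p &&
  mmC p d (mmC p d Y X) (starC p Y) == X2 &&
  (List.range n).all fun i => (List.range n).all fun j => (List.range n).all fun k =>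
    let v : V := (i, j, k)
    !(hermC p d v v == p) ||
      (let m := polyM p d X X2 Binv v
       !(isSU p d m) || (stable p d pts m && (!(trace3 p m == trace3 p X) || (triple p d X).contains m)))

theorem dm_polyM (C : Coded p d σ w) (X X2 Binv : M) (v : V) :
    dm p w (polyM p d X X2 Binv v) = (dv p w (mvC p d Binv v) 0) • (1 : Matrix (Fin 3) (Fin 3) F) +
      (dv p w (mvC p d Binv v) 1) • dm p w X + (dv p w (mvC p d Binv v) 2) • dm p w X2 := by
  rw [← dm_oneM C]
  ext i j
  fin_cases i <;> fin_cases j <;> simp [polyM, dm, dv, dec_add C, dec_mul C]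

theorem isM_polyM (hp : 0 < p) (X X2 Binv : M) (v : V) : isM p (polyM p d X X2 Binv v) = true := by
  simp [isM, isV, polyM, addC_lt hp]

theorem dec_trace3 (C : Coded p d σ w) (m : M) : dec p w (trace3 p m) = (dm p w m).trace := by
  simp [trace3, dec_add C, Matrix.trace, Fin.sum_univ_three, dm, dv]

theorem field_mem (C : Coded p d σ w) {pts : List V} (hpts : goodPts p pts = true) {X Y Binv : M}
    (hok : fieldOK p d pts X Y Binv = true) {K : Subalgebra F (Matrix (Fin 3) (Fin 3) F)}
    (hcomm : ∀ a ∈ K, ∀ b ∈ K, a * b = b * a) (hX : dm p w X ∈ K) {g : GL (Fin 3) F}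
    (hg : g ∈ SUn 3 F p) (hgK : g ∈ Cfsg.Geo.subalgebraNormalizer K) : g ∈ kGrp p w pts := by
  simp only [fieldOK, Bool.and_eq_true, beq_iff_eq, List.all_eq_true, List.mem_range] at hok
  obtain ⟨⟨⟨⟨⟨hXsu, hYsu⟩, hYst⟩, hB⟩, hYX⟩, hall⟩ := hok
  set X2 := mmC p d X X with hX2def
  obtain ⟨x, hx, hxm⟩ := exists_su C hXsu
  obtain ⟨y, hy, hym⟩ := exists_su C hYsu
  have hyK : y ∈ kGrp p w pts := mem_kGrp C hpts hy hym hYst
  have hX2 : dm p w X2 = mat x * mat x := by rw [hxm, hX2def, dm_mmC C]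
  -- the centraliser
  have hcent : ∀ {z : GL (Fin 3) F}, z ∈ SUn 3 F p → mat z * mat x = mat x * mat z →
      ∃ m, mat z = dm p w m ∧ z ∈ kGrp p w pts ∧ (trace3 p m = trace3 p X → m ∈ triple p d X) := by
    intro z hz hzx
    obtain ⟨v, hv, hve⟩ := dv_surjective C (mat z *ᵥ Pi.single 0 1)
    simp only [isV, Bool.and_eq_true, decide_eq_true_eq] at hv
    have hn : hermC p d v v = p := by
      refine dec_injective C (by rw [hermC, dotC]; exact addC_lt C.prime.pos _ _) (p_lt C) ?_
      rw [herm_dec C, dec_one C, hve, CfsgLib.MaxSub.mem_GU_iff_forall.1 hz.1, C.isConj.herm_eq]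
      simp [Fin.sum_univ_three]
    set m := polyM p d X X2 Binv v with hm
    set A : Matrix (Fin 3) (Fin 3) F :=
      dm p w ((p, X.1.1, X2.1.1), (0, X.2.1.1, X2.2.1.1), (0, X.2.2.1, X2.2.2.1)) with hA
    have hA0 : A *ᵥ Pi.single 0 1 = Pi.single 0 1 := by
      funext i; fin_cases i <;> simp [A, dm, dv, dec_one C, dec_zero]
    have hA1 : A *ᵥ Pi.single 1 1 = mat x *ᵥ Pi.single 0 1 := by
      funext i; fin_cases i <;> simp [A, hxm, dm, dv]
    have hA2 : A *ᵥ Pi.single 2 1 = dm p w X2 *ᵥ Pi.single 0 1 := by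
      funext i; fin_cases i <;> simp [A, dm, dv]
    have hAB : A * dm p w Binv = 1 := by rw [hA, ← dm_mmC C, hB, dm_oneM C]
    have hz0 : mat z *ᵥ Pi.single 0 1 = dm p w m *ᵥ Pi.single 0 1 := by
      set e := dv p w (mvC p d Binv v) with he
      have h1 : A *ᵥ e = mat z *ᵥ Pi.single 0 1 := by
        rw [he, dv_mvC C, Matrix.mulVec_mulVec, hAB, Matrix.one_mulVec, hve]
      rw [hm, dm_polyM C, ← he, Matrix.add_mulVec, Matrix.add_mulVec, Matrix.smul_mulVec, Matrix.smul_mulVec,
        Matrix.smul_mulVec, Matrix.one_mulVec, ← hxm, ← hA1, ← hA2, ← h1]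
      conv_lhs => rw [pi_eq_sum_univ' e]
      rw [Fin.sum_univ_three, Matrix.mulVec_add, Matrix.mulVec_add, Matrix.mulVec_smul, Matrix.mulVec_smul,
        Matrix.mulVec_smul, hA0]
    have hmx : dm p w m * mat x = mat x * dm p w m := by
      rw [hm, dm_polyM C, hX2, ← hxm]
      simp [add_mul, mul_add, mul_assoc]
    have hzm : mat z = dm p w m := by
      have e : mat z * A = dm p w m * A := by
        apply Matrix.toLin'.injective
        apply LinearMap.pi_ext'
        intro i
        refine LinearMap.ext_ring ?_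
        simp only [LinearMap.comp_apply, LinearMap.single_apply, Matrix.toLin'_apply, ← Matrix.mulVec_mulVec]
        fin_cases i
        · simp only [Fin.zero_eta]; rw [hA0, hz0]
        · simp only [Fin.mk_one]
          rw [hA1, Matrix.mulVec_mulVec, hzx, ← Matrix.mulVec_mulVec, hz0, Matrix.mulVec_mulVec, Matrix.mulVec_mulVec,
            hmx]
        · simp only [Fin.reduceFinMk]
          rw [hA2, hX2, Matrix.mulVec_mulVec, ← mul_assoc, hzx, mul_assoc, hzx, ← Matrix.mulVec_mulVec,
            ← Matrix.mulVec_mulVec, hz0, Matrix.mulVec_mulVec, Matrix.mulVec_mulVec, Matrix.mulVec_mulVec,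
            ← mul_assoc _ (mat x), hmx, mul_assoc (mat x), ← mul_assoc, mul_assoc (mat x) (dm p w m), hmx, ← mul_assoc]
      calc mat z = mat z * A * dm p w Binv := by rw [mul_assoc, hAB, mul_one]
        _ = _ := by rw [e, mul_assoc, hAB, mul_one]
    have h3 := hall v.1 hv.1.1 v.2.1 hv.1.2 v.2.2 hv.2
    simp only [hn, beq_self_eq_true, Bool.not_true, Bool.false_or, ← hm, isSU_of_mem C hz hzm,
      Bool.and_eq_true, Bool.or_eq_true, Bool.not_eq_true', beq_eq_false_iff_ne, List.contains_eq_mem,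
      decide_eq_true_eq] at h3
    exact ⟨m, hzm, mem_kGrp C hpts hz hzm h3.1, fun e => h3.2.resolve_left (not_not.2 e)⟩
  have hconj : ∀ {g : GL (Fin 3) F}, g ∈ SUn 3 F p → g * x * g⁻¹ ∈ SUn 3 F p := fun hg =>
    mul_mem (mul_mem hg hx) (inv_mem hg)
  have hk : mat (g * x * g⁻¹) ∈ K := by
    have := (hgK (mat x)).1 (hxm ▸ hX)
    simpa [mat] using this
  obtain ⟨m, hm, -, htri⟩ := hcent (hconj hg) (hcomm _ hk _ (hxm ▸ hX))
  have htr : trace3 p m = trace3 p X := by
    refine dec_injective C (addC_lt C.prime.pos _ _) (addC_lt C.prime.pos _ _) ?_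
    rw [dec_trace3 C, dec_trace3 C, ← hm, ← hxm]
    simp only [mat, Units.val_mul]
    rw [Matrix.trace_units_conj]
  have hin := htri htr
  -- powers of the second generator realise the three automorphisms
  have hyx : y * x * y⁻¹ = x * x := Units.ext (by
    show mat (y * x * y⁻¹) = mat (x * x)
    simp only [mat, Units.val_mul]
    rw [show ((y⁻¹ : GL (Fin 3) F) : Matrix (Fin 3) (Fin 3) F) = _ from inv_eq_star C hy.1]
    show mat y * mat x * ((mat y).map σ)ᵀ = mat x * mat x
    rw [hym, ← dm_starC C, hxm, ← dm_mmC C, ← dm_mmC C, ← dm_mmC C, hYX])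
  have hyx2 : y * y * x * (y * y)⁻¹ = x * x * (x * x) := by
    calc y * y * x * (y * y)⁻¹ = y * (y * x * y⁻¹) * y⁻¹ := by group
      _ = y * (x * x) * y⁻¹ := by rw [hyx]
      _ = (y * x * y⁻¹) * (y * x * y⁻¹) := by group
      _ = _ := by rw [hyx]
  obtain ⟨k, hkK, hkx⟩ : ∃ k ∈ kGrp p w pts, k * x * k⁻¹ = g * x * g⁻¹ := by
    simp only [triple, List.mem_cons, List.not_mem_nil, or_false] at hin
    rcases hin with e | e | e
    · refine ⟨1, one_mem _, Units.ext ?_⟩
      show mat _ = mat _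
      rw [hm, e, dm_mmC C, dm_oneM C, mul_one, ← hxm]; simp
    · refine ⟨y, hyK, Units.ext ?_⟩
      show mat _ = mat _
      rw [hm, e, dm_mmC C, ← hxm, hyx]; rfl
    · refine ⟨y * y, mul_mem hyK hyK, Units.ext ?_⟩
      show mat _ = mat _
      rw [hm, e, dm_mmC C, dm_mmC C, ← hxm, hyx2]; rfl
  have hz : k⁻¹ * g ∈ SUn 3 F p := mul_mem (inv_mem hkK.2) hg
  obtain ⟨-, -, hzK, -⟩ := hcent hz (by
    show mat (k⁻¹ * g) * mat x = mat x * mat (k⁻¹ * g)
    have e : k⁻¹ * g * x = x * (k⁻¹ * g) := by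
      calc k⁻¹ * g * x = k⁻¹ * (g * x * g⁻¹) * g := by group
        _ = k⁻¹ * (k * x * k⁻¹) * g := by rw [hkx]
        _ = _ := by group
    have e' := congrArg mat e
    simpa [mat] using e')
  simpa using mul_mem hkK hzK

end CfsgLib.AschbacherUnitary.Codes
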