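import Cfsg.Agent.AschbacherUnitary.ThreeCert
import Cfsg.Agent.AschbacherUnitary.Prime

/-!
Certificates for the extraspecial normalisers and the orthogonal subfield groups in dimension three, and the
standard coordinates of those configurations.
-/

set_option autoImplicit false
set_option linter.unusedSectionVars false
set_option linter.style.haveILetI false

namespace CfsgLib.AschbacherUnitary.Codes

open Matrix CfsgLib.Aschbacher CfsgLib.AschbacherUnitary
open scoped commutatorElement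

variable {p d : ℕ} {F : Type*} [Field F] [Fintype F] {σ : F ≃+* F} {w : F}

/-- Scalar multiple of a matrix. -/
def smulM (p d l : ℕ) (m : M) : M := (smulC p d l m.1, smulC p d l m.2.1, smulC p d l m.2.2)

theorem dm_smulM (C : Coded p d σ w) (l : ℕ) (m : M) : dm p w (smulM p d l m) = dec p w l • dm p w m := by
  ext i j
  fin_cases i <;> fin_cases j <;> simp [smulM, smulC, dm, dv, dec_mul C]

theorem isM_smulM (hp : 0 < p) (l : ℕ) (m : M) : isM p (smulM p d l m) = true := by
  simp [isM, isV, smulM, smulC, mulC_lt hp]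

/-- Two of the coordinates vanish. -/
def axis (v : V) : Bool :=
  (v.1 == 0 && v.2.1 == 0) || (v.1 == 0 && v.2.2 == 0) || (v.2.1 == 0 && v.2.2 == 0)

theorem exists_single_of_axis (v : V) (h : axis v = true) :
    ∃ (j : Fin 3) (c : F), dv p w v = c • Pi.single j 1 := by
  simp only [axis, Bool.or_eq_true, Bool.and_eq_true, beq_iff_eq] at h
  rcases h with (⟨h1, h2⟩ | ⟨h1, h2⟩) | ⟨h1, h2⟩
  · exact ⟨2, dec p w v.2.2, by funext i; fin_cases i <;> simp [dv, h1, h2, dec_zero]⟩
  · exact ⟨1, dec p w v.2.1, by funext i; fin_cases i <;> simp [dv, h1, h2, dec_zero]⟩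
  · exact ⟨0, dec p w v.1, by funext i; fin_cases i <;> simp [dv, h1, h2, dec_zero]⟩

/-- An isometry mapping two coordinate lines to coordinate lines is monomial. -/
theorem isMon_of_two (C : Coded p d σ w) {g : GL (Fin 3) F} (hg : g ∈ Cfsg.GU 3 F p) {a b : Fin 3} {c₀ c₁ : F}
    (h0 : mat g *ᵥ Pi.single 0 1 = c₀ • Pi.single a 1) (h1 : mat g *ᵥ Pi.single 1 1 = c₁ • Pi.single b 1) :
    IsMon g := by
  classical
  have hne : ∀ i, mat g *ᵥ Pi.single i (1 : F) ≠ 0 := fun i e => by
    have := mulVec_injective g (e.trans (Matrix.mulVec_zero _).symm)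
    simpa using congrFun this i
  have hc0 : c₀ ≠ 0 := fun e => hne 0 (by rw [h0, e, zero_smul])
  have hc1 : c₁ ≠ 0 := fun e => hne 1 (by rw [h1, e, zero_smul])
  have horth : ∀ i j : Fin 3, i ≠ j →
      Cfsg.hermForm 3 F p (mat g *ᵥ Pi.single i 1) (mat g *ᵥ Pi.single j 1) = 0 := fun i j hij => by
    rw [CfsgLib.MaxSub.mem_GU_iff_forall.1 hg, C.isConj.herm_eq]
    simp [Pi.single_apply, Ne.symm hij]
  have hs : ∀ c : F, c ≠ 0 → σ c ≠ 0 := fun c hc e => hc (by rw [← C.isConj.involutive c, e, map_zero])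
  have hab : a ≠ b := by
    rintro rfl
    have := horth 0 1 (by decide)
    rw [h0, h1, C.isConj.herm_eq] at this
    simp [Pi.single_apply, hc0, hs c₁ hc1] at this
  obtain ⟨k, hka, hkb⟩ := (show ∀ a b : Fin 3, a ≠ b → ∃ k, k ≠ a ∧ k ≠ b by decide) a b hab
  have h2 : mat g *ᵥ Pi.single 2 1 = (mat g *ᵥ Pi.single 2 1) k • Pi.single k (1 : F) := by
    have ea := horth 2 0 (by decide)
    have eb := horth 2 1 (by decide)
    rw [h0, C.isConj.herm_eq] at ea
    rw [h1, C.isConj.herm_eq] at eb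
    simp [Pi.single_apply, apply_ite σ, hs c₀ hc0] at ea
    simp [Pi.single_apply, apply_ite σ, hs c₁ hc1] at eb
    funext i
    rcases eq_or_ne i k with rfl | hik
    · simp
    · rcases ((show ∀ a b k i : Fin 3, a ≠ b → k ≠ a → k ≠ b → i ≠ k → i = a ∨ i = b by decide) a b k i hab hka hkb hik) with rfl | rfl
      · simp [hik, ea]
      · simp [hik, eb]
  intro i
  fin_cases i
  · exact ⟨a, c₀, h0⟩
  · exact ⟨b, c₁, h1⟩
  · exact ⟨k, _, h2⟩

/-- A matrix conjugating a separated diagonal matrix to a diagonal one is monomial. -/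
theorem isMon_of_diag {g : GL (Fin 3) F} {a e : Fin 3 → F} (ha : Function.Injective a)
    (h : mat g * Matrix.diagonal e = Matrix.diagonal a * mat g) : IsMon g := by
  classical
  intro i
  have hz : ∀ j, a j ≠ e i → mat g j i = 0 := fun j hj => by
    have := congrFun (congrFun h j) i
    rw [Matrix.mul_diagonal, Matrix.diagonal_mul] at this
    by_contra h0
    exact hj (mul_right_cancel₀ h0 (by linear_combination -this))
  by_cases hall : ∃ j, a j = e i
  · obtain ⟨j, hj⟩ := hall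
    refine ⟨j, mat g j i, funext fun r => ?_⟩
    rw [Matrix.mulVec_single_one]
    show mat g r i = _
    rcases eq_or_ne r j with rfl | hr
    · simp
    · simp [hr, hz r fun e' => hr (ha (e'.trans hj.symm))]
  · push Not at hall
    exfalso
    have e0 : mat g *ᵥ Pi.single i 1 = 0 := by
      rw [Matrix.mulVec_single_one]; funext r; exact hz r (hall r)
    have := mulVec_injective g (e0.trans (Matrix.mulVec_zero _).symm)
    simpa using congrFun this i

/-! ### Orthogonal subfield groups -/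

/-- The rational codes. -/
def rats (p : ℕ) : List ℕ := (List.range p).map (· * p)

/-- Certificate reducing orthonormal pairs of rational vectors to coordinate lines. -/
def orthOK (p d : ℕ) (T : List M) : Bool :=
  (rats p).all fun a => (rats p).all fun b => (rats p).all fun c =>
    !(dotC p d (a, b, c) (a, b, c) == p) ||
      (rats p).all fun a' => (rats p).all fun b' => (rats p).all fun c' =>
        !(dotC p d (a', b', c') (a', b', c') == p && dotC p d (a, b, c) (a', b', c') == 0) ||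
          T.any fun t => axis (mvC p d t (a, b, c)) && axis (mvC p d t (a', b', c'))

theorem exists_rat (C : Coded p d σ w) {x : F} (hx : σ x = x) : ∃ i ∈ rats p, dec p w i = x := by
  obtain ⟨i, hi, rfl⟩ := dec_surjective C x
  refine ⟨i, ?_, rfl⟩
  have e : conjC p i = i :=
    dec_injective C (by rw [conjC, ← Nat.mod_mod (p - i % p) p]; exact pack_lt C.prime.pos _ _) hi
      (by rw [dec_conj C, hx])
  have h0 : i % p = 0 := by
    have h1 := congrArg (· % p) e
    simp only [conjC, Nat.mul_add_mod_self_right, Nat.mod_mod] at h1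
    have hlt := Nat.mod_lt i C.prime.pos
    by_contra hne
    rw [Nat.mod_eq_of_lt (show p - i % p < p by omega)] at h1
    have hodd : p % 2 = 1 := C.prime.mod_two_eq_one_iff_ne_two.2 (by have := C.two_lt; omega)
    omega
  simp only [rats, List.mem_map, List.mem_range]
  exact ⟨i / p, Nat.div_lt_of_lt_mul hi, Nat.div_mul_cancel (Nat.dvd_of_mod_eq_zero h0)⟩

theorem orth_mon (C : Coded p d σ w) {T : List M} (hok : orthOK p d T = true) {g : GL (Fin 3) F} (hg : g ∈ Cfsg.GU 3 F p) {c : F} (hc : c ≠ 0)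
    (hrat : ∀ i j, σ (c * mat g i j) = c * mat g i j) :
    ∃ t ∈ T, ∀ h ∈ SUn 3 F p, mat h = dm p w t → IsMon (h * g) := by
  classical
  set N : Matrix (Fin 3) (Fin 3) F := c • mat g with hN
  have hNσ : N.map σ = N := Matrix.ext fun i j => hrat i j
  set l : F := c * σ c with hl
  have hNN : Nᵀ * N = l • 1 := by
    conv_lhs => arg 2; rw [← hNσ]
    rw [hN, Matrix.transpose_smul, show (c • mat g).map σ = σ c • (mat g).map σ from
      Matrix.ext fun i j => by simp, Matrix.smul_mul, Matrix.mul_smul, smul_smul, C.isConj.mem_GU_iff.1 hg]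
  have hl0 : l ≠ 0 := mul_ne_zero hc fun e => hc (by rw [← C.isConj.involutive c, e, map_zero])
  have hlσ : σ l = l := by rw [hl, map_mul, C.isConj.involutive, mul_comm]
  have hdet : N.det * N.det = l * l * l := by
    have e := congrArg Matrix.det hNN
    rw [Matrix.det_mul, Matrix.det_transpose] at e
    simp at e
    rw [e]; ring
  have hD0 : N.det ≠ 0 := fun e => by
    rw [e, mul_zero] at hdet
    exact mul_ne_zero (mul_ne_zero hl0 hl0) hl0 hdet.symm
  have hDσ : σ N.det = N.det := by rw [RingEquiv.map_det]; exact congrArg Matrix.det hNσ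
  set s : F := l / N.det with hs
  have hsσ : σ s = s := by rw [hs, map_div₀, hlσ, hDσ]
  have hs0 : s ≠ 0 := div_ne_zero hl0 hD0
  have hs2 : s * s * l = 1 := by
    rw [hs]; field_simp; linear_combination -hdet
  let col : Fin 3 → Fin 3 → F := fun j i => s * N i j
  have hdot : ∀ i j, col i ⬝ᵥ col j = if i = j then 1 else 0 := fun i j => by
    have e := congrFun (congrFun hNN i) j
    rw [Matrix.smul_apply, Matrix.one_apply, Matrix.mul_apply] at e
    simp only [col, dotProduct]
    calc ∑ x, s * N x i * (s * N x j) = s * s * ∑ x, Nᵀ i x * N x j := by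
          rw [Finset.mul_sum]; exact Finset.sum_congr rfl fun x _ => by rw [Matrix.transpose_apply]; ring
      _ = _ := by rw [e, smul_eq_mul, ← mul_assoc, hs2, one_mul]
  have hcode : ∀ j, ∃ v : V, v.1 ∈ rats p ∧ v.2.1 ∈ rats p ∧ v.2.2 ∈ rats p ∧ dv p w v = col j := fun j => by
    have hσc : ∀ i, σ (col j i) = col j i := fun i => by
      rw [map_mul, hsσ]; exact congrArg (s * ·) (congrFun (congrFun hNσ i) j)
    obtain ⟨a, ha, ea⟩ := exists_rat C (hσc 0)
    obtain ⟨b, hb, eb⟩ := exists_rat C (hσc 1)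
    obtain ⟨e, he, ee⟩ := exists_rat C (hσc 2)
    exact ⟨(a, b, e), ha, hb, he, by funext i; fin_cases i <;> simp [dv, ea, eb, ee]⟩
  choose v hv1 hv2 hv3 hv using hcode
  have hd : ∀ i j, dotC p d (v i) (v j) = if i = j then p else 0 := fun i j => by
    refine dec_injective C (by rw [dotC]; exact addC_lt C.prime.pos _ _)
      (by split <;> [exact p_lt C; exact Nat.mul_pos C.prime.pos C.prime.pos]) ?_
    rw [dot_dec C, hv, hv, hdot]
    split <;> simp [dec_one C, dec_zero]
  simp only [orthOK, List.all_eq_true, Bool.or_eq_true, Bool.not_eq_true', List.any_eq_true, Bool.and_eq_true,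
    beq_eq_false_iff_ne] at hok
  have h1 := (hok _ (hv1 0) _ (hv2 0) _ (hv3 0)).resolve_left (by simp [hd]) _ (hv1 1) _ (hv2 1) _ (hv3 1)
  obtain ⟨t, ht, hax0, hax1⟩ := h1.resolve_left (by simp [hd])
  refine ⟨t, ht, fun h hh hht => ?_⟩
  have hmv : ∀ j, axis (mvC p d t (v j)) = true → ∃ (a : Fin 3) (e : F),
      mat (h * g) *ᵥ Pi.single j 1 = e • Pi.single a 1 := fun j hj => by
    obtain ⟨a, e, hae⟩ := exists_single_of_axis (F := F) (p := p) (w := w) _ hj
    refine ⟨a, (s * c)⁻¹ * e, ?_⟩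
    have ej : mat g *ᵥ Pi.single j (1 : F) = (s * c)⁻¹ • col j := by
      funext i
      rw [Matrix.mulVec_single_one]
      show mat g i j = (s * c)⁻¹ * (s * (c * mat g i j))
      field_simp
    rw [dv_mvC C, hv, ← hht] at hae
    rw [show mat (h * g) = mat h * mat g from rfl, ← Matrix.mulVec_mulVec, ej, Matrix.mulVec_smul, hae, smul_smul]
  obtain ⟨a, c₀, h0'⟩ := hmv 0 hax0
  obtain ⟨b, c₁, h1'⟩ := hmv 1 hax1
  exact isMon_of_two C (mul_mem hh.1 hg) h0' h1'

/-- An orthogonal rational structure is standard in a suitable unitary basis. -/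
theorem exists_orth_basis {q : ℕ} (hF : Fintype.card F = q ^ 2) (h : IsConj q σ) (h2 : (2 : F) ≠ 0)
    {F₁ : Subfield F} {P : GL (Fin 3) F} (hcard : Fintype.card F = Nat.card F₁ ^ 2)
    (hP : Cfsg.Geo.IsFormRationalStructure (Cfsg.hermForm 3 F q) F₁ 1 P) :
    ∃ B ∈ Cfsg.GU 3 F q, ∀ g ∈ Cfsg.Geo.subfieldSubgroup F₁ P, ∃ c : F, c ≠ 0 ∧
      ∀ i j, σ (c * mat (B⁻¹ * g * B) i j) = c * mat (B⁻¹ * g * B) i j := by
  classical
  haveI : Fintype F₁ := Fintype.ofFinite _
  have hq : Nat.card F₁ = q := Nat.pow_left_injective two_ne_zero (hcard.symm.trans hF)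
  have hfix : ∀ x ∈ F₁, σ x = x := fun x hx => by
    have := congrArg Subtype.val (FiniteField.pow_card (⟨x, hx⟩ : F₁))
    rw [← Nat.card_eq_fintype_card, hq] at this
    rw [h.eq_pow]; exact this
  set G : Matrix (Fin 3) (Fin 3) F := (mat P)ᵀ * (mat P).map σ with hG
  have hGmem : ∀ i j, G i j ∈ F₁ := fun i j => by
    have e := hP (Pi.single i 1) (Pi.single j 1)
      (fun k => by by_cases hk : k = i <;> simp [hk, F₁.one_mem, F₁.zero_mem])
      (fun k => by by_cases hk : k = j <;> simp [hk, F₁.one_mem, F₁.zero_mem])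
    rw [one_mul, h.herm_mulVec] at e
    simpa [Pi.single_apply, apply_ite σ] using e
  have hGσ : G.map σ = G := Matrix.ext fun i j => hfix _ (hGmem i j)
  have hGt : Gᵀ = G := by
    calc Gᵀ = G.map σ := by
          rw [hG, Matrix.transpose_mul, Matrix.transpose_transpose, Matrix.map_mul,
            show ((mat P).map σ).map σ = mat P from Matrix.ext fun i j => h.involutive _, Matrix.transpose_map]
      _ = G := hGσ
  have hP0 : (mat P).det ≠ 0 := ((Matrix.isUnit_iff_isUnit_det _).1 P.isUnit).ne_zero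
  have hG0 : G.det ≠ 0 := by
    rw [hG, Matrix.det_mul, Matrix.det_transpose]
    refine mul_ne_zero hP0 ?_
    have e : σ (mat P).det = ((mat P).map σ).det := RingEquiv.map_det σ _
    rw [← e]
    exact fun e' => hP0 (by rw [← h.involutive (mat P).det, e', map_zero])
  let G₁ : Matrix (Fin 3) (Fin 3) F₁ := Matrix.of fun i j => ⟨G i j, hGmem i j⟩
  have hG1m : G₁.map F₁.subtype = G := rfl
  have hG1t : G₁ᵀ = G₁ := Matrix.ext fun i j => Subtype.ext (congrFun (congrFun hGt i) j)
  set μ := G₁.det with hμ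
  have hμv : (μ : F) = G.det := by rw [← hG1m, ← RingHom.mapMatrix_apply, ← RingHom.map_det]; rfl
  have hμ0 : μ ≠ 0 := fun e => hG0 (by rw [← hμv, e]; rfl)
  have h21 : (2 : F₁) ≠ 0 := fun e => h2 (by simpa [map_ofNat] using congrArg F₁.subtype e)
  obtain ⟨m, hm⟩ := CfsgLib.Twist.exists_congr_symm h21 hG1t
    (show (μ • (1 : Matrix (Fin 3) (Fin 3) F₁))ᵀ = μ • 1 by simp) hμ0
    (by rw [Matrix.det_smul, Matrix.det_one, mul_one]; exact pow_ne_zero _ hμ0)
    ⟨μ * μ, by rw [Matrix.det_smul, Matrix.det_one, Fintype.card_fin, ← hμ]; ring⟩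
  rw [show m.map (RingHom.id F₁) = m from rfl] at hm
  set m' : Matrix (Fin 3) (Fin 3) F := m.map F₁.subtype with hm'
  have hmσ : m'.map σ = m' := Matrix.ext fun i j => hfix _ (m i j).2
  have hmG : m'ᵀ * G * m' = (μ : F) • 1 := by
    have e := congrArg (fun X => X.map F₁.subtype) hm
    simp only [Matrix.map_mul, Matrix.transpose_map, hG1m] at e
    rw [hm', e]
    ext i j
    rcases eq_or_ne i j with rfl | hij <;> simp [*]
  obtain ⟨l, hl⟩ := CfsgLib.MaxSub.norm_surjective h.ne_refl h.involutive (a := ((μ : F))⁻¹)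
    (by rw [map_inv₀, hfix _ μ.2])
  have hl0 : l ≠ 0 := fun e => by
    rw [e, zero_mul, eq_comm, inv_eq_zero, hμv] at hl; exact hG0 hl
  set Bm : Matrix (Fin 3) (Fin 3) F := l • (mat P * m') with hBm
  have hB1 : Bmᵀ * Bm.map σ = 1 := by
    rw [hBm, Matrix.transpose_smul, show (l • (mat P * m')).map σ = σ l • (mat P * m').map σ from
      Matrix.ext fun i j => map_mul σ l _, Matrix.smul_mul, Matrix.mul_smul, smul_smul, Matrix.transpose_mul,
      Matrix.map_mul, hmσ, show m'ᵀ * (mat P)ᵀ * ((mat P).map σ * m') = m'ᵀ * G * m' by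
        rw [hG]; simp only [mul_assoc], hmG, smul_smul, hl, hμv, inv_mul_cancel₀ hG0, one_smul]
  have hBu : IsUnit Bm := (Matrix.isUnit_transpose Bm).1 (IsUnit.of_mul_eq_one _ hB1)
  refine ⟨hBu.unit, h.mem_GU_iff.2 hB1, fun g hg => ?_⟩
  obtain ⟨c, hc, hcg⟩ := exists_smul_of_mem_subfieldSubgroup hg
  have hmu : IsUnit m := by
    rw [Matrix.isUnit_iff_isUnit_det, isUnit_iff_ne_zero]
    intro e
    have := congrArg Matrix.det hm
    rw [Matrix.det_mul, Matrix.det_mul, e, mul_zero, Matrix.det_smul, Matrix.det_one, mul_one] at this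
    exact pow_ne_zero _ hμ0 this.symm
  let M₁ : Matrix (Fin 3) (Fin 3) F₁ := Matrix.of fun i j => ⟨c * (mat P⁻¹ * mat g * mat P) i j, hcg i j⟩
  refine ⟨c, hc, fun i j => hfix _ ?_⟩
  have e : c • mat (hBu.unit⁻¹ * g * hBu.unit) =
      (((hmu.unit⁻¹ : (Matrix (Fin 3) (Fin 3) F₁)ˣ) : Matrix (Fin 3) (Fin 3) F₁) * M₁ * m).map F₁.subtype := by
    have hinv : mat hBu.unit⁻¹ = l⁻¹ • (((hmu.unit⁻¹ : (Matrix (Fin 3) (Fin 3) F₁)ˣ) :
        Matrix (Fin 3) (Fin 3) F₁).map F₁.subtype * mat P⁻¹) := by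
      refine Units.inv_eq_of_mul_eq_one_right ?_
      show Bm * _ = 1
      rw [hBm, Matrix.smul_mul, Matrix.mul_smul, smul_smul, mul_inv_cancel₀ hl0, one_smul, mul_assoc,
        ← mul_assoc m', hm', ← Matrix.map_mul, show m * ((hmu.unit⁻¹ : (Matrix (Fin 3) (Fin 3) F₁)ˣ) : Matrix (Fin 3) (Fin 3) F₁) = 1 from
          hmu.unit.mul_inv,
        Matrix.map_one _ (map_zero _) (map_one _), one_mul, mat_mul_inv]
    simp only [mat, Units.val_mul] at hinv ⊢
    rw [hinv, show (hBu.unit : Matrix (Fin 3) (Fin 3) F) = Bm from rfl, hBm, Matrix.map_mul, Matrix.map_mul, ← hm',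
      show M₁.map F₁.subtype = c • (mat P⁻¹ * mat g * mat P) from rfl]
    simp only [Matrix.smul_mul, Matrix.mul_smul, smul_smul, mat, mul_assoc]
    simp [hl0]
  rw [← smul_eq_mul, ← Matrix.smul_apply, e]
  exact Subtype.mem _

/-! ### Extraspecial normalisers -/

/-- Commuting up to a cube root of unity. -/
def commScalar (p d : ℕ) (m k : M) : Bool :=
  (unitsC p d).any fun s => mulC p d s (mulC p d s s) == p && mmC p d m k == smulM p d s (mmC p d k m)

/-- A diagonal code. -/
def isDiagC (m : M) : Bool :=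
  m.1.2.1 == 0 && m.1.2.2 == 0 && m.2.1.1 == 0 && m.2.1.2.2 == 0 && m.2.2.1 == 0 && m.2.2.2.1 == 0

/-- A scalar code. -/
def isScalC (m : M) : Bool := isDiagC m && m.1.1 == m.2.1.2.1 && m.1.1 == m.2.2.2.2

/-- Certificate for the normaliser of an extraspecial group of order 27. -/
def extOK (p d : ℕ) (pts : List V) (A B : M) (T R : List M) : Bool :=
  (monAll p d fun m => !(mmC p d m (mmC p d m m) == oneM p && commScalar p d m A && commScalar p d m B) ||
    R.contains m) && R.all (isM p) &&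
  T.all (fun t => isSU p d t && stable p d pts t && R.all fun r => R.contains (mmC p d (mmC p d t r) (starC p t))) &&
  R.all (fun r => isScalC r || T.any fun t => isDiagC (mmC p d (mmC p d t r) (starC p t))) &&
  monAll p d fun m => !(detC p d m == p && R.contains (mmC p d (mmC p d (starC p m) B) m)) || stable p d pts m

theorem dm_diag (m : M) (h : isDiagC m = true) :
    dm p w m = Matrix.diagonal ![dec p w m.1.1, dec p w m.2.1.2.1, dec p w m.2.2.2.2] := by
  simp only [isDiagC, Bool.and_eq_true, beq_iff_eq] at h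
  obtain ⟨⟨⟨⟨⟨h1, h2⟩, h3⟩, h4⟩, h5⟩, h6⟩ := h
  ext i j
  fin_cases i <;> fin_cases j <;> simp [dm, dv, h1, h2, h3, h4, h5, h6, dec_zero]

/-- The elements of the group are among the listed codes. -/
theorem ext_list (C : Coded p d σ w) {pts : List V} {A B : M} {T R : List M}
    (hok : extOK p d pts A B T R = true) {a : Fin 3 → F} (hA : dm p w A = Matrix.diagonal a)
    (hainj : Function.Injective a) {R' : Subgroup (GL (Fin 3) F)} (hR' : R' ≤ Cfsg.GU 3 F p)
    (hcube : ∀ x ∈ R', x ^ 3 = 1) (hcomm : ⁅R', R'⁆ ≤ Cfsg.Geo.scalars (Fin 3) F) {ga gb : GL (Fin 3) F}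
    (hga : ga ∈ R') (hgb : gb ∈ R') (hgam : mat ga = dm p w A) (hgbm : mat gb = dm p w B)
    {x : GL (Fin 3) F} (hx : x ∈ R') : ∃ m, (m ∈ R ∧ isM p m = true) ∧ mat x = dm p w m := by
  classical
  simp only [extOK, Bool.and_eq_true, List.all_eq_true, List.any_eq_true, Bool.or_eq_true] at hok
  obtain ⟨⟨⟨⟨hcand, hR⟩, -⟩, -⟩, -⟩ := hok
  have hscal : ∀ y ∈ R', ∃ e : F, e * (e * e) = 1 ∧ e * σ e = 1 ∧ mat x * mat y = e • (mat y * mat x) := by
    intro y hy
    have hk := Subgroup.commutator_mem_commutator hx hy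
    obtain ⟨e, he⟩ := (Cfsg.Geo.mem_scalars_iff _).1 (hcomm hk)
    have hkR : ⁅x, y⁆ ∈ R' := by
      rw [commutatorElement_def]; exact mul_mem (mul_mem (mul_mem hx hy) (inv_mem hx)) (inv_mem hy)
    refine ⟨e, ?_, ?_, ?_⟩
    · have h3 := congrArg mat (hcube _ hkR)
      simp only [mat, Units.val_pow_eq_pow_val, Units.val_one] at h3
      rw [he, smul_pow, one_pow] at h3
      have := congrFun (congrFun h3 0) 0
      simpa [pow_succ, mul_assoc] using this
    · have h2 := congrFun (congrFun (C.isConj.mem_GU_iff.1 (hR' hkR)) 0) 0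
      rw [show mat ⁅x, y⁆ = (e : F) • 1 from he] at h2
      simpa [Matrix.mul_apply, Fin.sum_univ_three] using h2
    · have e' : x * y = ⁅x, y⁆ * (y * x) := by rw [commutatorElement_def]; group
      have e'' := congrArg mat e'
      simp only [mat, Units.val_mul] at e'' ⊢
      rw [e'', he, Matrix.smul_mul, one_mul]
  obtain ⟨e, he3, -, hxa⟩ := hscal ga hga
  have hmon : IsMon x := by
    have he0 : e ≠ 0 := fun h0 => by rw [h0, zero_mul] at he3; exact zero_ne_one he3
    refine isMon_of_diag (a := fun i => e * a i) (e := a)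
      (fun i j hij => hainj (mul_left_cancel₀ he0 hij)) ?_
    rw [← hA, ← hgam, hxa, hgam, hA, show (fun i => e * a i) = e • a from rfl, Matrix.diagonal_smul,
      Matrix.smul_mul]
  obtain ⟨m, hxm, hm⟩ := monAll_apply C hcand (hR' hx) hmon
  have hcs : ∀ {y : GL (Fin 3) F} {k : M}, y ∈ R' → mat y = dm p w k → commScalar p d m k = true := by
    intro y k hy hyk
    obtain ⟨e, he3, heN, hxy⟩ := hscal y hy
    obtain ⟨s, hs, rfl⟩ := dec_surjective C e
    simp only [commScalar, List.any_eq_true, Bool.and_eq_true, beq_iff_eq]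
    refine ⟨s, ?_, dec_injective C (mulC_lt C.prime.pos _ _) (p_lt C) (by rw [dec_mul C, dec_mul C, he3, dec_one C]),
      dm_injective C (isM_mmC C.prime.pos _ _) (isM_smulM C.prime.pos _ _)
        (by rw [dm_mmC C, dm_smulM C, dm_mmC C, ← hxm, ← hyk, hxy])⟩
    simp only [unitsC, List.mem_filter, List.mem_range, beq_iff_eq]
    exact ⟨hs, dec_injective C (mulC_lt C.prime.pos _ _) (p_lt C)
      (by rw [dec_mul C, dec_conj C, heN, dec_one C])⟩
  have h3 : mmC p d m (mmC p d m m) = oneM p := dm_injective C (isM_mmC C.prime.pos _ _) (isM_oneM C) (by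
    rw [dm_mmC C, dm_mmC C, dm_oneM C, ← hxm]
    have e3 := congrArg mat (hcube x hx)
    simpa [mat, pow_succ, mul_assoc] using e3)
  simp only [h3, hcs hga hgam, hcs hgb hgbm, beq_self_eq_true, Bool.and_self, Bool.not_true, Bool.false_or,
    List.contains_eq_mem, decide_eq_true_eq] at hm
  exact ⟨m, ⟨hm, hR m hm⟩, hxm⟩

theorem ext_mem (C : Coded p d σ w) {pts : List V} (hpts : goodPts p pts = true) {A B : M} {T R : List M}
    (hok : extOK p d pts A B T R = true) {a : Fin 3 → F} (hA : dm p w A = Matrix.diagonal a)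
    (hainj : Function.Injective a) {R' : Subgroup (GL (Fin 3) F)} (hR' : R' ≤ Cfsg.GU 3 F p)
    (hcube : ∀ x ∈ R', x ^ 3 = 1) (hcomm : ⁅R', R'⁆ ≤ Cfsg.Geo.scalars (Fin 3) F) {ga gb : GL (Fin 3) F}
    (hga : ga ∈ R') (hgb : gb ∈ R') (hgam : mat ga = dm p w A) (hgbm : mat gb = dm p w B)
    {g : GL (Fin 3) F} (hg : g ∈ SUn 3 F p) (hnorm : ∀ x ∈ R', g⁻¹ * x * g ∈ R') : g ∈ kGrp p w pts := by
  classical
  have hok0 := hok
  simp only [extOK, Bool.and_eq_true, List.all_eq_true, List.any_eq_true, Bool.or_eq_true] at hok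
  obtain ⟨⟨⟨⟨-, -⟩, hT⟩, hred⟩, hlast⟩ := hok
  have hlist : ∀ x ∈ R', ∃ m ∈ R, mat x = dm p w m := fun x hx => by
    obtain ⟨m, hm, e⟩ := ext_list C hok0 hA hainj hR' hcube hcomm hga hgb hgam hgbm hx
    exact ⟨m, hm.1, e⟩
  obtain ⟨r, hr, hrm⟩ := hlist _ (hnorm ga hga)
  have hns : isScalC r ≠ true := by
    intro hs
    simp only [isScalC, Bool.and_eq_true, beq_iff_eq] at hs
    obtain ⟨⟨hd, e1⟩, e2⟩ := hs
    have hsc : mat (g⁻¹ * ga * g) = dec p w r.1.1 • 1 := by
      rw [hrm, dm_diag r hd, ← e1, ← e2, Matrix.smul_one_eq_diagonal]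
      congr 1; funext i; fin_cases i <;> rfl
    have ha' : mat ga = dec p w r.1.1 • 1 := by
      calc mat ga = mat g * mat (g⁻¹ * ga * g) * mat g⁻¹ := by simp [mat, mul_assoc]
        _ = _ := by rw [hsc, Matrix.mul_smul, mul_one, Matrix.smul_mul, mat_mul_inv]
    rw [hgam, hA, Matrix.smul_one_eq_diagonal] at ha'
    have := Matrix.diagonal_injective ha'
    exact absurd (hainj ((congrFun this 0).trans (congrFun this 1).symm)) (by decide)
  obtain ⟨t, ht, hdiag⟩ := (hred r hr).resolve_left hns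
  obtain ⟨⟨htsu, htst⟩, htR⟩ := hT t ht
  obtain ⟨gt, hgt, hgtm⟩ := exists_su C htsu
  set k := g * gt⁻¹ with hk
  have hkSU : k ∈ SUn 3 F p := mul_mem hg (inv_mem hgt)
  have hti : mat gt⁻¹ = dm p w (starC p t) := by rw [inv_eq_star C hgt.1, hgtm, dm_starC C]
  have hmon : IsMon k := by
    refine isMon_of_diag (a := a)
      (e := ![dec p w (mmC p d (mmC p d t r) (starC p t)).1.1,
        dec p w (mmC p d (mmC p d t r) (starC p t)).2.1.2.1,
        dec p w (mmC p d (mmC p d t r) (starC p t)).2.2.2.2]) hainj ?_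
    rw [← dm_diag _ hdiag, dm_mmC C, dm_mmC C, ← hgtm, ← hti, ← hrm, ← hA, ← hgam, hk]
    simp [mat, mul_assoc]
  obtain ⟨m, hkm, hm⟩ := monAll_apply C hlast hkSU.1 hmon
  obtain ⟨rb, hrb, hrbm⟩ := hlist _ (hnorm gb hgb)
  have hconj : mmC p d (mmC p d (starC p m) B) m = mmC p d (mmC p d t rb) (starC p t) :=
    dm_injective C (isM_mmC C.prime.pos _ _) (isM_mmC C.prime.pos _ _) (by
      rw [dm_mmC C, dm_mmC C, dm_mmC C, dm_mmC C, dm_starC C, ← hkm, ← inv_eq_star C hkSU.1, ← hgbm, ← hgtm,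
        ← hti, ← hrbm, hk]
      simp [mat, mul_assoc])
  have hdet : detC p d m = p := dec_injective C (by rw [detC]; exact addC_lt C.prime.pos _ _) (p_lt C) (by
    rw [← det_dec C, dec_one C, ← hkm]; exact mem_specialLinear_iff.1 hkSU.2)
  have hcont := htR rb hrb
  rw [← hconj] at hcont
  simp only [hdet, hcont, beq_self_eq_true, Bool.and_self, Bool.not_true, Bool.false_or] at hm
  have := mul_mem (mem_kGrp C hpts hkSU hkm hm) (mem_kGrp C hpts hgt hgtm htst)
  simpa [hk] using this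

/-- An extraspecial group of isometries is standard in a suitable unitary basis. -/
theorem exists_ext_basis {q : ℕ} (h : IsConj q σ) {ω : F} (hω : ω ^ 3 = 1) (hω1 : ω ≠ 1)
    {R : Subgroup (GL (Fin 3) F)} (hR : Cfsg.Geo.IsSymplecticTypeGroup 3 R)
    (habs : Cfsg.Geo.ActsAbsolutelyIrreducibly (Cfsg.Geo.matrixSet R)) (hRU : R ≤ Cfsg.GU 3 F q)
    (hcomm : ⁅R, R⁆ ≤ Cfsg.Geo.scalars (Fin 3) F) :
    ∃ B ∈ Cfsg.GU 3 F q, ∃ ga ∈ R, ∃ gb ∈ R,
      mat (B⁻¹ * ga * B) = Matrix.diagonal ![1, ω, ω ^ 2] ∧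
      ∀ i : Fin 3, mat (B⁻¹ * gb * B) *ᵥ Pi.single i 1 = Pi.single (i + 1) 1 := by
  classical
  have hu := h.unitary (n := 3)
  have hexp : ∀ x ∈ R, x ^ 3 = 1 := fun x hx => by
    have e := Monoid.pow_exponent_eq_one (⟨x, hx⟩ : R)
    rw [hR.exponent_eq, show 3 * Nat.gcd 2 3 = 3 from rfl] at e
    exact congrArg Subtype.val e
  obtain ⟨a, ha, b₀, hb₀, hab⟩ : ∃ a ∈ R, ∃ b ∈ R, a * b ≠ b * a := by
    by_contra hall
    push Not at hall
    have hsc : R ≤ Cfsg.Geo.scalars (Fin 3) F := fun x hx => mem_scalars_of_commute habs (hall x hx)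
    have hline : R ≤ Cfsg.Geo.subspaceStabilizer (Submodule.span F {(Pi.single 0 1 : Fin 3 → F)}) := by
      intro x hx
      rw [mem_subspaceStabilizer_iff]
      intro u hu'
      obtain ⟨c, hc⟩ := (Cfsg.Geo.mem_scalars_iff x).1 (hsc hx)
      rw [show mat x = (c : F) • 1 from hc, Matrix.smul_mulVec, Matrix.one_mulVec]
      exact Submodule.smul_mem _ _ hu'
    rcases actsIrreducibly_iff.1 habs.1 _ hline with e | e
    · rw [Submodule.span_singleton_eq_bot] at e; simpa using congrFun e 0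
    · have := congrArg (fun W : Submodule F (Fin 3 → F) => Module.finrank F W) e
      simp [finrank_span_singleton (show (Pi.single 0 1 : Fin 3 → F) ≠ 0 by simp)] at this
  have ha3 : mat a * (mat a * mat a) = 1 := by
    simpa [mat, pow_succ, mul_assoc] using congrArg mat (hexp a ha)
  obtain ⟨e₀, he₀⟩ := (Cfsg.Geo.mem_scalars_iff _).1 (hcomm (Subgroup.commutator_mem_commutator ha hb₀))
  have hk : ⁅a, b₀⁆ ∈ R := by
    rw [commutatorElement_def]; exact mul_mem (mul_mem (mul_mem ha hb₀) (inv_mem ha)) (inv_mem hb₀)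
  have he3 : (e₀ : F) ^ 3 = 1 := by
    have h3 := congrArg mat (hexp _ hk)
    simp only [mat, Units.val_pow_eq_pow_val, Units.val_one] at h3
    rw [he₀, smul_pow, one_pow] at h3
    simpa using congrFun (congrFun h3 0) 0
  have he1 : (e₀ : F) ≠ 1 := fun e => hab (commutatorElement_eq_one_iff_mul_comm.1
    (Units.ext (by rw [he₀, e, one_smul, Units.val_one])))
  have hab₀ : mat a * mat b₀ = (e₀ : F) • (mat b₀ * mat a) := by
    have e' : a * b₀ = ⁅a, b₀⁆ * (b₀ * a) := by rw [commutatorElement_def]; group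
    have e'' := congrArg mat e'
    simp only [mat, Units.val_mul] at e'' ⊢
    rw [e'', he₀, Matrix.smul_mul, one_mul]
  have hωq : ω ^ 2 + ω + 1 = 0 :=
    mul_left_cancel₀ (sub_ne_zero.2 hω1) (by linear_combination hω)
  -- normalise the commutator
  obtain ⟨b, hb, hab1⟩ : ∃ b ∈ R, mat a * mat b = ω • (mat b * mat a) := by
    have hor : (e₀ : F) = ω ∨ (e₀ : F) = ω ^ 2 := by
      have e : ((e₀ : F) - 1) * (((e₀ : F) - ω) * ((e₀ : F) - ω ^ 2)) = 0 := by
        linear_combination he3 - hω + ((e₀ : F) * ω - (e₀ : F) ^ 2) * hωq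
      rcases mul_eq_zero.1 e with e | e
      · exact absurd (sub_eq_zero.1 e) he1
      rcases mul_eq_zero.1 e with e | e
      · exact Or.inl (sub_eq_zero.1 e)
      · exact Or.inr (sub_eq_zero.1 e)
    rcases hor with e | e
    · exact ⟨b₀, hb₀, e ▸ hab₀⟩
    · refine ⟨b₀ * b₀, mul_mem hb₀ hb₀, ?_⟩
      show mat a * (mat b₀ * mat b₀) = ω • (mat b₀ * mat b₀ * mat a)
      rw [← mul_assoc, hab₀, Matrix.smul_mul, mul_assoc (mat b₀) (mat a), hab₀, Matrix.mul_smul, smul_smul, e,
        ← mul_assoc]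
      congr 1
      linear_combination ω * hω
  have hb3 : mat b * (mat b * mat b) = 1 := by
    simpa [mat, pow_succ, mul_assoc] using congrArg mat (hexp b hb)
  have hshift : ∀ {l : F} {u : Fin 3 → F}, mat a *ᵥ u = l • u →
      mat a *ᵥ (mat b *ᵥ u) = (ω * l) • (mat b *ᵥ u) := fun {l u} e => by
    rw [Matrix.mulVec_mulVec, hab1, Matrix.smul_mulVec, ← Matrix.mulVec_mulVec, e, Matrix.mulVec_smul, smul_smul]
  -- an eigenvector for one
  obtain ⟨v, hv0, hv⟩ : ∃ v : Fin 3 → F, v ≠ 0 ∧ mat a *ᵥ v = v := by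
    have hprod : ∀ u : Fin 3 → F, ∃ (l : F) (x : Fin 3 → F), (l = 1 ∨ l = ω ∨ l = ω ^ 2) ∧
        (u ≠ 0 → x ≠ 0) ∧ mat a *ᵥ x = l • x := by
      intro u
      by_cases h1 : mat a *ᵥ u = u
      · exact ⟨1, u, Or.inl rfl, id, by rw [one_smul, h1]⟩
      by_cases h2 : mat a *ᵥ (mat a *ᵥ u - u) = ω • (mat a *ᵥ u - u)
      · exact ⟨ω, _, Or.inr (Or.inl rfl), fun _ => sub_ne_zero.2 h1, h2⟩
      refine ⟨ω ^ 2, mat a *ᵥ (mat a *ᵥ u - u) - ω • (mat a *ᵥ u - u), Or.inr (Or.inr rfl),
        fun _ => sub_ne_zero.2 h2, ?_⟩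
      simp only [Matrix.mulVec_sub, Matrix.mulVec_smul]
      rw [show mat a *ᵥ (mat a *ᵥ (mat a *ᵥ u)) = u by
        rw [Matrix.mulVec_mulVec, Matrix.mulVec_mulVec, mul_assoc, ha3, Matrix.one_mulVec]]
      funext i
      simp only [Pi.sub_apply, Pi.smul_apply, smul_eq_mul]
      linear_combination -((mat a *ᵥ (mat a *ᵥ u)) i) * hωq + ((mat a *ᵥ u) i - u i) * hω + (mat a *ᵥ u) i * hωq
    obtain ⟨l, x, hl, hx, hxl⟩ := hprod (Pi.single 0 1)
    have hx0 := hx (by simp)
    have hb0 : ∀ {u : Fin 3 → F}, u ≠ 0 → mat b *ᵥ u ≠ 0 := fun hu e =>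
      hu (mulVec_injective b (e.trans (Matrix.mulVec_zero _).symm))
    rcases hl with e | e | e <;> rw [e] at hxl
    · exact ⟨x, hx0, by rw [hxl, one_smul]⟩
    · refine ⟨mat b *ᵥ (mat b *ᵥ x), hb0 (hb0 hx0), ?_⟩
      rw [hshift (hshift hxl), show ω * (ω * ω) = 1 by linear_combination hω, one_smul]
    · refine ⟨mat b *ᵥ x, hb0 hx0, ?_⟩
      rw [hshift hxl, show ω * ω ^ 2 = 1 by linear_combination hω, one_smul]
  have hv1 : mat a *ᵥ v = (1 : F) • v := by rw [one_smul, hv]
  let f : Fin 3 → Fin 3 → F := ![v, mat b *ᵥ v, mat b *ᵥ (mat b *ᵥ v)]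
  let L : Fin 3 → F := ![1, ω, ω ^ 2]
  have hfa : ∀ i, mat a *ᵥ f i = L i • f i := by
    intro i
    fin_cases i
    · exact hv1
    · show mat a *ᵥ (mat b *ᵥ v) = ω • _
      rw [hshift hv1, mul_one]
      rfl
    · show mat a *ᵥ (mat b *ᵥ (mat b *ᵥ v)) = ω ^ 2 • _
      rw [hshift (hshift hv1), mul_one, pow_two]
      rfl
  have hω0 : ω ≠ 0 := fun e => by rw [e] at hω; simp at hω
  have hLinj : Function.Injective L := by
    have h21 : ω ^ 2 ≠ 1 := fun e => hω1 (by linear_combination hω - ω * e)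
    have h12 : ω ^ 2 ≠ ω := fun e => hω1 (mul_left_cancel₀ hω0 (by linear_combination e))
    intro i j e
    fin_cases i <;> fin_cases j <;> first
      | rfl
      | exact absurd e hω1
      | exact absurd e.symm hω1
      | exact absurd e h21
      | exact absurd e.symm h21
      | exact absurd e h12
      | exact absurd e.symm h12
  have hNa : ∀ i, L i * σ (L i) = 1 := by
    intro i
    have hmem : ⁅a, b⁆ ∈ R := by
      rw [commutatorElement_def]; exact mul_mem (mul_mem (mul_mem ha hb) (inv_mem ha)) (inv_mem hb)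
    have hωN : ω * σ ω = 1 := by
      have em : mat ⁅a, b⁆ = ω • (1 : Matrix (Fin 3) (Fin 3) F) := by
        calc mat ⁅a, b⁆ = (mat a * mat b) * (mat a⁻¹ * mat b⁻¹) := by
              simp [commutatorElement_def, mat, mul_assoc]
          _ = ω • 1 := by
              rw [hab1, Matrix.smul_mul]
              congr 1
              simp [mat, mul_assoc]
      have h2 := congrFun (congrFun (h.mem_GU_iff.1 (hRU hmem)) 0) 0
      rw [em] at h2
      simpa [Matrix.mul_apply, Fin.sum_univ_three] using h2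
    fin_cases i
    · simp [L]
    · simpa [L] using hωN
    · show ω ^ 2 * σ (ω ^ 2) = 1
      rw [map_pow, ← mul_pow, hωN, one_pow]
  have horth : ∀ i j, i ≠ j → Cfsg.hermForm 3 F q (f i) (f j) = 0 := by
    intro i j hij
    have e := CfsgLib.MaxSub.mem_GU_iff_forall.1 (hRU ha) (f i) (f j)
    change Cfsg.hermForm 3 F q (mat a *ᵥ f i) (mat a *ᵥ f j) = _ at e
    rw [hfa, hfa, hu.smul_left, h.sesq.smul_right, ← mul_assoc] at e
    by_contra hne
    have e2 : L i * σ (L j) = 1 := mul_right_cancel₀ hne (by rw [one_mul]; exact e)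
    exact hij (hLinj (by linear_combination L j * e2 - L i * hNa j))
  have hbU : ∀ x y, Cfsg.hermForm 3 F q (mat b *ᵥ x) (mat b *ᵥ y) = Cfsg.hermForm 3 F q x y :=
    CfsgLib.MaxSub.mem_GU_iff_forall.1 (hRU hb)
  have hsame : ∀ i, Cfsg.hermForm 3 F q (f i) (f i) = Cfsg.hermForm 3 F q v v := fun i => by
    fin_cases i
    · rfl
    · exact hbU _ _
    · exact (hbU _ _).trans (hbU _ _)
  have hf0 : ∀ i, f i ≠ 0 := fun i e => by
    fin_cases i
    · exact hv0 e
    · exact hv0 (mulVec_injective b (e.trans (Matrix.mulVec_zero _).symm))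
    · exact hv0 (mulVec_injective b ((mulVec_injective b (e.trans (Matrix.mulVec_zero _).symm)).trans
        (Matrix.mulVec_zero _).symm))
  have hli : LinearIndependent F f :=
    Module.End.eigenvectors_linearIndependent' (Matrix.toLin' (mat a)) L hLinj f fun i =>
      ⟨Module.End.mem_eigenspace_iff.2 (by rw [Matrix.toLin'_apply]; exact hfa i), hf0 i⟩
  have hn0 : Cfsg.hermForm 3 F q v v ≠ 0 := by
    intro e0
    obtain ⟨⟨x, hx⟩, -⟩ := hu.nondegenerate v hv0
    have hx' : x ∈ Submodule.span F (Set.range f) := by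
      rw [hli.span_eq_top_of_card_eq_finrank (by simp)]; trivial
    obtain ⟨c, rfl⟩ := (Submodule.mem_span_range_iff_exists_fun F).1 hx'
    apply hx
    rw [h.sesq.sum_left]
    refine Finset.sum_eq_zero fun i _ => ?_
    rw [hu.smul_left, show v = f 0 from rfl]
    rcases eq_or_ne i 0 with rfl | hi
    · rw [show f 0 = v from rfl, e0, mul_zero]
    · rw [horth i 0 hi, mul_zero]
  obtain ⟨s, hs⟩ := CfsgLib.MaxSub.norm_surjective h.ne_refl h.involutive
    (a := (Cfsg.hermForm 3 F q v v)⁻¹) (by rw [map_inv₀, ← hu.herm v v])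
  let Bm : Matrix (Fin 3) (Fin 3) F := Matrix.of fun r i => s * f i r
  have hcol : ∀ i, Bm *ᵥ Pi.single i 1 = s • f i := fun i => by
    funext r; simp [Bm]
  have hB1 : Bmᵀ * Bm.map σ = 1 := by
    ext i j
    rw [Matrix.mul_apply]
    show ∑ r, s * f i r * σ (s * f j r) = _
    have e : ∑ r, s * f i r * σ (s * f j r) = s * σ s * Cfsg.hermForm 3 F q (f i) (f j) := by
      rw [h.herm_eq, Finset.mul_sum]
      exact Finset.sum_congr rfl fun r _ => by rw [map_mul]; ring
    rw [e]
    rcases eq_or_ne i j with rfl | hij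
    · rw [hsame, hs, inv_mul_cancel₀ hn0, Matrix.one_apply_eq]
    · rw [horth i j hij, mul_zero, Matrix.one_apply_ne hij]
  have hBu : IsUnit Bm := (Matrix.isUnit_transpose Bm).1 (IsUnit.of_mul_eq_one _ hB1)
  refine ⟨hBu.unit, h.mem_GU_iff.2 hB1, a, ha, b, hb, ?_, fun i => ?_⟩
  · apply Matrix.toLin'.injective
    apply LinearMap.pi_ext'
    intro i
    refine LinearMap.ext_ring ?_
    simp only [LinearMap.comp_apply, LinearMap.single_apply, Matrix.toLin'_apply]
    apply mulVec_injective hBu.unit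
    simp only [mat, Units.val_mul, Matrix.mulVec_mulVec, ← mul_assoc, Units.mul_inv, one_mul]
    rw [← Matrix.mulVec_mulVec, show (hBu.unit : Matrix (Fin 3) (Fin 3) F) = Bm from rfl, hcol,
      Matrix.mulVec_smul]
    show s • (mat a *ᵥ f i) = _
    rw [hfa, ← Matrix.mulVec_mulVec, Matrix.diagonal_mulVec_single, mul_one,
      show (Pi.single i (L i) : Fin 3 → F) = L i • Pi.single i 1 by
        rw [← Pi.single_smul', smul_eq_mul, mul_one], Matrix.mulVec_smul, hcol, smul_comm]
  · apply mulVec_injective hBu.unit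
    simp only [mat, Units.val_mul, Matrix.mulVec_mulVec, ← mul_assoc, Units.mul_inv, one_mul]
    rw [← Matrix.mulVec_mulVec, show (hBu.unit : Matrix (Fin 3) (Fin 3) F) = Bm from rfl, hcol, hcol,
      Matrix.mulVec_smul]
    congr 1
    fin_cases i
    · rfl
    · rfl
    · show mat b *ᵥ (mat b *ᵥ (mat b *ᵥ v)) = v
      rw [Matrix.mulVec_mulVec, Matrix.mulVec_mulVec, mul_assoc, hb3, Matrix.one_mulVec]

end CfsgLib.AschbacherUnitary.Codes
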