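import Cfsg.Agent.AschbacherUnitary.Proper
import Cfsg.Agent.MaxSub.UnitaryExceptional

/-!
Codes for the elements of a field of order `p ^ 2` and certificates for overgroups inside its
three-dimensional special unitary group.
-/

set_option autoImplicit false
set_option linter.unusedSectionVars false
set_option linter.style.haveILetI false

namespace CfsgLib.AschbacherUnitary.Codes

open Matrix CfsgLib.Aschbacher CfsgLib.AschbacherUnitary

/-- Vectors of codes. -/
abbrev V := ℕ × ℕ × ℕ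

/-- Matrices of codes, by rows. -/
abbrev M := V × V × V

variable (p d : ℕ)

/-- Sum of codes. -/
def addC (i j : ℕ) : ℕ := (i / p + j / p) % p * p + (i % p + j % p) % p

/-- Product of codes. -/
def mulC (i j : ℕ) : ℕ :=
  ((i / p) * (j / p) + d * (i % p) * (j % p)) % p * p + ((i / p) * (j % p) + (i % p) * (j / p)) % p

/-- Conjugate of a code. -/
def conjC (i : ℕ) : ℕ := (i / p) % p * p + (p - i % p) % p

/-- Negative of a code. -/
def negC (i : ℕ) : ℕ := (p - (i / p) % p) % p * p + (p - i % p) % p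

/-- The code of `a + b w`. -/
def pairC (a b : ℕ) : ℕ := a % p * p + b % p

/-- Scalar multiple. -/
def smulC (l : ℕ) (v : V) : V := (mulC p d l v.1, mulC p d l v.2.1, mulC p d l v.2.2)

/-- Dot product. -/
def dotC (u v : V) : ℕ := addC p (addC p (mulC p d u.1 v.1) (mulC p d u.2.1 v.2.1)) (mulC p d u.2.2 v.2.2)

/-- Conjugate vector. -/
def conjV (v : V) : V := (conjC p v.1, conjC p v.2.1, conjC p v.2.2)

/-- Hermitian product. -/
def hermC (u v : V) : ℕ := dotC p d u (conjV p v)

/-- Matrix times vector. -/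
def mvC (m : M) (v : V) : V := (dotC p d m.1 v, dotC p d m.2.1 v, dotC p d m.2.2 v)

/-- Transpose. -/
def trC (m : M) : M :=
  ((m.1.1, m.2.1.1, m.2.2.1), (m.1.2.1, m.2.1.2.1, m.2.2.2.1), (m.1.2.2, m.2.1.2.2, m.2.2.2.2))

/-- Matrix product. -/
def mmC (m k : M) : M :=
  let t := trC k
  ((dotC p d m.1 t.1, dotC p d m.1 t.2.1, dotC p d m.1 t.2.2),
   (dotC p d m.2.1 t.1, dotC p d m.2.1 t.2.1, dotC p d m.2.1 t.2.2),
   (dotC p d m.2.2 t.1, dotC p d m.2.2 t.2.1, dotC p d m.2.2 t.2.2))

/-- The conjugate transpose. -/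
def starC (m : M) : M :=
  let t := trC m
  (conjV p t.1, conjV p t.2.1, conjV p t.2.2)

/-- The identity. -/
def oneM : M := ((p, 0, 0), (0, p, 0), (0, 0, p))

/-- Determinant. -/
def detC (m : M) : ℕ :=
  addC p (addC p
    (addC p (mulC p d m.1.1 (mulC p d m.2.1.2.1 m.2.2.2.2))
      (negC p (mulC p d m.1.1 (mulC p d m.2.1.2.2 m.2.2.2.1))))
    (addC p (negC p (mulC p d m.1.2.1 (mulC p d m.2.1.1 m.2.2.2.2)))
      (mulC p d m.1.2.1 (mulC p d m.2.1.2.2 m.2.2.1))))
    (addC p (mulC p d m.1.2.2 (mulC p d m.2.1.1 m.2.2.2.1))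
      (negC p (mulC p d m.1.2.2 (mulC p d m.2.1.2.1 m.2.2.1))))

/-- The test for membership in the special unitary group. -/
def isSU (m : M) : Bool := mmC p d (starC p m) m == oneM p && detC p d m == p

/-- Valid vectors. -/
def isV (v : V) : Bool := decide (v.1 < p * p) && decide (v.2.1 < p * p) && decide (v.2.2 < p * p)

/-- Some scalar making the first non-zero coordinate one. -/
def normFactor (v : V) : ℕ :=
  let x := if v.1 ≠ 0 then v.1 else if v.2.1 ≠ 0 then v.2.1 else v.2.2
  match (List.range (p * p)).find? (fun i => mulC p d i x == p) with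
  | some i => i
  | none => 0

/-- The normalised vector. -/
def normC (v : V) : V := smulC p d (normFactor p d v) v

/-- Valid point lists. -/
def goodPts (pts : List V) : Bool := pts.all fun u => isV p u && u != (0, 0, 0)

/-- The test for mapping the points to points. -/
def stable (pts : List V) (m : M) : Bool := pts.all fun u => pts.contains (normC p d (mvC p d m u))

/-- The test for moving a point off the points. -/
def moves (pts : List V) (m : M) (u₀ : V) : Bool :=
  pts.contains u₀ && isV p (mvC p d m u₀) &&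
    pts.all fun u => (List.range (p * p)).all fun l => isV p (smulC p d l u) && smulC p d l u != mvC p d m u₀

variable {F : Type*} [Field F] [Fintype F]

/-- A field of order `p ^ 2` with coordinates. -/
structure Coded (p d : ℕ) (σ : F ≃+* F) (w : F) : Prop where
  prime : p.Prime
  two_lt : 2 < p
  cast_eq : (p : F) = 0
  card_eq : Fintype.card F = p ^ 2
  sq_eq : w * w = d
  d_ne_zero : (d : F) ≠ 0
  conj_eq : σ w = -w
  isConj : IsConj p σ

theorem exists_coded {p d : ℕ} {σ : F ≃+* F} (hp : p.Prime) (h2 : 2 < p) (hF : Fintype.card F = p ^ 2)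
    (h : IsConj p σ) (hd : (d : ZMod p) ^ ((p - 1) / 2) = -1) : ∃ w, Coded p d σ w := by
  classical
  haveI : Fact p.Prime := ⟨hp⟩
  haveI : CharP F p := charP_of_card_eq_prime_pow hF
  have hodd : p % 2 = 1 := hp.mod_two_eq_one_iff_ne_two.2 (by omega)
  have hd' : (d : F) ^ ((p - 1) / 2) = -1 := by
    have e := congrArg (ZMod.castHom dvd_rfl F) hd
    rwa [map_pow, map_natCast, map_neg, map_one] at e
  have hd0 : (d : F) ≠ 0 := fun e => by
    rw [e, zero_pow (by omega)] at hd'
    exact neg_ne_zero.2 (one_ne_zero (α := F)) hd'.symm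
  have hsq : IsSquare (d : F) := by
    have hc : ringChar F ≠ 2 := by rw [ringChar.eq F p]; omega
    rw [FiniteField.isSquare_iff hc hd0, hF]
    obtain ⟨t, ht⟩ : ∃ t, p = 2 * t + 1 := ⟨p / 2, by omega⟩
    have e1 : p ^ 2 / 2 = (p - 1) / 2 * (2 * t + 2) := by
      rw [show (p - 1) / 2 = t by omega, ht, show (2 * t + 1) ^ 2 = 2 * (t * (2 * t + 2)) + 1 by ring]
      omega
    rw [e1, pow_mul, hd']
    exact (even_two.mul_right t).add even_two |>.neg_one_pow
  obtain ⟨w, hw⟩ := hsq
  refine ⟨w, hp, h2, CharP.cast_eq_zero F p, hF, hw.symm, hd0, ?_, h⟩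
  obtain ⟨t, ht⟩ : ∃ t, p = 2 * t + 1 := ⟨p / 2, by omega⟩
  rw [show (p - 1) / 2 = t by omega] at hd'
  rw [h.eq_pow, ht, pow_succ, pow_mul, pow_two, ← hw, hd', neg_one_mul]

/-- Decoding. -/
def dec (p : ℕ) (w : F) (i : ℕ) : F := ((i / p : ℕ) : F) + ((i % p : ℕ) : F) * w

/-- Decoding vectors. -/
def dv (p : ℕ) (w : F) (v : V) : Fin 3 → F := ![dec p w v.1, dec p w v.2.1, dec p w v.2.2]

/-- Decoding matrices. -/
def dm (p : ℕ) (w : F) (m : M) : Matrix (Fin 3) (Fin 3) F :=
  Matrix.of ![dv p w m.1, dv p w m.2.1, dv p w m.2.2]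

variable {p d : ℕ} {σ : F ≃+* F} {w : F}

theorem cast_mod (C : Coded p d σ w) (a : ℕ) : ((a % p : ℕ) : F) = a := by
  conv_rhs => rw [← Nat.mod_add_div a p]
  rw [Nat.cast_add, Nat.cast_mul, C.cast_eq, zero_mul, add_zero]

theorem cast_neg_mod (C : Coded p d σ w) (a : ℕ) : (((p - a % p) % p : ℕ) : F) = -a := by
  rw [cast_mod C, Nat.cast_sub (Nat.mod_lt _ C.prime.pos).le, C.cast_eq, cast_mod C, zero_sub]

theorem dec_pack (C : Coded p d σ w) (a b : ℕ) :
    dec p w (a % p * p + b % p) = (a : F) + b * w := by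
  have hb := Nat.mod_lt b C.prime.pos
  rw [dec, Nat.mul_comm, Nat.mul_add_div C.prime.pos, Nat.div_eq_of_lt hb, add_zero, Nat.mul_add_mod,
    Nat.mod_eq_of_lt hb, cast_mod C, cast_mod C]

theorem dec_pack' (C : Coded p d σ w) (a b : ℕ) :
    dec p w (a % p * p + (p - b % p) % p) = (a : F) - b * w := by
  have e : (p - b % p) % p = (p - b % p) % p % p := (Nat.mod_mod _ _).symm
  rw [e, dec_pack C, cast_neg_mod C, neg_mul, sub_eq_add_neg]

theorem dec_pairC (C : Coded p d σ w) (a b : ℕ) : dec p w (pairC p a b) = (a : F) + b * w := dec_pack C a b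

theorem dec_zero : dec p w 0 = 0 := by simp [dec]

theorem dec_one (C : Coded p d σ w) : dec p w p = 1 := by
  rw [dec, Nat.div_self C.prime.pos, Nat.mod_self, Nat.cast_one, Nat.cast_zero, zero_mul, add_zero]

theorem dec_add (C : Coded p d σ w) (i j : ℕ) : dec p w (addC p i j) = dec p w i + dec p w j := by
  rw [addC, dec_pack C, Nat.cast_add, Nat.cast_add, dec, dec]
  ring

theorem dec_mul (C : Coded p d σ w) (i j : ℕ) : dec p w (mulC p d i j) = dec p w i * dec p w j := by
  rw [mulC, dec_pack C, dec, dec]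
  push_cast
  linear_combination -((i % p : ℕ) : F) * ((j % p : ℕ) : F) * C.sq_eq

theorem dec_conj (C : Coded p d σ w) (i : ℕ) : dec p w (conjC p i) = σ (dec p w i) := by
  rw [conjC, dec_pack' C, dec, map_add, map_mul, C.conj_eq, map_natCast, map_natCast, ← cast_mod C i]
  ring

theorem dec_neg (C : Coded p d σ w) (i : ℕ) : dec p w (negC p i) = -dec p w i := by
  rw [negC]
  have e : (p - i / p % p) % p = (p - i / p % p) % p % p := (Nat.mod_mod _ _).symm
  rw [e, dec_pack' C, cast_neg_mod C, dec, ← cast_mod C i]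
  ring

theorem dec_injective (C : Coded p d σ w) {i j : ℕ} (hi : i < p * p) (hj : j < p * p)
    (h : dec p w i = dec p w j) : i = j := by
  haveI : Fact p.Prime := ⟨C.prime⟩
  haveI : CharP F p := charP_of_card_eq_prime_pow C.card_eq
  have h2 : (2 : F) ≠ 0 := by
    intro e
    have := (CharP.cast_eq_zero_iff F p 2).1 (by exact_mod_cast e)
    have := Nat.le_of_dvd two_pos this
    have := C.two_lt
    omega
  have hinj : ∀ {a b : ℕ}, a < p → b < p → (a : F) = b → a = b := fun ha hb e => by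
    have := (CharP.natCast_eq_natCast F p).1 e
    rwa [Nat.ModEq, Nat.mod_eq_of_lt ha, Nat.mod_eq_of_lt hb] at this
  rw [dec, dec] at h
  have hc := congrArg σ h
  simp only [map_add, map_mul, C.conj_eq, map_natCast] at hc
  have hw0 : w ≠ 0 := fun e => C.d_ne_zero (by rw [← C.sq_eq, e, mul_zero])
  have e1 : ((i % p : ℕ) : F) = (j % p : ℕ) := by
    refine mul_right_cancel₀ (mul_ne_zero h2 hw0) ?_
    linear_combination h - hc
  have e2 : ((i / p : ℕ) : F) = (j / p : ℕ) := by linear_combination h - w * e1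
  rw [← Nat.div_add_mod i p, ← Nat.div_add_mod j p,
    hinj (Nat.mod_lt _ C.prime.pos) (Nat.mod_lt _ C.prime.pos) e1,
    hinj (Nat.div_lt_of_lt_mul hi) (Nat.div_lt_of_lt_mul hj) e2]

theorem dec_surjective (C : Coded p d σ w) (x : F) : ∃ i, i < p * p ∧ dec p w i = x := by
  have hinj : Function.Injective fun i : Fin (p * p) => dec p w i.1 := fun i j h =>
    Fin.ext (dec_injective C i.2 j.2 h)
  obtain ⟨i, hi⟩ := ((Fintype.bijective_iff_injective_and_card _).2
    ⟨hinj, by rw [Fintype.card_fin, C.card_eq, pow_two]⟩).2 x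
  exact ⟨i.1, i.2, hi⟩

theorem dv_injective (C : Coded p d σ w) {u v : V} (hu : isV p u = true) (hv : isV p v = true)
    (h : dv p w u = dv p w v) : u = v := by
  simp only [isV, Bool.and_eq_true, decide_eq_true_eq] at hu hv
  exact Prod.ext (dec_injective C hu.1.1 hv.1.1 (congrFun h 0))
    (Prod.ext (dec_injective C hu.1.2 hv.1.2 (congrFun h 1)) (dec_injective C hu.2 hv.2 (congrFun h 2)))

theorem dv_surjective (C : Coded p d σ w) (x : Fin 3 → F) : ∃ v, isV p v = true ∧ dv p w v = x := by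
  obtain ⟨a, ha, ea⟩ := dec_surjective C (x 0)
  obtain ⟨b, hb, eb⟩ := dec_surjective C (x 1)
  obtain ⟨c, hc, ec⟩ := dec_surjective C (x 2)
  refine ⟨(a, b, c), by simp [isV, ha, hb, hc], ?_⟩
  funext i
  fin_cases i <;> simp [dv, ea, eb, ec]

theorem dot_dec (C : Coded p d σ w) (u v : V) : dec p w (dotC p d u v) = dv p w u ⬝ᵥ dv p w v := by
  simp [dotC, dec_add C, dec_mul C, dv, dotProduct, Fin.sum_univ_three]

theorem dv_conjV (C : Coded p d σ w) (v : V) : dv p w (conjV p v) = fun i => σ (dv p w v i) := by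
  funext i
  fin_cases i <;> simp [conjV, dv, dec_conj C]

theorem herm_dec (C : Coded p d σ w) (u v : V) :
    dec p w (hermC p d u v) = Cfsg.hermForm 3 F p (dv p w u) (dv p w v) := by
  rw [hermC, dot_dec C, dv_conjV C, C.isConj.herm_eq]
  rfl

theorem dv_smulC (C : Coded p d σ w) (l : ℕ) (v : V) : dv p w (smulC p d l v) = dec p w l • dv p w v := by
  funext i
  fin_cases i <;> simp [smulC, dv, dec_mul C]

theorem dv_mvC (C : Coded p d σ w) (m : M) (v : V) : dv p w (mvC p d m v) = dm p w m *ᵥ dv p w v := by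
  funext i
  fin_cases i <;> simp [mvC, dv, dot_dec C, dm, Matrix.mulVec] <;> rfl

theorem dm_mmC (C : Coded p d σ w) (m k : M) : dm p w (mmC p d m k) = dm p w m * dm p w k := by
  ext i j
  fin_cases i <;> fin_cases j <;>
    simp [mmC, trC, dm, dv, dot_dec C, Matrix.mul_apply, dotProduct, Fin.sum_univ_three]

theorem dm_starC (C : Coded p d σ w) (m : M) : dm p w (starC p m) = ((dm p w m).map σ)ᵀ := by
  ext i j
  fin_cases i <;> fin_cases j <;> simp [starC, trC, conjV, dm, dv, dec_conj C]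

theorem dm_oneM (C : Coded p d σ w) : dm p w (oneM p) = 1 := by
  ext i j
  fin_cases i <;> fin_cases j <;> simp [oneM, dm, dv, dec_one C, dec_zero]

theorem det_dec (C : Coded p d σ w) (m : M) : (dm p w m).det = dec p w (detC p d m) := by
  rw [Matrix.det_fin_three]
  simp [detC, dm, dv, dec_add C, dec_mul C, dec_neg C]
  ring

/-- Coded members of the special unitary group. -/
theorem exists_su (C : Coded p d σ w) {m : M} (hm : isSU p d m = true) :
    ∃ g ∈ SUn 3 F p, mat g = dm p w m := by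
  simp only [isSU, Bool.and_eq_true, beq_iff_eq] at hm
  have h1 : ((dm p w m).map σ)ᵀ * dm p w m = 1 := by rw [← dm_starC C, ← dm_mmC C, hm.1, dm_oneM C]
  have h2 : (dm p w m)ᵀ * (dm p w m).map σ = 1 := by
    have e := congrArg Matrix.transpose h1
    rwa [Matrix.transpose_mul, Matrix.transpose_transpose, Matrix.transpose_one] at e
  have hdet : (dm p w m).det = 1 := by rw [det_dec C, hm.2, dec_one C]
  refine ⟨Matrix.GeneralLinearGroup.mkOfDetNeZero _ (show (dm p w m).det ≠ 0 by rw [hdet]; exact one_ne_zero),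
    ⟨C.isConj.mem_GU_iff.2 h2, mem_specialLinear_iff.2 hdet⟩, rfl⟩

theorem inv_eq_star (C : Coded p d σ w) {g : GL (Fin 3) F} (hg : g ∈ Cfsg.GU 3 F p) :
    mat g⁻¹ = ((mat g).map σ)ᵀ := by
  have e := congrArg Matrix.transpose (C.isConj.mem_GU_iff.1 hg)
  rw [Matrix.transpose_mul, Matrix.transpose_transpose, Matrix.transpose_one] at e
  calc mat g⁻¹ = ((mat g).map σ)ᵀ * mat g * mat g⁻¹ := by rw [e, one_mul]
    _ = _ := by rw [mul_assoc, mat_mul_inv, mul_one]

/-- The multiples of the decoded points. -/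
def ptsSet (p : ℕ) (w : F) (pts : List V) : Set (Fin 3 → F) :=
  {x | ∃ u ∈ pts, ∃ l : F, l ≠ 0 ∧ x = l • dv p w u}

/-- The overgroup attached to a list of points. -/
def kGrp (p : ℕ) (w : F) (pts : List V) : Subgroup (GL (Fin 3) F) :=
  CfsgLib.MaxSub.setStab (ptsSet p w pts) ⊓ SUn 3 F p

theorem mem_kGrp (C : Coded p d σ w) {pts : List V} (hpts : goodPts p pts = true) {g : GL (Fin 3) F}
    (hg : g ∈ SUn 3 F p) {m : M} (hgm : mat g = dm p w m) (hm : stable p d pts m = true) :
    g ∈ kGrp p w pts := by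
  classical
  refine ⟨?_, hg⟩
  have hmap : ∀ x ∈ ptsSet p w pts, mat g *ᵥ x ∈ ptsSet p w pts := by
    rintro _ ⟨u, hu, l, hl, rfl⟩
    simp only [stable, List.all_eq_true] at hm
    have hc := hm u hu
    rw [List.contains_eq_mem, decide_eq_true_eq] at hc
    refine ⟨_, hc, l * (dec p w (normFactor p d (mvC p d m u)))⁻¹, ?_, ?_⟩
    all_goals
      have hne : dec p w (normFactor p d (mvC p d m u)) ≠ 0 := by
        intro e
        have h0 : dv p w (normC p d (mvC p d m u)) = dv p w (0, 0, 0) := by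
          rw [normC, dv_smulC C, e, zero_smul]
          funext i
          fin_cases i <;> simp [dv, dec_zero]
        simp only [goodPts, List.all_eq_true, Bool.and_eq_true, bne_iff_ne] at hpts
        exact (hpts _ hc).2 (dv_injective C (hpts _ hc).1 (by simp [isV, C.prime.pos]) h0)
    · exact mul_ne_zero hl (inv_ne_zero hne)
    · rw [Matrix.mulVec_smul, hgm, ← dv_mvC C, normC, dv_smulC C, smul_smul, mul_assoc, inv_mul_cancel₀ hne,
        mul_one]
  show g ∈ CfsgLib.MaxSub.setStab _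
  rw [CfsgLib.MaxSub.mem_setStab]
  intro x
  refine ⟨fun hx => ?_, hmap x⟩
  let f : ptsSet p w pts → ptsSet p w pts := fun x => ⟨mat g *ᵥ x.1, hmap _ x.2⟩
  have hinj : Function.Injective f := fun a b e => Subtype.ext (mulVec_injective g (congrArg Subtype.val e))
  obtain ⟨⟨y, hy⟩, hyx⟩ := Finite.injective_iff_surjective.1 hinj ⟨_, hx⟩
  exact mulVec_injective g (congrArg Subtype.val hyx) ▸ hy

theorem kGrp_lt (C : Coded p d σ w) {pts : List V} {m : M}
    (hm : isSU p d m = true) {u₀ : V} (hmv : moves p d pts m u₀ = true) :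
    kGrp p w pts < SUn 3 F p := by
  obtain ⟨g, hg, hgm⟩ := exists_su C hm
  refine lt_of_le_of_ne inf_le_right fun e => ?_
  have hgK : g ∈ kGrp p w pts := e.symm ▸ hg
  simp only [moves, Bool.and_eq_true, List.all_eq_true, List.contains_eq_mem, decide_eq_true_eq,
    bne_iff_ne, List.mem_range] at hmv
  obtain ⟨⟨hu₀, hv⟩, hall⟩ := hmv
  obtain ⟨u, hu, l, -, hl⟩ := (CfsgLib.MaxSub.mem_setStab.1 hgK.1 (dv p w u₀)).2
    ⟨u₀, hu₀, 1, one_ne_zero, (one_smul _ _).symm⟩
  obtain ⟨i, hi, rfl⟩ := dec_surjective C l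
  refine (hall u hu i hi).2 (dv_injective C (hall u hu i hi).1 hv ?_)
  rw [dv_smulC C, dv_mvC C, ← hgm]
  exact hl.symm

/-- A maximal subgroup is not properly inside a conjugate of such an overgroup. -/
theorem not_maximal_of_overgroup {H K : Subgroup (GL (Fin 3) F)} {q : ℕ}
    (hH : Cfsg.Geo.IsMaximalIn (SUn 3 F q) H) (hK : K < SUn 3 F q) {B : GL (Fin 3) F}
    (hB : B ∈ Cfsg.GU 3 F q) (hle : ∀ g ∈ H, B⁻¹ * g * B ∈ K) {k : GL (Fin 3) F} (hk : k ∈ K)
    (hkH : B * k * B⁻¹ ∉ H) : False := by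
  have hconj : ∀ g ∈ SUn 3 F q, ∀ C ∈ Cfsg.GU 3 F q, C * g * C⁻¹ ∈ SUn 3 F q :=
    fun g hg C hC => mat_mem_of_conj hC hg
  rcases hH.2 (K.map (MulAut.conj B).toMonoidHom)
    (fun g hg => ⟨B⁻¹ * g * B, hle g hg, by simp [mul_assoc]⟩)
    (by rintro _ ⟨g, hg, rfl⟩; exact hconj g (hK.le hg) B hB) with e | e
  · exact hkH (e ▸ ⟨k, hk, rfl⟩)
  · refine hK.not_ge fun g hg => ?_
    obtain ⟨y, hy, hyx⟩ := (e ▸ hconj g hg B hB : B * g * B⁻¹ ∈ K.map (MulAut.conj B).toMonoidHom)
    rw [show g = y from ((MulAut.conj B).injective hyx).symm]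
    exact hy

end CfsgLib.AschbacherUnitary.Codes
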