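import Cfsg.Agent.AschbacherUnitary.Proper
import Cfsg.Agent.Forms.UnitaryOrder

/-!
An element of order seven of the special unitary group inside an adjoint-closed cubic field of matrices, and its
conjugates.
-/

set_option autoImplicit false
set_option linter.unusedSectionVars false

namespace CfsgLib.AschbacherUnitary

open Matrix CfsgLib.Aschbacher

variable {q : ℕ} {F : Type*} [Field F] [Fintype F] {σ : F ≃+* F}

/-- An adjoint-closed field of matrices is closed under the conjugate transpose. -/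
theorem conjTranspose_mem (h : IsConj q σ) {n : ℕ} {K : Subalgebra F (Matrix (Fin n) (Fin n) F)}
    (hadj : Cfsg.Geo.IsAdjointClosedFor (Cfsg.hermForm n F q) K) {k : Matrix (Fin n) (Fin n) F} (hk : k ∈ K) :
    (k.map σ)ᵀ ∈ K := by
  classical
  obtain ⟨k', hk', he⟩ := hadj k hk
  have e : k' = (k.map σ)ᵀ := by
    ext i j
    have h1 := he (Pi.single i 1) (Pi.single j 1)
    rw [h.herm_eq, h.herm_eq] at h1
    simp [Pi.single_apply, apply_ite σ, Matrix.mulVec, dotProduct] at h1
    have h2 := congrArg σ h1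
    rw [h.involutive] at h2
    simpa using h2.symm
  exact e ▸ hk'

/-- An element of order seven of the special unitary group in the field. -/
theorem exists_seven_mem (hF : Fintype.card F = q ^ 2) (h : IsConj q σ) (h2 : (2 : F) ≠ 0)
    (h7 : 7 ∣ q ^ 3 + 1) (hcop : Nat.Coprime 7 (q + 1))
    {K : Subalgebra F (Matrix (Fin 3) (Fin 3) F)} (hK : Cfsg.Geo.IsFieldSubalgebra 3 K)
    (hadj : Cfsg.Geo.IsAdjointClosedFor (Cfsg.hermForm 3 F q) K) :
    ∃ u ∈ SUn 3 F q, orderOf u = 7 ∧ mat u ∈ K := by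
  classical
  have hq := h.one_lt
  letI : CommRing K := { (inferInstance : Ring K) with mul_comm := fun a b => Subtype.ext (hK.comm a a.2 b b.2) }
  have hfield : IsField K :=
    { exists_pair_ne := ⟨0, 1, fun e => zero_ne_one (congrArg Subtype.val e : (0 : Matrix (Fin 3) (Fin 3) F) = 1)⟩
      mul_comm := fun a b => Subtype.ext (hK.comm _ a.2 _ b.2)
      mul_inv_cancel := fun {a} ha => by
        obtain ⟨y, hy, hay⟩ := hK.inv _ a.2 fun e => ha (Subtype.ext e)
        exact ⟨⟨y, hy⟩, Subtype.ext hay⟩ }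
  letI : Field K := hfield.toField
  haveI : Fintype K := Fintype.ofFinite _
  have hcardK : Nat.card K = q ^ 6 := by
    rw [Module.natCard_eq_pow_finrank (K := F), hK.finrank_eq, Nat.card_eq_fintype_card, hF, ← pow_mul]
  -- the conjugate transpose
  let τ : K →+* K :=
    { toFun := fun k => ⟨(k.1.map σ)ᵀ, conjTranspose_mem h hadj k.2⟩
      map_one' := Subtype.ext (by simp [Matrix.map_one σ (map_zero σ) (map_one σ)])
      map_mul' := fun a b => Subtype.ext (by
        show ((a.1 * b.1).map σ)ᵀ = (a.1.map σ)ᵀ * (b.1.map σ)ᵀ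
        rw [hK.comm _ a.2 _ b.2, Matrix.map_mul, Matrix.transpose_mul])
      map_zero' := Subtype.ext (by simp [Matrix.map_zero σ (map_zero σ)])
      map_add' := fun a b => Subtype.ext (by
        show ((a.1 + b.1).map σ)ᵀ = (a.1.map σ)ᵀ + (b.1.map σ)ᵀ
        rw [Matrix.map_add σ (map_add σ), Matrix.transpose_add]) }
  have hττ : ∀ k, τ (τ k) = k := fun k => Subtype.ext (Matrix.ext fun i j => h.involutive _)
  have hτalg : ∀ c : F, τ (algebraMap F K c) = algebraMap F K (σ c) := fun c => Subtype.ext (by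
    show ((algebraMap F (Matrix (Fin 3) (Fin 3) F) c).map σ)ᵀ = algebraMap F (Matrix (Fin 3) (Fin 3) F) (σ c)
    rw [Matrix.algebraMap_eq_diagonal, Matrix.algebraMap_eq_diagonal, Matrix.diagonal_map (map_zero σ),
      Matrix.diagonal_transpose]
    rfl)
  obtain ⟨z, hz0, hz⟩ := CfsgLib.MaxSub.exists_traceZero h.ne_refl h.involutive
  have hzσ : σ z = -z := hz
  set Z : K := algebraMap F K z with hZ
  have hZ0 : Z ≠ 0 := fun e => hz0 ((algebraMap F K).injective (by rw [map_zero]; exact e))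
  have hτZ : τ Z = -Z := by rw [hZ, hτalg, hzσ, map_neg]
  have h2K : (2 : K) ≠ 0 := fun e => h2 ((algebraMap F K).injective (by rw [map_ofNat, map_zero]; exact e))
  let S := {k : K // τ k = k}
  let Φ : S × S → K := fun a => a.1.1 + Z * a.2.1
  have hΦ : Function.Bijective Φ := by
    refine ⟨?_, fun k => ?_⟩
    · rintro ⟨⟨a, ha⟩, ⟨b, hb⟩⟩ ⟨⟨a', ha'⟩, ⟨b', hb'⟩⟩ e
      change a + Z * b = a' + Z * b' at e
      have e' := congrArg τ e
      rw [map_add, map_add, map_mul, map_mul, hτZ, ha, hb, ha', hb'] at e'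
      have e1 : a = a' := mul_left_cancel₀ h2K (by linear_combination e + e')
      subst e1
      have e2 : b = b' := mul_left_cancel₀ hZ0 (by linear_combination e)
      subst e2
      rfl
    · refine ⟨(⟨(k + τ k) / 2, ?_⟩, ⟨(k - τ k) / (2 * Z), ?_⟩), ?_⟩
      · rw [map_div₀, map_add, hττ, map_ofNat, add_comm]
      · rw [map_div₀, map_sub, hττ, map_mul, map_ofNat, hτZ, ← neg_sub, mul_neg, neg_div_neg_eq]
      · show (k + τ k) / 2 + Z * ((k - τ k) / (2 * Z)) = k
        field_simp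
        ring
  have hS : Nat.card S = q ^ 3 := by
    have e := Nat.card_eq_of_bijective Φ hΦ
    rw [Nat.card_prod, hcardK] at e
    exact Nat.pow_left_injective two_ne_zero
      (show Nat.card S ^ 2 = (q ^ 3) ^ 2 by rw [pow_two, e, ← pow_mul])
  let τu : Kˣ →* Kˣ := Units.map (τ : K →* K)
  let ψ : Kˣ →* Kˣ :=
    { toFun := fun k => k * (τu k)⁻¹
      map_one' := by simp
      map_mul' := fun a b => by rw [map_mul, mul_inv, mul_mul_mul_comm] }
  have hker : Nat.card ψ.ker + 1 = q ^ 3 := by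
    have hmem : ∀ k : Kˣ, k ∈ ψ.ker ↔ τ (k : K) = k := fun k => by
      rw [MonoidHom.mem_ker]
      show k * (τu k)⁻¹ = 1 ↔ _
      rw [mul_inv_eq_one]
      exact ⟨fun e => (congrArg Units.val e).symm, fun e => Units.ext e.symm⟩
    let e : ψ.ker ≃ {a : S // a.1 ≠ 0} :=
      { toFun := fun k => ⟨⟨(k.1 : K), (hmem k.1).1 k.2⟩, k.1.ne_zero⟩
        invFun := fun a => ⟨Units.mk0 a.1.1 a.2, (hmem _).2 a.1.2⟩
        left_inv := fun k => Subtype.ext (Units.ext rfl)
        right_inv := fun a => rfl }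
    haveI : Fintype S := Fintype.ofFinite _
    rw [Nat.card_congr e, Nat.card_eq_fintype_card, Fintype.card_subtype_compl,
      show Fintype.card {a : S // a.1 = 0} = 1 from Fintype.card_eq_one_iff.2
        ⟨⟨⟨0, map_zero τ⟩, rfl⟩, fun a => Subtype.ext (Subtype.ext a.2)⟩, ← Nat.card_eq_fintype_card, hS]
    have : 0 < q ^ 3 := pow_pos (by omega) 3
    omega
  have hrange : Nat.card ψ.range = q ^ 3 + 1 := by
    have e := ψ.ker.card_eq_card_quotient_mul_card_subgroup
    rw [Nat.card_congr (QuotientGroup.quotientKerEquivRange ψ).toEquiv, Nat.card_units, hcardK] at e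
    have h8 : 8 ≤ q ^ 3 := Nat.pow_le_pow_left (by omega : 2 ≤ q) 3
    set N := Nat.card ψ.ker
    set R := Nat.card ψ.range
    have e' : q ^ 6 = R * N + 1 := by
      have : 0 < q ^ 6 := pow_pos (by omega) 6
      omega
    rw [show q ^ 6 = q ^ 3 * q ^ 3 by ring, ← hker] at e'
    have h3 : R * N = (N + 2) * N := by linarith [e', show (N + 1) * (N + 1) = (N + 2) * N + 1 by ring]
    have h4 := Nat.eq_of_mul_eq_mul_right (by omega) h3
    omega
  obtain ⟨⟨r, hr⟩, hord⟩ := exists_prime_orderOf_dvd_card' (G := ψ.range) (p := 7) (hp := ⟨by norm_num⟩)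
    (by rw [hrange]; exact h7)
  rw [← Subgroup.orderOf_coe] at hord
  obtain ⟨k, hk⟩ := hr
  have hτr : τu r = r⁻¹ := by
    rw [← hk]
    show τu (k * (τu k)⁻¹) = (k * (τu k)⁻¹)⁻¹
    rw [map_mul, map_inv, _root_.mul_inv_rev, inv_inv,
      show τu (τu k) = k from Units.ext (hττ _), mul_comm]
  let φ : Kˣ →* GL (Fin 3) F := Units.map (K.val : K →* Matrix (Fin 3) (Fin 3) F)
  have hφ : Function.Injective φ := fun a b e => Units.ext (Subtype.ext (congrArg (fun x : GL (Fin 3) F => mat x) e))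
  set u := φ r with hu
  have hu7 : orderOf u = 7 := by rw [hu, orderOf_injective φ hφ, hord]
  have huU : u ∈ Cfsg.GU 3 F q := by
    rw [h.mem_GU_iff]
    have e : τ (r : K) * (r : K) = 1 := by
      have := congrArg Units.val (show τu r * r = 1 by rw [hτr, inv_mul_cancel])
      exact this
    have e1 : ((mat u).map σ)ᵀ * mat u = 1 := congrArg Subtype.val e
    have e2 := congrArg Matrix.transpose e1
    rwa [Matrix.transpose_mul, Matrix.transpose_transpose, Matrix.transpose_one] at e2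
  refine ⟨u, ⟨huU, mem_specialLinear_iff.2 ?_⟩, hu7, (r : K).2⟩
  have h1 : (mat u).det ^ 7 = 1 := by
    rw [← Matrix.det_pow, show mat u ^ 7 = mat (u ^ 7) from (Units.val_pow_eq_pow_val _ _).symm, ← hu7,
      pow_orderOf_eq_one, show mat (1 : GL (Fin 3) F) = 1 from rfl, Matrix.det_one]
  have h3 : (mat u).det ^ (q + 1) = 1 := by
    have e := congrArg Matrix.det (h.mem_GU_iff.1 huU)
    have eσ : σ (mat u).det = ((mat u).map σ).det := RingEquiv.map_det σ _
    rw [Matrix.det_mul, Matrix.det_transpose, Matrix.det_one, ← eσ, h.eq_pow] at e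
    rw [pow_succ', e]
  have := pow_gcd_eq_one.2 ⟨h1, h3⟩
  rwa [hcop.gcd_eq_one, pow_one] at this

/-- Elements of order seven are conjugate up to powers when the Sylow subgroups have order seven. -/
theorem exists_conj_seven (hcard : (Nat.card (Cfsg.GU 3 F q)).factorization 7 = 1) {x u : GL (Fin 3) F}
    (hx : x ∈ Cfsg.GU 3 F q) (hu : u ∈ Cfsg.GU 3 F q) (hx7 : orderOf x = 7) (hu7 : orderOf u = 7) :
    ∃ B ∈ Cfsg.GU 3 F q, B * x * B⁻¹ ∈ Subgroup.zpowers u := by
  haveI : Fact (Nat.Prime 7) := ⟨by norm_num⟩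
  have hcardz : ∀ (y : GL (Fin 3) F) (hy : y ∈ Cfsg.GU 3 F q), orderOf y = 7 →
      Nat.card (Subgroup.zpowers (⟨y, hy⟩ : Cfsg.GU 3 F q)) =
        7 ^ (Nat.card (Cfsg.GU 3 F q)).factorization 7 := fun y hy hy7 => by
    rw [Nat.card_zpowers, ← Subgroup.orderOf_coe, hy7, hcard, pow_one]
  let P := Sylow.ofCard _ (hcardz x hx hx7)
  let Q := Sylow.ofCard _ (hcardz u hu hu7)
  obtain ⟨B, hB⟩ := MulAction.exists_smul_eq (Cfsg.GU 3 F q) P Q
  refine ⟨B, B.2, ?_⟩
  have hxB : B * (⟨x, hx⟩ : Cfsg.GU 3 F q) * B⁻¹ ∈ (Q : Subgroup (Cfsg.GU 3 F q)) := by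
    rw [← hB, Sylow.coe_subgroup_smul]
    exact ⟨⟨x, hx⟩, Subgroup.mem_zpowers _, rfl⟩
  obtain ⟨k, hk⟩ := Subgroup.mem_zpowers_iff.1 hxB
  exact Subgroup.mem_zpowers_iff.2 ⟨k, congrArg Subtype.val hk⟩

end CfsgLib.AschbacherUnitary
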