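import Cfsg.Agent.AschbacherUnitary.ThreeSmallData
import Cfsg.Agent.AschbacherUnitary.ThreeFieldElement
import Cfsg.Agent.AschbacherUnitary.FourSmall
import Cfsg.Agent.MaxSub.QuadraticBasic

/-!
The configurations of the three-dimensional unitary groups over 9 and 25 elements which give no maximal subgroup.
-/

set_option autoImplicit false
set_option linter.unusedSectionVars false

namespace CfsgLib.AschbacherUnitary.ThreeSmall

open Matrix CfsgLib.Aschbacher CfsgLib.AschbacherUnitary CfsgLib.AschbacherUnitary.Codes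
open scoped commutatorElement

variable {F : Type*} [Field F] [Fintype F] {σ : F ≃+* F}

theorem coded_five (hF : Fintype.card F = 5 ^ 2) (h : IsConj 5 σ) : ∃ w, Coded 5 2 σ w :=
  exists_coded (by norm_num) (by norm_num) hF h (by decide)

theorem coded_three (hF : Fintype.card F = 3 ^ 2) (h : IsConj 3 σ) : ∃ w, Coded 3 2 σ w :=
  exists_coded (by norm_num) (by norm_num) hF h (by decide)

/-- An element of the overgroup from its certificate. -/
theorem exists_mem_of_cert {p d : ℕ} {w : F} (C : Coded p d σ w) {pts : List V} (hpts : goodPts p pts = true)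
    {m : M} (hm : isSU p d m = true) (hs : stable p d pts m = true) :
    ∃ g ∈ kGrp p w pts, mat g = dm p w m := by
  obtain ⟨g, hg, hgm⟩ := exists_su C hm
  exact ⟨g, mem_kGrp C hpts hg hgm hs, hgm⟩

theorem conj_conj_eq {G : Type*} [Group G] (B k : G) : B⁻¹ * (B * k * B⁻¹) * B = k := by group

theorem lines_five (hF : Fintype.card F = 5 ^ 2) (h : IsConj 5 σ) {H : Subgroup (GL (Fin 3) F)}
    (hH : Cfsg.Geo.IsMaximalIn (SUn 3 F 5) H) {D : Fin 3 → Submodule F (Fin 3 → F)}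
    (hD : Cfsg.Geo.IsNondegenerateMDecomposition (Cfsg.hermForm 3 F 5) 1 D)
    (hle : H ≤ Cfsg.Geo.decompositionStabilizer D) : False := by
  obtain ⟨w, C⟩ := coded_five hF h
  obtain ⟨B, hB, hBD⟩ := exists_orthonormal h hD
  have ho := outA_ok
  simp only [Bool.and_eq_true] at ho
  have hk := lineK_ok
  simp only [Bool.and_eq_true, Bool.not_eq_true'] at hk
  obtain ⟨k, hkK, hkm⟩ := exists_mem_of_cert C goodA hk.1.1 hk.1.2
  refine not_maximal_of_overgroup hH (kGrp_lt C ho.1 ho.2) hB (fun g hg => ?_) hkK fun hkH => ?_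
  · refine mon_mem C goodA monA ?_ (isMon_of_frame hBD (hle hg))
    have := mat_mem_of_conj (inv_mem hB) (hH.1.le hg)
    rwa [inv_inv] at this
  · obtain ⟨j, c, hjc⟩ := (isMon_of_frame hBD (hle hkH)) 0
    rw [conj_conj_eq, hkm] at hjc
    have e : dv 5 w (mvC 5 2 lineK (5, 0, 0)) = c • Pi.single j 1 := by
      rw [dv_mvC C, show dv 5 w (5, 0, 0) = Pi.single 0 1 from funext fun i => by
        fin_cases i <;> simp [dv, dec_one C, dec_zero]]
      exact hjc
    have hv := isV_mvC (d := 2) (p := 5) (by norm_num) lineK (5, 0, 0)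
    simp only [isV, Bool.and_eq_true, decide_eq_true_eq] at hv
    have hz : ∀ i, i ≠ j → dv 5 w (mvC 5 2 lineK (5, 0, 0)) i = 0 := fun i hi => by rw [e]; simp [hi]
    have hcoord : ∀ x, x < 5 * 5 → dec 5 w x = 0 → x = 0 := fun x hx hx0 =>
      dec_injective C hx (by norm_num) (hx0.trans dec_zero.symm)
    have hax : axis (mvC 5 2 lineK (5, 0, 0)) = true := by
      simp only [axis, Bool.or_eq_true, Bool.and_eq_true, beq_iff_eq]
      fin_cases j
      · exact Or.inr ⟨hcoord _ hv.1.2 (hz 1 (by decide)), hcoord _ hv.2 (hz 2 (by decide))⟩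
      · exact Or.inl (Or.inr ⟨hcoord _ hv.1.1 (hz 0 (by decide)), hcoord _ hv.2 (hz 2 (by decide))⟩)
      · exact Or.inl (Or.inl ⟨hcoord _ hv.1.1 (hz 0 (by decide)), hcoord _ hv.1.2 (hz 1 (by decide))⟩)
    rw [hax] at hk
    exact Bool.noConfusion hk.2

/-- The common argument for the cubic fields. -/
theorem field_common {q : ℕ} {w : F} (C : Coded q 2 σ w) (h7 : 7 ∣ q ^ 3 + 1) (hcop : Nat.Coprime 7 (q + 1))
    (hcard : (Nat.card (Cfsg.GU 3 F q)).factorization 7 = 1) {pts : List V} (hpts : goodPts q pts = true)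
    {out : M} {at₀ : V} (ho : (isSU q 2 out && moves q 2 pts out at₀) = true) {X Y Binv K₀ : M}
    (hok : fieldOK q 2 pts X Y Binv = true)
    (hk : (isSU q 2 K₀ && stable q 2 pts K₀ && mmC q 2 (mmC q 2 (mmC q 2 K₀ X) (starC q K₀)) X !=
      mmC q 2 X (mmC q 2 (mmC q 2 K₀ X) (starC q K₀))) = true)
    (hX7 : mmC q 2 X (mmC q 2 (mmC q 2 (mmC q 2 X X) (mmC q 2 X X)) (mmC q 2 X X)) = oneM q)
    (hX1 : X ≠ oneM q) (hXv : isM q X = true)
    {H : Subgroup (GL (Fin 3) F)} (hH : Cfsg.Geo.IsMaximalIn (SUn 3 F q) H)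
    {K : Subalgebra F (Matrix (Fin 3) (Fin 3) F)} (hK : Cfsg.Geo.IsFieldSubalgebra 3 K)
    (hadj : Cfsg.Geo.IsAdjointClosedFor (Cfsg.hermForm 3 F q) K)
    (hle : H ≤ Cfsg.Geo.subalgebraNormalizer K) : False := by
  have h2 : (2 : F) ≠ 0 := CfsgLib.MaxSub.two_ne_zero_of_odd (by
    rw [C.card_eq]
    exact (C.prime.odd_of_ne_two (by have := C.two_lt; omega)).pow)
  simp only [Bool.and_eq_true, bne_iff_ne] at ho hk
  have hXsu : isSU q 2 X = true := by
    simp only [fieldOK, Bool.and_eq_true] at hok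
    exact hok.1.1.1.1.1
  obtain ⟨x, hx, hxm⟩ := exists_su C hXsu
  have hXM : isM q X = true := hXv
  have hx7 : orderOf x = 7 := by
    haveI : Fact (Nat.Prime 7) := ⟨by norm_num⟩
    refine orderOf_eq_prime (Units.ext ?_) fun e => hX1 (dm_injective C hXM (isM_oneM C) ?_)
    · show mat (x ^ 7) = 1
      rw [show x ^ 7 = x * (x * x * (x * x) * (x * x)) by simp only [pow_succ, pow_zero, one_mul, mul_assoc]]
      simp only [mat, Units.val_mul]
      rw [show ((x : GL (Fin 3) F) : Matrix (Fin 3) (Fin 3) F) = dm q w X from hxm, ← dm_mmC C, ← dm_mmC C, ← dm_mmC C,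
        ← dm_mmC C, hX7, dm_oneM C]
    · rw [← hxm, e, dm_oneM C]; rfl
  obtain ⟨u, hu, hu7, huK⟩ := exists_seven_mem C.card_eq C.isConj h2 h7 hcop hK hadj
  obtain ⟨B, hB, hBx⟩ := exists_conj_seven hcard hx.1 hu.1 hx7 hu7
  -- the transported field
  let c : Matrix (Fin 3) (Fin 3) F →ₐ[F] Matrix (Fin 3) (Fin 3) F :=
    { toFun := fun k => mat B * k * mat B⁻¹
      map_one' := by rw [mul_one, mat_mul_inv]
      map_mul' := fun a b => by
        simp only [mat]
        simp [mul_assoc]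
      map_zero' := by simp
      map_add' := fun a b => by rw [mul_add, add_mul]
      commutes' := fun r => by
        simp only [Algebra.algebraMap_eq_smul_one, Matrix.mul_smul, mul_one, Matrix.smul_mul, mat_mul_inv] }
  let K' := K.comap c
  have hcomm : ∀ a ∈ K', ∀ b ∈ K', a * b = b * a := fun a ha b hb => by
    have e := hK.comm _ ha _ hb
    rw [← map_mul, ← map_mul] at e
    have e' := congrArg (fun X => mat B⁻¹ * X * mat B) e
    simpa [c, mat, mul_assoc] using e'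
  have hX : dm q w X ∈ K' := by
    show mat B * dm q w X * mat B⁻¹ ∈ K
    rw [← hxm]
    obtain ⟨k, hk'⟩ := Subgroup.mem_zpowers_iff.1 hBx
    rw [show mat B * mat x * mat B⁻¹ = mat (B * x * B⁻¹) by simp [mat], ← hk']
    have hmod : u ^ k = u ^ (k % (7 : ℤ)).toNat := by
      rw [← zpow_natCast, Int.toNat_of_nonneg (Int.emod_nonneg _ (by norm_num))]
      conv_lhs => rw [← zpow_mod_orderOf, hu7]
      rfl
    rw [hmod, show mat (u ^ (k % (7 : ℤ)).toNat) = mat u ^ (k % (7 : ℤ)).toNat from Units.val_pow_eq_pow_val _ _]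
    exact K.pow_mem huK _
  have hnorm : ∀ g ∈ Cfsg.Geo.subalgebraNormalizer K, B⁻¹ * g * B ∈ Cfsg.Geo.subalgebraNormalizer K' := by
    intro g hg k
    show mat B * k * mat B⁻¹ ∈ K ↔ mat B * (mat (B⁻¹ * g * B) * k * mat (B⁻¹ * g * B)⁻¹) * mat B⁻¹ ∈ K
    rw [hg (mat B * k * mat B⁻¹)]
    simp [mat, mul_assoc]
  obtain ⟨k, hkK, hkm⟩ := exists_mem_of_cert C hpts hk.1.1 hk.1.2
  refine not_maximal_of_overgroup hH (kGrp_lt C ho.1 ho.2) hB (fun g hg => ?_) hkK fun hkH => ?_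
  · refine field_mem C hpts hok hcomm hX ?_ (hnorm g (hle hg))
    have := mat_mem_of_conj (inv_mem hB) (hH.1.le hg)
    rwa [inv_inv] at this
  · have hn := hnorm _ (hle hkH)
    rw [conj_conj_eq] at hn
    have h1 := hcomm _ ((hn _).1 hX) _ hX
    refine hk.2 (dm_injective C (isM_mmC C.prime.pos _ _) (isM_mmC C.prime.pos _ _) ?_)
    simp only [dm_mmC C, dm_starC C, ← hkm, ← inv_eq_star C hkK.2.1]
    exact h1

theorem field_five (hF : Fintype.card F = 5 ^ 2) (h : IsConj 5 σ) {H : Subgroup (GL (Fin 3) F)}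
    (hH : Cfsg.Geo.IsMaximalIn (SUn 3 F 5) H) {K : Subalgebra F (Matrix (Fin 3) (Fin 3) F)}
    (hK : Cfsg.Geo.IsFieldSubalgebra 3 K)
    (hadj : Cfsg.Geo.IsAdjointClosedFor (Cfsg.hermForm 3 F 5) K)
    (hle : H ≤ Cfsg.Geo.subalgebraNormalizer K) : False := by
  obtain ⟨w, C⟩ := coded_five hF h
  refine field_common C (by norm_num) (by norm_num) ?_ goodA outA_ok fieldA fieldK_ok (by decide +kernel)
    (by decide +kernel) (by decide +kernel) hH hK hadj hle
  rw [CfsgLib.Forms.card_GU hF 3]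
  norm_num [Finset.sum_range_succ, Finset.prod_range_succ, CfsgLib.Forms.u, Nat.even_iff]
  rw [show 2268000 = 7 * 324000 by norm_num, Nat.factorization_mul (by norm_num) (by norm_num), Finsupp.add_apply,
    Nat.Prime.factorization_self (by norm_num), Nat.factorization_eq_zero_of_not_dvd (by norm_num)]

theorem field_three (hF : Fintype.card F = 3 ^ 2) (h : IsConj 3 σ) {H : Subgroup (GL (Fin 3) F)}
    (hH : Cfsg.Geo.IsMaximalIn (SUn 3 F 3) H) {K : Subalgebra F (Matrix (Fin 3) (Fin 3) F)}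
    (hK : Cfsg.Geo.IsFieldSubalgebra 3 K)
    (hadj : Cfsg.Geo.IsAdjointClosedFor (Cfsg.hermForm 3 F 3) K)
    (hle : H ≤ Cfsg.Geo.subalgebraNormalizer K) : False := by
  obtain ⟨w, C⟩ := coded_three hF h
  refine field_common C (by norm_num) (by norm_num) ?_ goodL outL_ok fieldL nineK_ok (by decide +kernel)
    (by decide +kernel) (by decide +kernel) hH hK hadj hle
  rw [CfsgLib.Forms.card_GU hF 3]
  norm_num [Finset.sum_range_succ, Finset.prod_range_succ, CfsgLib.Forms.u, Nat.even_iff]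
  rw [show 24192 = 7 * 3456 by norm_num, Nat.factorization_mul (by norm_num) (by norm_num), Finsupp.add_apply,
    Nat.Prime.factorization_self (by norm_num), Nat.factorization_eq_zero_of_not_dvd (by norm_num)]

theorem orth_five (hF : Fintype.card F = 5 ^ 2) (h : IsConj 5 σ) {H : Subgroup (GL (Fin 3) F)}
    (hH : Cfsg.Geo.IsMaximalIn (SUn 3 F 5) H) {F₁ : Subfield F} {P : GL (Fin 3) F}
    (hcard : Fintype.card F = Nat.card F₁ ^ 2)
    (hP : Cfsg.Geo.IsFormRationalStructure (Cfsg.hermForm 3 F 5) F₁ 1 P)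
    (hle : H ≤ Cfsg.Geo.subfieldSubgroup F₁ P) : False := by
  obtain ⟨w, C⟩ := coded_five hF h
  have h2 : (2 : F) ≠ 0 := CfsgLib.MaxSub.two_ne_zero_of_odd (by rw [hF]; decide)
  obtain ⟨B, hB, hBg⟩ := exists_orth_basis hF h h2 hcard hP
  have ho := outA_ok
  simp only [Bool.and_eq_true] at ho
  have hk := orthK_ok
  simp only [Bool.and_eq_true] at hk
  obtain ⟨k, hkK, hkm⟩ := exists_mem_of_cert C goodA hk.1.1 hk.1.2
  refine not_maximal_of_overgroup hH (kGrp_lt C ho.1 ho.2) hB (fun g hg => ?_) hkK fun hkH => ?_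
  · obtain ⟨c, hc, hrat⟩ := hBg g (hle hg)
    have hgSU : B⁻¹ * g * B ∈ SUn 3 F 5 := by
      have := mat_mem_of_conj (inv_mem hB) (hH.1.le hg)
      rwa [inv_inv] at this
    obtain ⟨t, ht, hmon⟩ := orth_mon C orthA hgSU.1 hc hrat
    have hT := List.all_eq_true.1 orthT_ok t ht
    simp only [Bool.and_eq_true] at hT
    obtain ⟨gt, hgt, hgtm⟩ := exists_su C hT.1
    have h1 := mon_mem C goodA monA (mul_mem hgt hgSU) (hmon gt hgt hgtm)
    have h2 := mul_mem (inv_mem (mem_kGrp C goodA hgt hgtm hT.2)) h1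
    rwa [inv_mul_cancel_left] at h2
  · obtain ⟨c, hc, hrat⟩ := hBg _ (hle hkH)
    rw [conj_conj_eq, hkm] at hrat
    obtain ⟨l, hl, rfl⟩ := dec_surjective C c
    have hall := List.all_eq_true.1 hk.2 l (List.mem_range.2 (by simpa using hl))
    have hl0 : l ≠ 0 := fun e => hc (by rw [e, dec_zero])
    simp only [Bool.or_eq_true, beq_iff_eq, Bool.not_eq_true', hl0, false_or, Bool.and_eq_false_iff] at hall
    have hmem : ∀ x, σ (dec 5 w l * dec 5 w x) = dec 5 w l * dec 5 w x →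
        (rats 5).contains (mulC 5 2 l x) = true := fun x hx => by
      rw [← dec_mul C] at hx
      obtain ⟨i, hi, he⟩ := exists_rat C hx
      have hi' : i < 5 * 5 := by
        simp only [rats, List.mem_map, List.mem_range] at hi
        obtain ⟨a, ha, rfl⟩ := hi
        omega
      rw [List.contains_eq_mem, decide_eq_true_eq, ← dec_injective C hi' (mulC_lt (by norm_num) _ _) he]
      exact hi
    rcases hall with e | e
    · rw [hmem _ (hrat 0 0)] at e; exact Bool.noConfusion e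
    · rw [hmem _ (hrat 2 2)] at e; exact Bool.noConfusion e

/-- Over nine elements an orthogonal subfield group stabilises a frame. -/
theorem orth_three (hF : Fintype.card F = 3 ^ 2) (h : IsConj 3 σ) {H : Subgroup (GL (Fin 3) F)}
    (hH : H ≤ SUn 3 F 3) {F₁ : Subfield F} {P : GL (Fin 3) F}
    (hcard : Fintype.card F = Nat.card F₁ ^ 2)
    (hP : Cfsg.Geo.IsFormRationalStructure (Cfsg.hermForm 3 F 3) F₁ 1 P)
    (hle : H ≤ Cfsg.Geo.subfieldSubgroup F₁ P) :
    ∃ D : Fin 3 → Submodule F (Fin 3 → F),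
      Cfsg.Geo.IsNondegenerateMDecomposition (Cfsg.hermForm 3 F 3) 1 D ∧
        H ≤ Cfsg.Geo.decompositionStabilizer D := by
  obtain ⟨w, C⟩ := coded_three hF h
  have h2 : (2 : F) ≠ 0 := CfsgLib.MaxSub.two_ne_zero_of_odd (by rw [hF]; decide)
  obtain ⟨B, hB, hBg⟩ := exists_orth_basis hF h h2 hcard hP
  have hx : ∀ i j, Cfsg.hermForm 3 F 3 (mat B *ᵥ Pi.single i 1) (mat B *ᵥ Pi.single j 1) =
      if i = j then 1 else 0 := fun i j => by
    rw [CfsgLib.MaxSub.mem_GU_iff_forall.1 hB, h.herm_eq]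
    simp [Pi.single_apply, apply_ite σ, eq_comm]
  have hD := lines_of_orthonormal h (by norm_num) hx
  refine ⟨_, hD, fun g hg => CfsgLib.Aschbacher.mem_decompositionStabilizer_of hD.decomp fun i => ?_⟩
  obtain ⟨c, hc, hrat⟩ := hBg g (hle hg)
  have hgU : B⁻¹ * g * B ∈ Cfsg.GU 3 F 3 := mul_mem (mul_mem (inv_mem hB) (hH hg).1) hB
  obtain ⟨t, ht, hmon⟩ := orth_mon C orthL hgU hc hrat
  rw [List.mem_singleton] at ht
  subst ht
  have hm := hmon 1 (one_mem _) (by rw [dm_oneM C]; rfl)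
  rw [one_mul] at hm
  obtain ⟨j, e, hje⟩ := hm i
  refine ⟨j, fun y hy => ?_⟩
  obtain ⟨l, rfl⟩ := Submodule.mem_span_singleton.1 hy
  rw [Matrix.mulVec_smul]
  refine Submodule.smul_mem _ _ (Submodule.mem_span_singleton.2 ⟨e, ?_⟩)
  have e1 := congrArg (mat B *ᵥ ·) hje
  simp only [Matrix.mulVec_smul, Matrix.mulVec_mulVec, mat, ← Units.val_mul] at e1 ⊢
  rw [← e1, ← mul_assoc, ← mul_assoc, mul_inv_cancel, one_mul]

theorem ext_five (hF : Fintype.card F = 5 ^ 2) (h : IsConj 5 σ) {H : Subgroup (GL (Fin 3) F)}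
    (hH : Cfsg.Geo.IsMaximalIn (SUn 3 F 5) H) {R : Subgroup (GL (Fin 3) F)}
    (hR : Cfsg.Geo.IsSymplecticTypeGroup 3 R)
    (habs : Cfsg.Geo.ActsAbsolutelyIrreducibly (Cfsg.Geo.matrixSet R)) (hRU : R ≤ Cfsg.GU 3 F 5)
    (hcomm : ⁅R, R⁆ ≤ Cfsg.Geo.scalars (Fin 3) F) (hle : H ≤ Cfsg.Geo.subgroupNormalizer R) : False := by
  obtain ⟨w, C⟩ := coded_five hF h
  have he : (mmC 5 2 extA (mmC 5 2 extA extA) == oneM 5 && isDiagC extA && (extA.1.1 == 5) &&
      (extA.2.2.2.2 == mulC 5 2 extA.2.1.2.1 extA.2.1.2.1) && isM 5 extA && isM 5 extB &&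
      (extA.2.1.2.1 != 5)) = true ∧ mvC 5 2 extB (5, 0, 0) = (0, 5, 0) ∧ mvC 5 2 extB (0, 5, 0) = (0, 0, 5) ∧
      mvC 5 2 extB (0, 0, 5) = (5, 0, 0) := by decide +kernel
  simp only [Bool.and_eq_true, beq_iff_eq, bne_iff_ne] at he
  obtain ⟨⟨⟨⟨⟨⟨⟨hA3, hAd⟩, hA0⟩, hA2⟩, hAM⟩, -⟩, hA1⟩, hB0, hB1, hB2⟩ := he
  set ω := dec 5 w extA.2.1.2.1 with hω
  have hAdiag : dm 5 w extA = Matrix.diagonal ![1, ω, ω ^ 2] := by
    rw [dm_diag _ hAd, hA0, hA2, dec_one C, dec_mul C, pow_two]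
  have hω3 : ω ^ 3 = 1 := by
    have e := congrFun (congrFun (congrArg (dm 5 w) hA3) 1) 1
    rw [dm_mmC C, dm_mmC C, hAdiag, dm_oneM C, Matrix.diagonal_mul_diagonal, Matrix.diagonal_mul_diagonal] at e
    simp at e
    linear_combination e
  have hω1 : ω ≠ 1 := fun e => hA1 (by
    simp only [isM, isV, Bool.and_eq_true, decide_eq_true_eq] at hAM
    exact dec_injective C hAM.1.2.1.2 (p_lt C) (e.trans (dec_one C).symm))
  obtain ⟨B, hB, ga, hga, gb, hgb, hga', hgb'⟩ := exists_ext_basis h hω3 hω1 hR habs hRU hcomm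
  set φ := (MulAut.conj B⁻¹).toMonoidHom with hφ
  have hφx : ∀ x, φ x = B⁻¹ * x * B := fun x => by simp [hφ]
  set R' := R.map φ with hR'
  have hR'U : R' ≤ Cfsg.GU 3 F 5 := by
    rintro _ ⟨x, hx, rfl⟩
    rw [hφx]
    exact mul_mem (mul_mem (inv_mem hB) (hRU hx)) hB
  have hcube : ∀ x ∈ R', x ^ 3 = 1 := by
    rintro _ ⟨x, hx, rfl⟩
    have e := Monoid.pow_exponent_eq_one (⟨x, hx⟩ : R)
    rw [hR.exponent_eq, show 3 * Nat.gcd 2 3 = 3 from rfl] at e
    rw [← map_pow, show x ^ 3 = 1 from congrArg Subtype.val e, map_one]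
  have hcomm' : ⁅R', R'⁆ ≤ Cfsg.Geo.scalars (Fin 3) F := by
    rw [hR', ← Subgroup.map_commutator]
    rintro _ ⟨x, hx, rfl⟩
    rw [hφx, mul_assoc, scalars_comm (hcomm hx), inv_mul_cancel_left]
    exact hcomm hx
  have hinj : Function.Injective ![(1 : F), ω, ω ^ 2] := by
    have hω0 : ω ≠ 0 := fun e => by rw [e] at hω3; simp at hω3
    have h21 : ω ^ 2 ≠ 1 := fun e => hω1 (by linear_combination hω3 - ω * e)
    have h12 : ω ^ 2 ≠ ω := fun e => hω1 (mul_left_cancel₀ hω0 (by linear_combination e))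
    intro i j e
    fin_cases i <;> fin_cases j <;> first
      | rfl
      | exact absurd e hω1
      | exact absurd e.symm hω1
      | exact absurd e h21
      | exact absurd e.symm h21
      | exact absurd e h12
      | exact absurd e.symm h12
  have hgaR : B⁻¹ * ga * B ∈ R' := ⟨ga, hga, hφx ga⟩
  have hgbR : B⁻¹ * gb * B ∈ R' := ⟨gb, hgb, hφx gb⟩
  have hgam : mat (B⁻¹ * ga * B) = dm 5 w extA := by rw [hga', hAdiag]
  have hgbm : mat (B⁻¹ * gb * B) = dm 5 w extB := by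
    apply Matrix.toLin'.injective
    apply LinearMap.pi_ext'
    intro i
    refine LinearMap.ext_ring ?_
    simp only [LinearMap.comp_apply, LinearMap.single_apply, Matrix.toLin'_apply]
    have e5 : ∀ i : Fin 3, (Pi.single i 1 : Fin 3 → F) =
        dv 5 w (![(5, 0, 0), (0, 5, 0), (0, 0, 5)] i) := fun i => by
      funext r; fin_cases i <;> fin_cases r <;> simp [dv, dec_one C, dec_zero]
    rw [hgb', e5 (i + 1), e5 i, ← dv_mvC C]
    fin_cases i
    · exact congrArg (dv 5 w) hB0.symm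
    · exact congrArg (dv 5 w) hB1.symm
    · exact congrArg (dv 5 w) hB2.symm
  have hnorm : ∀ g ∈ Cfsg.Geo.subgroupNormalizer R, ∀ x ∈ R',
      (B⁻¹ * g * B)⁻¹ * x * (B⁻¹ * g * B) ∈ R' := by
    intro g hg x hx
    obtain ⟨y, hy, rfl⟩ := hx
    refine ⟨g⁻¹ * y * g, ?_, by simp only [hφx]; group⟩
    have := (Subgroup.mem_set_normalizer_iff.1 (inv_mem hg) y).1 hy
    simpa using this
  have ho := outM_ok
  simp only [Bool.and_eq_true] at ho
  have hk := extK_ok
  simp only [Bool.and_eq_true, Bool.not_eq_true'] at hk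
  obtain ⟨k, hkK, hkm⟩ := exists_mem_of_cert C goodM hk.1.1 hk.1.2
  refine not_maximal_of_overgroup hH (kGrp_lt C ho.1 ho.2) hB (fun g hg => ?_) hkK fun hkH => ?_
  · refine ext_mem C goodM extM hAdiag hinj hR'U hcube hcomm' hgaR hgbR hgam hgbm ?_ (hnorm g (hle hg))
    have := mat_mem_of_conj (inv_mem hB) (hH.1.le hg)
    rwa [inv_inv] at this
  · have hx := hnorm _ (hle hkH) _ hgaR
    rw [conj_conj_eq] at hx
    obtain ⟨m, hm, hxm⟩ := ext_list C extM hAdiag hinj hR'U hcube hcomm' hgaR hgbR hgam hgbm hx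
    have e : mmC 5 2 (mmC 5 2 (starC 5 extK) extA) extK = m := by
      refine dm_injective C (isM_mmC (by norm_num) _ _) hm.2 ?_
      rw [dm_mmC C, dm_mmC C, dm_starC C, ← hkm, ← inv_eq_star C hkK.2.1, ← hgam, ← hxm]
      simp [mat, mul_assoc]
    rw [e, List.contains_eq_mem, decide_eq_false_iff_not] at hk
    exact hk.2 hm.1

end CfsgLib.AschbacherUnitary.ThreeSmall
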