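import Cfsg.Agent.AschbacherUnitary.ThreeCert2

/-!
Point lists and certificates for the small three-dimensional unitary groups.
-/

set_option autoImplicit false
set_option maxRecDepth 100000
set_option maxHeartbeats 2000000

namespace CfsgLib.AschbacherUnitary.ThreeSmall

open CfsgLib.AschbacherUnitary.Codes

/-- The points of a triple cover of the alternating group of degree seven. -/
def ptsA : List V := [
  (0, 0, 5), (0, 5, 0), (0, 5, 5), (0, 5, 12), (0, 5, 13), (0, 5, 17),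
  (0, 5, 18), (0, 5, 20), (5, 0, 0), (5, 0, 5), (5, 0, 12), (5, 0, 13),
  (5, 0, 17), (5, 0, 18), (5, 0, 20), (5, 1, 1), (5, 1, 4), (5, 2, 5),
  (5, 2, 20), (5, 3, 5), (5, 3, 20), (5, 4, 1), (5, 4, 4), (5, 5, 0),
  (5, 5, 2), (5, 5, 3), (5, 5, 5), (5, 5, 10), (5, 5, 15), (5, 5, 20),
  (5, 6, 9), (5, 6, 13), (5, 6, 17), (5, 6, 21), (5, 7, 8), (5, 7, 22),
  (5, 8, 7), (5, 8, 23), (5, 9, 6), (5, 9, 12), (5, 9, 18), (5, 9, 24),
  (5, 10, 5), (5, 10, 10), (5, 10, 15), (5, 10, 20), (5, 11, 13), (5, 11, 17),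
  (5, 12, 0), (5, 12, 9), (5, 12, 13), (5, 12, 14), (5, 12, 16), (5, 12, 17),
  (5, 12, 21), (5, 13, 0), (5, 13, 6), (5, 13, 11), (5, 13, 12), (5, 13, 18),
  (5, 13, 19), (5, 13, 24), (5, 14, 12), (5, 14, 18), (5, 15, 5), (5, 15, 10),
  (5, 15, 15), (5, 15, 20), (5, 16, 12), (5, 16, 18), (5, 17, 0), (5, 17, 6),
  (5, 17, 11), (5, 17, 12), (5, 17, 18), (5, 17, 19), (5, 17, 24), (5, 18, 0),
  (5, 18, 9), (5, 18, 13), (5, 18, 14), (5, 18, 16), (5, 18, 17), (5, 18, 21),
  (5, 19, 13), (5, 19, 17), (5, 20, 0), (5, 20, 2), (5, 20, 3), (5, 20, 5),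
  (5, 20, 10), (5, 20, 15), (5, 20, 20), (5, 21, 6), (5, 21, 12), (5, 21, 18),
  (5, 21, 24), (5, 22, 7), (5, 22, 23), (5, 23, 8), (5, 23, 22), (5, 24, 9),
  (5, 24, 13), (5, 24, 17), (5, 24, 21)]

/-- The points of a triple cover of the Mathieu group of degree ten. -/
def ptsM : List V := [
  (0, 5, 17), (0, 5, 18), (0, 5, 20), (5, 0, 17), (5, 0, 18), (5, 0, 20),
  (5, 1, 22), (5, 2, 12), (5, 3, 12), (5, 4, 8), (5, 5, 11), (5, 5, 18),
  (5, 5, 19), (5, 5, 24), (5, 6, 15), (5, 7, 7), (5, 8, 4), (5, 9, 9),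
  (5, 10, 12), (5, 11, 5), (5, 12, 2), (5, 12, 3), (5, 12, 10), (5, 12, 20),
  (5, 13, 14), (5, 13, 16), (5, 13, 17), (5, 13, 21), (5, 14, 13), (5, 15, 6),
  (5, 16, 13), (5, 17, 0), (5, 17, 13), (5, 17, 17), (5, 18, 0), (5, 18, 5),
  (5, 18, 20), (5, 19, 5), (5, 20, 0), (5, 20, 12), (5, 20, 18), (5, 21, 13),
  (5, 22, 1), (5, 23, 23), (5, 24, 5)]

/-- The points of the simple group of order 168. -/
def ptsL : List V := [
  (0, 0, 3), (0, 3, 0), (0, 3, 1), (0, 3, 2), (3, 0, 0), (3, 0, 3),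
  (3, 0, 6), (3, 1, 0), (3, 1, 5), (3, 1, 7), (3, 2, 0), (3, 2, 5),
  (3, 2, 7), (3, 4, 3), (3, 4, 6), (3, 5, 4), (3, 5, 8), (3, 7, 4),
  (3, 7, 8), (3, 8, 3), (3, 8, 6)]

/-- An element moving a point off the list. -/
def outA : M := ((1, 2, 12), (21, 20, 13), (24, 7, 9))

/-- The moved point. -/
def atA : V := (0, 0, 5)

/-- An element moving a point off the list. -/
def outM : M := ((2, 8, 18), (22, 10, 10), (5, 21, 20))

/-- The moved point. -/
def atM : V := (0, 5, 17)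

/-- An element moving a point off the list. -/
def outL : M := ((8, 0, 4), (4, 0, 4), (0, 2, 0))

/-- The moved point. -/
def atL : V := (0, 0, 3)

/-- An element of order seven. -/
def xA : M := ((0, 1, 7), (1, 21, 6), (23, 24, 15))

/-- An element squaring it by conjugation. -/
def yA : M := ((1, 9, 6), (0, 23, 22), (4, 9, 6))

/-- The inverse basis change. -/
def binvA : M := ((5, 24, 21), (0, 4, 22), (0, 16, 3))

/-- An element of order seven. -/
def xL : M := ((3, 1, 4), (4, 5, 0), (3, 1, 8))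

/-- An element squaring it by conjugation. -/
def yL : M := ((0, 1, 0), (0, 0, 1), (6, 0, 0))

/-- The inverse basis change. -/
def binvL : M := ((3, 1, 2), (0, 8, 5), (0, 8, 2))

/-- Coset representatives of the monomial orthogonal group. -/
def orthT : List M := [
  ((0, 0, 20), (0, 5, 0), (5, 0, 0)),
  ((5, 5, 10), (5, 10, 5), (10, 5, 5)),
  ((5, 10, 20), (5, 5, 15), (10, 5, 20)),
  ((5, 15, 5), (5, 20, 10), (10, 20, 5)),
  ((5, 20, 15), (5, 15, 20), (10, 20, 20))]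

/-- The diagonal generator. -/
def extA : M := ((5, 0, 0), (0, 12, 0), (0, 0, 13))

/-- The cyclic generator. -/
def extB : M := ((0, 0, 5), (5, 0, 0), (0, 5, 0))

/-- The extraspecial group. -/
def extR : List M := [
  ((0, 0, 5), (5, 0, 0), (0, 5, 0)), ((0, 0, 5), (12, 0, 0), (0, 13, 0)),
  ((0, 0, 5), (13, 0, 0), (0, 12, 0)), ((0, 0, 12), (5, 0, 0), (0, 13, 0)),
  ((0, 0, 12), (12, 0, 0), (0, 12, 0)), ((0, 0, 12), (13, 0, 0), (0, 5, 0)),
  ((0, 0, 13), (5, 0, 0), (0, 12, 0)), ((0, 0, 13), (12, 0, 0), (0, 5, 0)),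
  ((0, 0, 13), (13, 0, 0), (0, 13, 0)), ((0, 5, 0), (0, 0, 5), (5, 0, 0)),
  ((0, 5, 0), (0, 0, 12), (13, 0, 0)), ((0, 5, 0), (0, 0, 13), (12, 0, 0)),
  ((0, 12, 0), (0, 0, 5), (13, 0, 0)), ((0, 12, 0), (0, 0, 12), (12, 0, 0)),
  ((0, 12, 0), (0, 0, 13), (5, 0, 0)), ((0, 13, 0), (0, 0, 5), (12, 0, 0)),
  ((0, 13, 0), (0, 0, 12), (5, 0, 0)), ((0, 13, 0), (0, 0, 13), (13, 0, 0)),
  ((5, 0, 0), (0, 5, 0), (0, 0, 5)), ((5, 0, 0), (0, 12, 0), (0, 0, 13)),
  ((5, 0, 0), (0, 13, 0), (0, 0, 12)), ((12, 0, 0), (0, 5, 0), (0, 0, 13)),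
  ((12, 0, 0), (0, 12, 0), (0, 0, 12)), ((12, 0, 0), (0, 13, 0), (0, 0, 5)),
  ((13, 0, 0), (0, 5, 0), (0, 0, 12)), ((13, 0, 0), (0, 12, 0), (0, 0, 5)),
  ((13, 0, 0), (0, 13, 0), (0, 0, 13))]

/-- Representatives moving its maximal abelian subgroups to the diagonal. -/
def extT : List M := [
  ((0, 0, 5), (5, 0, 0), (0, 5, 0)),
  ((2, 2, 2), (2, 19, 14), (2, 14, 19)),
  ((2, 2, 14), (2, 19, 19), (19, 2, 19)),
  ((2, 2, 19), (2, 19, 2), (14, 19, 19))]

/-- An element outside the frame stabiliser. -/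
def lineK : M := ((5, 5, 10), (5, 10, 5), (10, 5, 5))

/-- An element outside the field normaliser. -/
def fieldK : M := ((0, 0, 5), (0, 5, 0), (20, 0, 0))

/-- An element outside the orthogonal group. -/
def orthK : M := ((12, 0, 0), (0, 13, 0), (0, 0, 5))

/-- An element outside the extraspecial normaliser. -/
def extK : M := ((0, 1, 1), (4, 24, 6), (23, 15, 10))

/-- An element outside the field normaliser over nine elements. -/
def nineK : M := ((0, 0, 3), (0, 3, 0), (6, 0, 0))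

theorem goodA : (goodPts 5 ptsA) = true := by decide +kernel

theorem goodM : (goodPts 5 ptsM) = true := by decide +kernel

theorem goodL : (goodPts 3 ptsL) = true := by decide +kernel

theorem outA_ok : (isSU 5 2 outA && moves 5 2 ptsA outA atA) = true := by decide +kernel

theorem outM_ok : (isSU 5 2 outM && moves 5 2 ptsM outM atM) = true := by decide +kernel

theorem outL_ok : (isSU 3 2 outL && moves 3 2 ptsL outL atL) = true := by decide +kernel

theorem monA : (monOK 5 2 ptsA) = true := by decide +kernel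

theorem fieldA : (fieldOK 5 2 ptsA xA yA binvA) = true := by decide +kernel

theorem fieldL : (fieldOK 3 2 ptsL xL yL binvL) = true := by decide +kernel

theorem orthA : (orthOK 5 2 orthT) = true := by decide +kernel

theorem orthT_ok : (orthT.all fun t => isSU 5 2 t && stable 5 2 ptsA t) = true := by decide +kernel

theorem orthL : (orthOK 3 2 [oneM 3]) = true := by decide +kernel

theorem extM : (extOK 5 2 ptsM extA extB extT extR) = true := by decide +kernel

theorem lineK_ok : (isSU 5 2 lineK && stable 5 2 ptsA lineK && !(axis (mvC 5 2 lineK (5, 0, 0)))) = true := by decide +kernel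

theorem fieldK_ok : (isSU 5 2 fieldK && stable 5 2 ptsA fieldK && mmC 5 2 (mmC 5 2 (mmC 5 2 fieldK xA) (starC 5 fieldK)) xA != mmC 5 2 xA (mmC 5 2 (mmC 5 2 fieldK xA) (starC 5 fieldK))) = true := by decide +kernel

theorem nineK_ok : (isSU 3 2 nineK && stable 3 2 ptsL nineK && mmC 3 2 (mmC 3 2 (mmC 3 2 nineK xL) (starC 3 nineK)) xL != mmC 3 2 xL (mmC 3 2 (mmC 3 2 nineK xL) (starC 3 nineK))) = true := by decide +kernel

theorem orthK_ok : (isSU 5 2 orthK && stable 5 2 ptsA orthK && (List.range 25).all fun l => l == 0 || !((rats 5).contains (mulC 5 2 l orthK.1.1) && (rats 5).contains (mulC 5 2 l orthK.2.2.2.2))) = true := by decide +kernel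

theorem extK_ok : (isSU 5 2 extK && stable 5 2 ptsM extK && !(extR.contains (mmC 5 2 (mmC 5 2 (starC 5 extK) extA) extK))) = true := by decide +kernel

end CfsgLib.AschbacherUnitary.ThreeSmall
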