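import Cfsg.Agent.AschbacherUnitary.Composite

/-!
The maximal subgroups of special unitary groups in dimension twice an odd prime, up to the residual class.
-/

set_option autoImplicit false
set_option maxHeartbeats 1000000

namespace CfsgLib.AschbacherUnitary.TwicePrime

open Matrix CfsgLib.Aschbacher CfsgLib.AschbacherForms CfsgLib.AschbacherUnitary
open scoped Kronecker
attribute [-simp] RingEquiv.coe_refl

variable {n q p : ℕ} {F : Type*} [Field F] [Fintype F] {σ : F ≃+* F}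

/-- Maximal subgroups in dimension twice an odd prime. -/
theorem maximal_cases (hF : Fintype.card F = q ^ 2) (hp : p.Prime) (hp3 : 3 ≤ p) (hn : n = 2 * p)
    {H : Subgroup (GL (Fin n) F)} (hH : Cfsg.Geo.IsMaximalIn (SUn n F q) H) :
    (∃ W : Submodule F (Fin n → F), W ≠ ⊥ ∧ Cfsg.Geo.IsTotallySingularFor (Cfsg.hermForm n F q) W ∧
      H = Cfsg.Geo.subspaceStabilizer W ⊓ SUn n F q) ∨
    (∃ W : Submodule F (Fin n → F), W ≠ ⊥ ∧ Cfsg.Geo.IsNondegenerateOn (Cfsg.hermForm n F q) W ∧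
      2 * Module.finrank F W < n ∧ H = Cfsg.Geo.subspaceStabilizer W ⊓ SUn n F q) ∨
    (∃ D : Fin n → Submodule F (Fin n → F), Cfsg.Geo.IsNondegenerateMDecomposition (Cfsg.hermForm n F q) 1 D ∧
      H = Cfsg.Geo.decompositionStabilizer D ⊓ SUn n F q) ∨
    (∃ D : Fin p → Submodule F (Fin n → F), Cfsg.Geo.IsNondegenerateMDecomposition (Cfsg.hermForm n F q) 2 D ∧
      H = Cfsg.Geo.decompositionStabilizer D ⊓ SUn n F q) ∨
    (∃ D : Fin 2 → Submodule F (Fin n → F), Cfsg.Geo.IsNondegenerateMDecomposition (Cfsg.hermForm n F q) p D ∧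
      H = Cfsg.Geo.decompositionStabilizer D ⊓ SUn n F q) ∨
    (∃ D : Fin 2 → Submodule F (Fin n → F), Cfsg.Geo.IsMDecomposition p D ∧
      (∀ i, Cfsg.Geo.IsTotallySingularFor (Cfsg.hermForm n F q) (D i)) ∧
      H = Cfsg.Geo.decompositionStabilizer D ⊓ SUn n F q) ∨
    (∃ K : Subalgebra F (Matrix (Fin n) (Fin n) F), Cfsg.Geo.IsFieldSubalgebra p K ∧
      Cfsg.Geo.IsAdjointClosedFor (Cfsg.hermForm n F q) K ∧
      H = Cfsg.Geo.subalgebraNormalizer K ⊓ SUn n F q) ∨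
    (3 ≤ q ∧ ∃ (e : Fin n ≃ Fin 2 × Fin p) (P : GL (Fin n) F) (f₁ : (Fin 2 → F) → (Fin 2 → F) → F)
      (f₂ : (Fin p → F) → (Fin p → F) → F), Cfsg.Geo.IsUnitaryFormPow q f₁ ∧ Cfsg.Geo.IsUnitaryFormPow q f₂ ∧
      Cfsg.Geo.IsTensorFormStructure (fun x : F => x ^ q) (Cfsg.hermForm n F q) f₁ f₂ e P ∧
      H = Cfsg.Geo.tensorProductSubgroup 2 p e P ⊓ SUn n F q) ∨
    (∃ (F₀ : Subfield F) (r : ℕ) (P : GL (Fin n) F), r.Prime ∧ Odd r ∧ Fintype.card F = Nat.card F₀ ^ r ∧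
      Cfsg.Geo.IsFormRationalStructure (Cfsg.hermForm n F q) F₀ 1 P ∧
      H = Cfsg.Geo.subfieldSubgroup F₀ P ⊓ SUn n F q) ∨
    (∃ (F₀ : Subfield F) (P : GL (Fin n) F) (ζ : F), Fintype.card F = Nat.card F₀ ^ 2 ∧ ζ ≠ 0 ∧
      ζ + ζ ^ q = 0 ∧ Cfsg.Geo.IsFormRationalStructure (Cfsg.hermForm n F q) F₀ ζ P ∧
      (∀ u : Fin n → F, (∀ i, u i ∈ F₀) → Cfsg.hermForm n F q (mat P *ᵥ u) (mat P *ᵥ u) = 0) ∧
      H = Cfsg.Geo.subfieldSubgroup F₀ P ⊓ SUn n F q) ∨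
    (Odd q ∧ ∃ (F₀ : Subfield F) (P : GL (Fin n) F), Fintype.card F = Nat.card F₀ ^ 2 ∧
      Cfsg.Geo.IsFormRationalStructure (Cfsg.hermForm n F q) F₀ 1 P ∧
      H = Cfsg.Geo.subfieldSubgroup F₀ P ⊓ SUn n F q) ∨
    Cfsg.Geo.InUnitaryResidualClass H := by
  classical
  obtain ⟨σ, h⟩ := exists_isConj hF
  have h5 : 5 ≤ n := by omega
  have : Nonempty (Fin n) := ⟨⟨0, by omega⟩⟩
  have hu := h.unitary (n := n)
  have hf := isReflexive_unitary hu
  have hcard : Fintype.card (Fin n) = n := Fintype.card_fin n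
  have hfix : Cfsg.Geo.FixesForm (Cfsg.Geo.matrixSet H) (Cfsg.hermForm n F q) :=
    fixesForm_iff.2 (Composite.isometry_of_le hH.1.le)
  have heq : ∀ {X : Subgroup (GL (Fin n) F)}, H ≤ X → ¬ SUn n F q ≤ X → H = X ⊓ SUn n F q :=
    fun hle hne => eq_inf_of_maximal hH hle hne
  have hcases : ∀ t m : ℕ, 2 ≤ t → t * m = n → (t = n ∧ m = 1) ∨ (t = p ∧ m = 2) ∨ (t = 2 ∧ m = p) := by
    intro t m ht htm
    rw [hn] at htm ⊢
    rcases hp.dvd_mul.1 (show p ∣ t * m from htm ▸ dvd_mul_left p 2) with ⟨a, ha⟩ | ⟨a, ha⟩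
    · subst ha
      have ham : a * m = 2 := Nat.eq_of_mul_eq_mul_left hp.pos (by rw [← mul_assoc, htm, mul_comm])
      rcases (Nat.dvd_prime Nat.prime_two).1 ⟨m, ham.symm⟩ with rfl | rfl
      · exact Or.inr (Or.inl ⟨mul_one p, by omega⟩)
      · exact Or.inl ⟨mul_comm p 2, by omega⟩
    · subst ha
      have hat : t * a = 2 := Nat.eq_of_mul_eq_mul_left hp.pos (by rw [mul_left_comm, htm, mul_comm])
      rcases (Nat.dvd_prime Nat.prime_two).1 ⟨a, hat.symm⟩ with rfl | rfl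
      · omega
      · obtain rfl : a = 1 := by omega
        exact Or.inr (Or.inr ⟨rfl, mul_one p⟩)
  by_cases hirr : Cfsg.Geo.ActsIrreducibly (Cfsg.Geo.matrixSet H)
  swap
  · rcases Composite.reducible_maximal hF h h5 hH hirr with h1 | h1 | ⟨m, D, hm, hD, hEq⟩
    · exact Or.inl h1
    · exact Or.inr (Or.inl h1)
    · obtain rfl : m = p := by omega
      exact Or.inr (Or.inr (Or.inr (Or.inr (Or.inl ⟨D, hD, hEq⟩))))
  rcases star_reduction (by omega) hf hfix hirr with ⟨t, m, D, hD, htm, hle⟩ |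
    ⟨m, D, hD, hm, hts, hle, -⟩ | ⟨r, K, hr, hrd, hK, hle, hadj⟩ |
    ⟨k, d, e, P, S, T, hk, hd, hkd, hS, hT, hle, hform⟩ | ⟨N, r, m, hr, hm, -⟩ |
    ⟨d, t, φ, hd, ht, hdt, -⟩ | ⟨P, hP⟩
  · rw [hcard] at htm
    rcases hcases t m hD.decomp.two_le htm with ⟨rfl, rfl⟩ | ⟨rfl, rfl⟩ | ⟨rfl, rfl⟩
    · exact Or.inr (Or.inr (Or.inl ⟨D, hD, heq hle (not_le_decompositionStabilizer h h5 hD)⟩))
    · exact Or.inr (Or.inr (Or.inr (Or.inl
        ⟨D, hD, heq hle (CfsgLib.AschbacherTwelve.not_le_orthDecomposition h le_rfl hD)⟩)))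
    · exact Or.inr (Or.inr (Or.inr (Or.inr (Or.inl
        ⟨D, hD, heq hle (CfsgLib.AschbacherTwelve.not_le_orthDecomposition h (by omega) hD)⟩))))
  · rw [hcard] at hm
    obtain rfl : m = p := by omega
    exact Or.inr (Or.inr (Or.inr (Or.inr (Or.inr (Or.inl
      ⟨D, hD, hts, heq hle (CfsgLib.AschbacherTwelve.not_le_singularPair h (by omega) hD hts)⟩)))))
  · rw [hcard, hn] at hrd
    rcases (Nat.Prime.dvd_mul hr).1 hrd with h2 | h2
    · obtain rfl := (Nat.prime_dvd_prime_iff_eq hr Nat.prime_two).1 h2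
      exact (not_adjClosed_degree_two hu hK hadj).elim
    · obtain rfl := (Nat.prime_dvd_prime_iff_eq hr hp).1 h2
      have hclosed : Cfsg.Geo.IsAdjointClosedFor (Cfsg.hermForm n F q) K := fun x hx =>
        ⟨_, hadj x hx, fun u v => hf.adj_spec x u v⟩
      exact Or.inr (Or.inr (Or.inr (Or.inr (Or.inr (Or.inr (Or.inl ⟨K, hK, hclosed,
        heq hle (not_le_subalgebraNormalizer hF h h5 hr.two_le hK)⟩))))))
  · rw [hcard] at hkd
    obtain ⟨e, S, T, hS, hT, hle, hform⟩ : ∃ (e : Fin n ≃ Fin 2 × Fin p) (S : Matrix (Fin 2) (Fin 2) F)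
        (T : Matrix (Fin p) (Fin p) F), IsUnit S ∧ IsUnit T ∧
        H ≤ Cfsg.Geo.tensorProductSubgroup 2 p e P ∧ ∀ x y : Fin 2 × Fin p → F,
          Cfsg.hermForm n F q (mat P *ᵥ (x ∘ e)) (mat P *ᵥ (y ∘ e)) =
            Cfsg.Geo.formOfGram σ (S ⊗ₖ T) x y := by
      rcases hcases k d hk hkd with ⟨-, rfl⟩ | ⟨rfl, rfl⟩ | ⟨rfl, rfl⟩
      · omega
      · exact ⟨_, T, S, hT, hS, hle.trans (tensorProductSubgroup_swap e P), formTensor_swap hform⟩
      · exact ⟨e, S, T, hS, hT, hle, hform⟩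
    obtain ⟨S', T', c, hS', hT', hc, hSs, hTs, -, hform'⟩ :=
      CfsgLib.AschbacherTwelve.exists_hermitian_factors h (by omega) hS hT hform
    by_cases hq : q = 2
    · subst hq
      obtain ⟨D, hD, hle'⟩ := CfsgLib.AschbacherTwelve.frame_decomposition_two h (by rw [hF]; rfl) hp.pos
        hfix hc hS' hT' hSs hle hform'
      exact Or.inr (Or.inr (Or.inr (Or.inr (Or.inl
        ⟨D, hD, heq hle' (CfsgLib.AschbacherTwelve.not_le_orthDecomposition h (by omega) hD)⟩))))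
    · refine Or.inr (Or.inr (Or.inr (Or.inr (Or.inr (Or.inr (Or.inr (Or.inl ⟨by have := h.one_lt; omega, e, P,
        _, _, CfsgLib.AschbacherTwelve.isUnitaryFormPow_formOf h hS' hSs,
        CfsgLib.AschbacherTwelve.isUnitaryFormPow_formOf h hT' hTs, ⟨c, hc, fun x y => ?_⟩,
        heq hle (Composite.not_le_tensor h le_rfl hp.two_le hT' hTs hform')⟩)))))))
      rw [gramMatrix_formOf, gramMatrix_formOf, show (fun x : F => x ^ q) = ⇑σ from funext fun a => (h.eq_pow a).symm]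
      exact hform' x y
  · exfalso
    rw [hcard, hn] at hm
    have h2 : 2 ∣ r := Nat.prime_two.dvd_of_dvd_pow (hm ▸ dvd_mul_right 2 p)
    have h3 : p ∣ r := hp.dvd_of_dvd_pow (hm ▸ dvd_mul_left p 2)
    have := (Nat.prime_dvd_prime_iff_eq Nat.prime_two hr).1 h2
    have := (Nat.prime_dvd_prime_iff_eq hp hr).1 h3
    omega
  · exfalso
    rw [hcard, hn] at hdt
    have h2 : 2 ∣ d := Nat.prime_two.dvd_of_dvd_pow (hdt ▸ dvd_mul_right 2 p)
    have h4 : 4 ∣ 2 * p := by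
      rw [hdt]
      obtain ⟨a, rfl⟩ := h2
      obtain ⟨s, rfl⟩ : ∃ s, t = s + 2 := ⟨t - 2, by omega⟩
      exact ⟨a ^ 2 * (2 * a) ^ s, by ring⟩
    have h5' : 2 ∣ p := by omega
    have := (Nat.prime_dvd_prime_iff_eq Nat.prime_two hp).1 h5'
    omega
  · rcases Composite.core_cases hF h h5 hH hirr hP with h1 | h1 | h1 | h1
    · exact Or.inr (Or.inr (Or.inr (Or.inr (Or.inr (Or.inr (Or.inr (Or.inr (Or.inl h1))))))))
    · exact Or.inr (Or.inr (Or.inr (Or.inr (Or.inr (Or.inr (Or.inr (Or.inr (Or.inr (Or.inl h1)))))))))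
    · exact Or.inr (Or.inr (Or.inr (Or.inr (Or.inr (Or.inr (Or.inr (Or.inr (Or.inr (Or.inr (Or.inl h1))))))))))
    · exact Or.inr (Or.inr (Or.inr (Or.inr (Or.inr (Or.inr (Or.inr (Or.inr (Or.inr (Or.inr (Or.inr h1))))))))))

end CfsgLib.AschbacherUnitary.TwicePrime
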